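import Mathlib.RingTheory.GradedAlgebra.Homogeneous.Ideal
import Mathlib.RingTheory.GradedAlgebra.Radical
import Mathlib.RingTheory.Ideal.Height
import Mathlib.RingTheory.Ideal.KrullsHeightTheorem

/-!
# Heights of primes in `ℕ`-graded rings

A prime is at most one step above its homogeneous core; consequently a graded ring whose degree
zero part is a field has the same dimension as its localisation at the irrelevant ideal.
-/

set_option autoImplicit false
universe u v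

namespace Groth.Agent.H26Grass.Graded

variable {K : Type u} {A : Type v} [CommRing K] [CommRing A] [Algebra K A]
variable (𝒜 : ℕ → Submodule K A) [GradedAlgebra 𝒜]

/-- Elements with components in degrees `a, …, a + n`. -/
def seg (a n : ℕ) : Submodule K A := ⨆ i ∈ Finset.Icc a (a + n), 𝒜 i

variable {𝒜}

omit [GradedAlgebra 𝒜] in
theorem mem_seg {i a n : ℕ} {x : A} (hx : x ∈ 𝒜 i) (h1 : a ≤ i) (h2 : i ≤ a + n) :
    x ∈ seg 𝒜 a n :=
  Submodule.mem_iSup_of_mem i (Submodule.mem_iSup_of_mem (Finset.mem_Icc.mpr ⟨h1, h2⟩) hx)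

omit [GradedAlgebra 𝒜] in
theorem seg_mono {a n b m : ℕ} (h1 : b ≤ a) (h2 : a + n ≤ b + m) : seg 𝒜 a n ≤ seg 𝒜 b m :=
  iSup₂_le fun i hi x hx => by
    rw [Finset.mem_Icc] at hi
    exact mem_seg hx (h1.trans hi.1) (hi.2.trans h2)

omit [GradedAlgebra 𝒜] in
theorem seg_zero (a : ℕ) : seg 𝒜 a 0 ≤ 𝒜 a :=
  iSup₂_le fun i hi => by
    rw [Finset.mem_Icc] at hi
    rw [show i = a by omega]

omit [GradedAlgebra 𝒜] in
theorem seg_succ {a n : ℕ} {x : A} (hx : x ∈ seg 𝒜 a (n + 1)) :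
    ∃ y ∈ seg 𝒜 a n, ∃ z ∈ 𝒜 (a + n + 1), x = y + z := by
  have h : seg 𝒜 a (n + 1) ≤ seg 𝒜 a n ⊔ 𝒜 (a + n + 1) :=
    iSup₂_le fun i hi y hy => by
      rw [Finset.mem_Icc] at hi
      by_cases hlast : i = a + n + 1
      · exact Submodule.mem_sup_right (hlast ▸ hy)
      · exact Submodule.mem_sup_left (mem_seg hy hi.1 (by omega))
  obtain ⟨y, hy, z, hz, rfl⟩ := Submodule.mem_sup.mp (h hx)
  exact ⟨y, hy, z, hz, rfl⟩

theorem mul_mem_seg {j a n : ℕ} {z x : A} (hz : z ∈ 𝒜 j) (hx : x ∈ seg 𝒜 a n) :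
    z * x ∈ seg 𝒜 (j + a) n := by
  have h : seg 𝒜 a n ≤ (seg 𝒜 (j + a) n).comap (LinearMap.mulLeft K z) :=
    iSup₂_le fun i hi y hy => by
      rw [Finset.mem_Icc] at hi
      exact mem_seg (SetLike.mul_mem_graded hz hy) (by omega) (by omega)
  exact h hx

theorem exists_mem_seg (x : A) : ∃ a n, x ∈ seg 𝒜 a n := by
  classical
  refine ⟨0, (DirectSum.decompose 𝒜 x).support.sup id, ?_⟩
  have h : ∑ i ∈ (DirectSum.decompose 𝒜 x).support, ((DirectSum.decompose 𝒜 x i : A)) ∈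
      seg 𝒜 0 ((DirectSum.decompose 𝒜 x).support.sup id) :=
    Submodule.sum_mem _ fun i hi => mem_seg (DirectSum.decompose 𝒜 x i).2 (Nat.zero_le i)
      (by simpa using Finset.le_sup (f := id) hi)
  rwa [DirectSum.sum_support_decompose] at h

/-- Pseudo-division of `g` by `f = f₀ + l`, the homogeneous `l` of top degree `c + w + 1`. -/
theorem pseudo_div {c w : ℕ} {f₀ l : A} (hf₀ : f₀ ∈ seg 𝒜 c w) (hl : l ∈ 𝒜 (c + w + 1)) :
    ∀ (n a : ℕ) (g : A), g ∈ seg 𝒜 a n → ∃ (e D : ℕ) (h r : A), D = e * (c + w + 1) ∧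
      ((n ≤ w ∧ h = 0) ∨ ∃ b, b + c = D + a ∧ h ∈ seg 𝒜 b (n - (w + 1))) ∧
      r ∈ seg 𝒜 (D + a) (min n w) ∧ l ^ e * g = h * (f₀ + l) + r := by
  intro n
  induction n with
  | zero => exact fun a g hg => ⟨0, 0, 0, g, by simp, .inl ⟨zero_le, rfl⟩, by simpa using hg,
      by simp⟩
  | succ n ih =>
    intro a g hg
    by_cases hnw : n + 1 ≤ w
    · exact ⟨0, 0, 0, g, by simp, .inl ⟨hnw, rfl⟩,
        seg_mono (by omega) (by omega) hg, by simp⟩
    obtain ⟨g₀, hg₀, z, hz, rfl⟩ := seg_succ hg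
    have hg' : l * g₀ - z * f₀ ∈ seg 𝒜 (c + w + 1 + a) n :=
      sub_mem (mul_mem_seg hl hg₀) (seg_mono (by omega) (by omega) (mul_mem_seg hz hf₀))
    obtain ⟨e, D, h, r, hD, hh, hr, heq⟩ := ih _ _ hg'
    refine ⟨e + 1, D + (c + w + 1), l ^ e * z + h, r, by rw [hD]; ring, .inr ⟨D + a + w + 1,
      by omega, add_mem ?_ ?_⟩, seg_mono (by omega) (by omega) hr, ?_⟩
    · have hmem : l ^ e * z ∈ 𝒜 (D + (a + n + 1)) := by
        have := SetLike.mul_mem_graded (SetLike.pow_mem_graded e hl) hz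
        rwa [smul_eq_mul, ← hD] at this
      exact mem_seg hmem (by omega) (by omega)
    · rcases hh with ⟨-, rfl⟩ | ⟨b, hb, hb'⟩
      · exact zero_mem _
      · exact seg_mono (by omega) (by omega) hb'
    · linear_combination heq

/-- Between a prime `P` and a prime with the same homogeneous elements there is no further
prime. -/
theorem not_lt_lt {P q p : Ideal A} [P.IsPrime] [q.IsPrime] (hPq : P < q) (hqp : q < p)
    (hp : ∀ i, ∀ z ∈ 𝒜 i, z ∈ p → z ∈ P) : False := by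
  classical
  obtain ⟨g₁, hg₁, hg₁'⟩ := SetLike.exists_of_lt hPq
  obtain ⟨f₁, hf₁, hf₁'⟩ := SetLike.exists_of_lt hqp
  have exf : ∃ w, ∃ f ∈ p, f ∉ q ∧ ∃ c, f ∈ seg 𝒜 c w := by
    obtain ⟨c, w, h⟩ := exists_mem_seg (𝒜 := 𝒜) f₁
    exact ⟨w, f₁, hf₁, hf₁', c, h⟩
  have exg : ∃ m, ∃ g ∈ q, g ∉ P ∧ ∃ a, g ∈ seg 𝒜 a m := by
    obtain ⟨a, m, h⟩ := exists_mem_seg (𝒜 := 𝒜) g₁
    exact ⟨m, g₁, hg₁, hg₁', a, h⟩
  obtain ⟨f, hfp, hfq, c, hfc⟩ := Nat.find_spec exf
  obtain ⟨g, hgq, hgP, a, hga⟩ := Nat.find_spec exg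
  have minf : ∀ {x : A} {b k : ℕ}, x ∈ p → x ∈ seg 𝒜 b k → k < Nat.find exf → x ∈ q :=
    fun {x b k} h1 h2 h3 => by
      by_contra h4
      exact Nat.find_min exf h3 ⟨x, h1, h4, b, h2⟩
  have ming : ∀ {x : A} {b k : ℕ}, x ∈ q → x ∈ seg 𝒜 b k → k < Nat.find exg → x ∈ P :=
    fun {x b k} h1 h2 h3 => by
      by_contra h4
      exact Nat.find_min exg h3 ⟨x, h1, h4, b, h2⟩
  obtain ⟨w, hw⟩ : ∃ w, Nat.find exf = w + 1 := by
    refine Nat.exists_eq_succ_of_ne_zero fun h0 => hfq ?_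
    rw [h0] at hfc
    exact hPq.le (hp c f (seg_zero c hfc) hfp)
  obtain ⟨m, hm⟩ : ∃ m, Nat.find exg = m + 1 := by
    refine Nat.exists_eq_succ_of_ne_zero fun h0 => hgP ?_
    rw [h0] at hga
    exact hp a g (seg_zero a hga) (hqp.le hgq)
  rw [hw] at hfc minf
  rw [hm] at hga ming
  obtain ⟨f₀, hf₀, l, hl, rfl⟩ := seg_succ hfc
  obtain ⟨g₀, hg₀, z, hz, hgz⟩ := seg_succ hga
  have hlP : l ∉ P := fun h => by
    have : f₀ ∈ q := minf (by simpa using sub_mem hfp (hqp.le (hPq.le h))) hf₀ (by omega)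
    exact hfq (add_mem this (hPq.le h))
  have hzP : z ∉ P := fun h => by
    have : g₀ ∈ P := ming (by
      have := sub_mem hgq (hPq.le h)
      rwa [hgz, add_sub_cancel_right] at this) hg₀ (by omega)
    exact hgP (hgz ▸ add_mem this h)
  have hzq : z ∉ q := fun h => hzP (hp _ z hz (hqp.le h))
  have hlt : w < m := by
    by_contra hle
    have hmem : z * f₀ - l * g₀ ∈ seg 𝒜 (a + m + 1 + c) w :=
      sub_mem (mul_mem_seg hz hf₀) (seg_mono (by omega) (by omega) (mul_mem_seg hl hg₀))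
    have heq : z * f₀ - l * g₀ = z * (f₀ + l) - l * g := by rw [hgz]; ring
    rw [heq] at hmem
    have hin : z * (f₀ + l) - l * g ∈ q :=
      minf (sub_mem (p.mul_mem_left _ hfp) (p.mul_mem_left _ (hqp.le hgq))) hmem (by omega)
    have : z * (f₀ + l) ∈ q := by simpa using add_mem hin (q.mul_mem_left l hgq)
    exact ((Ideal.IsPrime.mem_or_mem ‹q.IsPrime› this).elim hzq hfq)
  obtain ⟨e, D, h, r, -, hh, hr, heq⟩ := pseudo_div hf₀ hl (m + 1) a g hga
  have hrp : r ∈ p := by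
    rw [show r = l ^ e * g - h * (f₀ + l) by rw [heq]; ring]
    exact sub_mem (p.mul_mem_left _ (hqp.le hgq)) (p.mul_mem_left _ hfp)
  have hrq : r ∈ q := minf hrp hr (by omega)
  have hrP : r ∈ P := ming hrq hr (by omega)
  have hhq : h ∈ q := by
    have : h * (f₀ + l) ∈ q := by
      rw [show h * (f₀ + l) = l ^ e * g - r by rw [heq]; ring]
      exact sub_mem (q.mul_mem_left _ hgq) hrq
    exact (Ideal.IsPrime.mem_or_mem ‹q.IsPrime› this).resolve_right hfq
  have hhP : h ∈ P := by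
    rcases hh with ⟨-, rfl⟩ | ⟨b, -, hb⟩
    · exact zero_mem _
    · exact ming hhq hb (by omega)
  have : l ^ e * g ∈ P := heq ▸ add_mem (P.mul_mem_right _ hhP) hrP
  rcases Ideal.IsPrime.mem_or_mem ‹P.IsPrime› this with h1 | h1
  · exact hlP (Ideal.IsPrime.mem_of_pow_mem ‹P.IsPrime› _ h1)
  · exact hgP h1

/-! ### Quotients by homogeneous ideals -/

variable {I : Ideal A}

/-- The homogeneous core of a prime of `A ⧸ I`. -/
noncomputable def core (𝒜 : ℕ → Submodule K A) [GradedAlgebra 𝒜] (p : Ideal (A ⧸ I)) :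
    Ideal (A ⧸ I) :=
  ((p.comap (Ideal.Quotient.mk I)).homogeneousCore 𝒜).toIdeal.map (Ideal.Quotient.mk I)

theorem le_core_comap (hI : I.IsHomogeneous 𝒜) (p : Ideal (A ⧸ I)) :
    I ≤ ((p.comap (Ideal.Quotient.mk I)).homogeneousCore 𝒜).toIdeal := by
  refine hI.toIdeal_homogeneousCore_eq_self.symm.trans_le (Ideal.homogeneousCore_mono 𝒜 ?_)
  intro x hx
  rw [Ideal.mem_comap, Ideal.Quotient.eq_zero_iff_mem.mpr hx]
  exact zero_mem _

theorem comap_core (hI : I.IsHomogeneous 𝒜) (p : Ideal (A ⧸ I)) :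
    (core 𝒜 p).comap (Ideal.Quotient.mk I) =
      ((p.comap (Ideal.Quotient.mk I)).homogeneousCore 𝒜).toIdeal := by
  rw [core, Ideal.comap_map_of_surjective _ Ideal.Quotient.mk_surjective, sup_eq_left]
  rw [← RingHom.ker_eq_comap_bot, Ideal.mk_ker]
  exact le_core_comap hI p

theorem isPrime_core (hI : I.IsHomogeneous 𝒜) (p : Ideal (A ⧸ I)) [hp : p.IsPrime] :
    (core 𝒜 p).IsPrime := by
  have hc : ((p.comap (Ideal.Quotient.mk I)).homogeneousCore 𝒜).toIdeal.IsPrime :=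
    Ideal.IsPrime.homogeneousCore (hp.comap _)
  refine Ideal.map_isPrime_of_surjective Ideal.Quotient.mk_surjective ?_
  rw [Ideal.mk_ker]
  exact le_core_comap hI p

theorem core_le (p : Ideal (A ⧸ I)) : core 𝒜 p ≤ p :=
  Ideal.map_le_iff_le_comap.mpr (Ideal.toIdeal_homogeneousCore_le 𝒜 _)

theorem core_mono {q p : Ideal (A ⧸ I)} (h : q ≤ p) : core 𝒜 q ≤ core 𝒜 p :=
  Ideal.map_mono (Ideal.homogeneousCore_mono 𝒜 (Ideal.comap_mono h))

theorem lt_comap {q p : Ideal (A ⧸ I)} (h : q < p) :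
    q.comap (Ideal.Quotient.mk I) < p.comap (Ideal.Quotient.mk I) :=
  lt_of_le_not_ge (Ideal.comap_mono h.le) fun h' => h.not_ge
    ((Ideal.comap_le_comap_iff_of_surjective _ Ideal.Quotient.mk_surjective _ _).mp h')

theorem height_le_core_add_one [IsNoetherianRing A] (hI : I.IsHomogeneous 𝒜) :
    ∀ (p : Ideal (A ⧸ I)) [p.IsPrime], p.height ≤ (core 𝒜 p).height + 1 := by
  suffices H : ∀ (n : ℕ) (p : Ideal (A ⧸ I)), p.IsPrime → (core 𝒜 p).height ≤ n →
      p.height ≤ ((n + 1 : ℕ) : ℕ∞) by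
    intro p hp
    have := isPrime_core hI p
    obtain ⟨n, hn⟩ := ENat.ne_top_iff_exists.mp
      (Ideal.height_lt_top this.ne_top).ne
    have := H n p hp hn.ge
    rw [← hn]
    exact_mod_cast this
  intro n
  induction n using Nat.strong_induction_on with
  | _ n ih =>
  intro p hp hn
  rw [Ideal.height_le_iff]
  intro q hq hqp
  have := isPrime_core hI p
  have hcq := isPrime_core hI q
  rcases (core_mono (𝒜 := 𝒜) hqp.le).eq_or_lt with heq | hlt
  · have hle : q = core 𝒜 p := by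
      refine ((core_le (𝒜 := 𝒜) q).eq_or_lt.resolve_right fun hcl => ?_).symm.trans heq
      have h1 : (core 𝒜 q).comap (Ideal.Quotient.mk I) < q.comap (Ideal.Quotient.mk I) :=
        lt_comap hcl
      have h2 : q.comap (Ideal.Quotient.mk I) < p.comap (Ideal.Quotient.mk I) :=
        lt_comap hqp
      have := hcq.comap (Ideal.Quotient.mk I)
      have := hq.comap (Ideal.Quotient.mk I)
      refine not_lt_lt (𝒜 := 𝒜) h1 h2 fun i z hz hzp => ?_
      rw [heq, comap_core hI p]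
      exact Ideal.mem_homogeneousCore_of_homogeneous_of_mem ⟨i, hz⟩ hzp
    rw [hle]
    exact lt_of_le_of_lt hn (by exact_mod_cast Nat.lt_succ_self n)
  · have hlt' : (core 𝒜 q).height < (core 𝒜 p).height :=
      Ideal.height_strict_mono_of_isPrime hlt
    obtain ⟨k, hk⟩ := ENat.ne_top_iff_exists.mp (Ideal.height_lt_top hcq.ne_top).ne
    have hkn : k < n := by
      have := lt_of_lt_of_le hlt' hn
      rw [← hk] at this
      exact_mod_cast this
    exact lt_of_le_of_lt (ih k hkn q hq hk.ge) (by exact_mod_cast (by omega : k + 1 < n + 1))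

/-- If the degree zero part is a field, a graded ring has the dimension of its irrelevant
ideal. -/
theorem ringKrullDim_eq_height_irrelevant [IsNoetherianRing A] (hI : I.IsHomogeneous 𝒜)
    (h0 : ∀ a ∈ 𝒜 0, ∃ c : K, algebraMap K A c = a) (hK : IsField K)
    [hm : ((HomogeneousIdeal.irrelevant 𝒜).toIdeal.map (Ideal.Quotient.mk I)).IsPrime] :
    ringKrullDim (A ⧸ I) =
      (((HomogeneousIdeal.irrelevant 𝒜).toIdeal.map (Ideal.Quotient.mk I)).height :
        WithBot ℕ∞) := by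
  refine le_antisymm ?_ (Ideal.height_le_ringKrullDim_of_ne_top hm.ne_top)
  have key : ∀ J : Ideal A, J.IsHomogeneous 𝒜 → J ≠ ⊤ →
      J ≤ (HomogeneousIdeal.irrelevant 𝒜).toIdeal := by
    intro J hJ hne x hx
    show GradedRing.proj 𝒜 0 x = 0
    rw [GradedRing.proj_apply]
    obtain ⟨c, hc⟩ := h0 _ (DirectSum.decompose 𝒜 x 0).2
    by_contra hne0
    refine hne (Ideal.eq_top_of_isUnit_mem _ (hJ 0 hx) ?_)
    rw [← hc]
    refine (IsUnit.map (algebraMap K A) ?_)
    let := hK.toField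
    refine isUnit_iff_ne_zero.mpr fun hc0 => hne0 ?_
    rw [← hc, hc0, map_zero]
  refine (ringKrullDim_le_iff_isMaximal_height_le _).mpr fun p hp => ?_
  have := hp.isPrime
  have hcp := isPrime_core hI p (𝒜 := 𝒜)
  set M := (HomogeneousIdeal.irrelevant 𝒜).toIdeal.map (Ideal.Quotient.mk I)
  have hcM : core 𝒜 p ≤ M := Ideal.map_mono (key _ (HomogeneousIdeal.isHomogeneous _)
    (ne_top_of_le_ne_top (hp.isPrime.comap (Ideal.Quotient.mk I)).ne_top
      (Ideal.toIdeal_homogeneousCore_le 𝒜 _)))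
  refine WithBot.coe_le_coe.mpr ?_
  rcases hcM.eq_or_lt with h | h
  · refine Ideal.height_mono ?_
    have hle : M ≤ p := h ▸ core_le p
    refine fun x hx => ?_
    have hMmax : M.IsMaximal := by
      refine Ideal.isMaximal_iff.mpr ⟨fun h1 => hm.ne_top ((Ideal.eq_top_iff_one M).mpr h1),
        fun J y hMJ hyM hyJ => ?_⟩
      obtain ⟨y, rfl⟩ := Ideal.Quotient.mk_surjective y
      obtain ⟨c, hc⟩ := h0 _ (DirectSum.decompose 𝒜 y 0).2
      have hirr : y - algebraMap K A c ∈ (HomogeneousIdeal.irrelevant 𝒜).toIdeal := by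
        show GradedRing.proj 𝒜 0 _ = 0
        rw [GradedRing.proj_apply, hc, DirectSum.decompose_sub, DirectSum.sub_apply, AddSubgroupClass.coe_sub,
          DirectSum.decompose_of_mem_same 𝒜 (DirectSum.decompose 𝒜 y 0).2]
        simp
      let := hK.toField
      have hc0 : c ≠ 0 := fun hc0 => hyM (Ideal.mem_map_of_mem _ (by simpa [hc0] using hirr))
      have hcJ : Ideal.Quotient.mk I (algebraMap K A c) ∈ J := by
        have := sub_mem hyJ (hMJ (Ideal.mem_map_of_mem (Ideal.Quotient.mk I) hirr))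
        rwa [map_sub, sub_sub_cancel] at this
      rw [← Ideal.eq_top_iff_one]
      exact Ideal.eq_top_of_isUnit_mem _ hcJ
        (((isUnit_iff_ne_zero.mpr hc0).map (algebraMap K A)).map _)
    rwa [hMmax.eq_of_le hp.ne_top hle]
  · exact (height_le_core_add_one hI p).trans (Order.add_one_le_of_lt (Ideal.height_strict_mono_of_isPrime h))

/-- An element whose degree zero component is a unit is regular modulo a homogeneous ideal. -/
theorem mem_of_mul_mem (hI : I.IsHomogeneous 𝒜) {s z : A}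
    (hs : IsUnit (DirectSum.decompose 𝒜 s 0 : A)) (h : s * z ∈ I) : z ∈ I := by
  classical
  suffices H : ∀ n, (DirectSum.decompose 𝒜 z n : A) ∈ I by
    rw [← DirectSum.sum_support_decompose 𝒜 z]
    exact I.sum_mem fun i _ => H i
  intro n
  induction n using Nat.strong_induction_on with
  | _ n ih =>
  have hn : (DirectSum.decompose 𝒜 (s * z) n : A) ∈ I := hI n h
  rw [show s * z = ∑ j ∈ (DirectSum.decompose 𝒜 s).support, (DirectSum.decompose 𝒜 s j : A) * z by
    rw [← Finset.sum_mul, DirectSum.sum_support_decompose], DirectSum.decompose_sum,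
    DFinsupp.finsetSum_apply, AddSubmonoidClass.coe_finset_sum] at hn
  have hterm : ∀ j, j ≠ 0 →
      (DirectSum.decompose 𝒜 ((DirectSum.decompose 𝒜 s j : A) * z) n : A) ∈ I := by
    intro j hj
    by_cases hjn : j ≤ n
    · rw [DirectSum.coe_decompose_mul_of_left_mem_of_le 𝒜 (DirectSum.decompose 𝒜 s j).2 hjn]
      exact I.mul_mem_left _ (ih (n - j) (by omega))
    · rw [DirectSum.coe_decompose_mul_of_left_mem_of_not_le 𝒜 (DirectSum.decompose 𝒜 s j).2 hjn]
      exact I.zero_mem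
  by_cases h0 : (0 : ℕ) ∈ (DirectSum.decompose 𝒜 s).support
  · rw [← Finset.add_sum_erase _ _ h0] at hn
    have h1 := sub_mem hn (I.sum_mem (t := (DirectSum.decompose 𝒜 s).support.erase 0)
      fun j hj => hterm j (Finset.ne_of_mem_erase hj))
    rw [add_sub_cancel_right, DirectSum.coe_decompose_mul_of_left_mem_of_le 𝒜
      (DirectSum.decompose 𝒜 s 0).2 (Nat.zero_le n), Nat.sub_zero] at h1
    exact (Ideal.unit_mul_mem_iff_mem I hs).mp h1
  · rw [DFinsupp.notMem_support_iff] at h0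
    rw [h0, ZeroMemClass.coe_zero, isUnit_zero_iff] at hs
    rw [← mul_one ((DirectSum.decompose 𝒜 z n : A)), ← hs, mul_zero]
    exact I.zero_mem

/-- Minimal primes over a homogeneous ideal are homogeneous. -/
theorem isHomogeneous_of_mem_minimalPrimes (hI : I.IsHomogeneous 𝒜) {q : Ideal A}
    (hq : q ∈ I.minimalPrimes) : q.IsHomogeneous 𝒜 := by
  have hc : (q.homogeneousCore 𝒜).toIdeal.IsPrime := Ideal.IsPrime.homogeneousCore hq.1.1
  have hle : I ≤ (q.homogeneousCore 𝒜).toIdeal :=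
    hI.toIdeal_homogeneousCore_eq_self.symm.trans_le (Ideal.homogeneousCore_mono 𝒜 hq.1.2)
  have := hq.2 ⟨hc, hle⟩ (Ideal.toIdeal_homogeneousCore_le 𝒜 q)
  rw [le_antisymm this (Ideal.toIdeal_homogeneousCore_le 𝒜 q)]
  exact (q.homogeneousCore 𝒜).isHomogeneous

end Groth.Agent.H26Grass.Graded
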