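import Groth.Agent.H29Curve.Trdeg
import Mathlib.RingTheory.AlgebraicIndependent.TranscendenceBasis
import Mathlib.RingTheory.Algebraic.Integral
import Mathlib.RingTheory.Ideal.GoingUp

set_option autoImplicit false
universe u

/-! The dimension of an affine domain which is birational to a polynomial ring. -/

namespace Groth.Agent.H26Grass

theorem ringKrullDim_le_of_integral {R S : Type*} [CommRing R] [CommRing S] [Algebra R S]
    [Algebra.IsIntegral R S] : ringKrullDim S ≤ ringKrullDim R :=
  Order.krullDim_le_of_strictMono (fun q => PrimeSpectrum.comap (algebraMap R S) q)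
    (fun _ _ hpq => Ideal.IsIntegral.comap_lt_comap (R := R) (A := S) hpq)

theorem ringKrullDim_of_birational (k : Type u) [Field k] (R : Type u) [CommRing R] [Algebra k R]
    [Algebra.FiniteType k R] (σ : Type) [Fintype σ] (φ : R →ₐ[k] MvPolynomial σ k)
    (hφ : Function.Injective φ) (p : R) (hp : φ p ≠ 0)
    (hgen : ∀ q, ∃ (j : ℕ) (a : R), φ a = φ p ^ j * q) :
    ringKrullDim R = ((Fintype.card σ : ℕ) : WithBot ℕ∞) := by
  classical
  haveI : IsDomain R := hφ.isDomain φ.toRingHom
  obtain ⟨s, g, hg, hfin⟩ := exists_finite_inj_algHom_of_fg k R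
  have hint : g.toRingHom.IsIntegral := RingHom.IsIntegral.of_finite hfin
  have hdim : ringKrullDim R = ringKrullDim (MvPolynomial (Fin s) k) := by
    refine le_antisymm ?_ (H29Curve.ringKrullDim_le_of_isIntegral g.toRingHom hint hg)
    letI := g.toRingHom.toAlgebra
    haveI : Algebra.IsIntegral (MvPolynomial (Fin s) k) R := ⟨hint⟩
    exact ringKrullDim_le_of_integral
  rw [hdim, MvPolynomial.ringKrullDim_of_isNoetherianRing, ringKrullDim_eq_zero_of_field, zero_add, Nat.card_fin]
  set y : Fin s → MvPolynomial σ k := fun i => φ (g (MvPolynomial.X i)) with hy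
  have hae : (φ.comp g) = MvPolynomial.aeval y := MvPolynomial.algHom_ext fun i => by simp [y]
  have hind : AlgebraicIndependent k y := by
    rw [AlgebraicIndependent, ← hae]; exact hφ.comp hg
  set B := Algebra.adjoin k (Set.range y)
  have halgR : ∀ a, IsAlgebraic B (φ a) := by
    intro a
    obtain ⟨Q, hQ, hQa⟩ := hint a
    have hm : ∀ z, φ (g z) ∈ B := fun z => by
      show φ (g z) ∈ Algebra.adjoin k (Set.range y)
      rw [Algebra.adjoin_range_eq_range_aeval, show φ (g z) = MvPolynomial.aeval y z from AlgHom.congr_fun hae z]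
      exact ⟨z, rfl⟩
    refine IsIntegral.isAlgebraic ⟨Q.map ((φ.comp g).toRingHom.codRestrict B.toSubring hm), hQ.map _, ?_⟩
    rw [Polynomial.eval₂_map, show (algebraMap B (MvPolynomial σ k)).comp
        ((φ.comp g).toRingHom.codRestrict B.toSubring hm) = φ.toRingHom.comp g.toRingHom from rfl,
      show φ a = φ.toRingHom a from rfl, ← Polynomial.hom_eval₂, hQa, map_zero]
  have halg : Algebra.IsAlgebraic B (MvPolynomial σ k) := ⟨fun q => by
    obtain ⟨j, a, ha⟩ := hgen q
    refine IsAlgebraic.of_mul (mem_nonZeroDivisors_of_ne_zero (pow_ne_zero j hp)) ?_ (ha ▸ halgR a)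
    rw [← map_pow]; exact halgR _⟩
  have hb : IsTranscendenceBasis k y :=
    isTranscendenceBasis_iff_algebraicIndependent_isAlgebraic.2 ⟨hind, halg⟩
  have h := hb.lift_cardinalMk_eq_trdeg
  rw [MvPolynomial.trdeg_of_isDomain, Cardinal.mk_fin, Cardinal.mk_fintype] at h
  simp at h
  rw [h]

end Groth.Agent.H26Grass
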