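import Mathlib.RingTheory.Localization.AtPrime.Basic
import Mathlib.RingTheory.Localization.Ideal
import Groth.Prelude.Def_CAlg
import Groth.Agent.H8Props.FlatDepth

/-!
# Localisation of a quotient ring
-/

set_option autoImplicit false
universe u

open IsLocalRing LocCoh

namespace Groth.Agent.H26Grass

variable {R C : Type u} [CommRing R] [CommRing C] (f : R →+* C)

theorem localRingHom_surjective (hf : Function.Surjective f) (Q : Ideal C) [Q.IsPrime] :
    Function.Surjective (Localization.localRingHom (Q.comap f) Q f rfl) := by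
  intro z
  obtain ⟨⟨c, s⟩, rfl⟩ := IsLocalization.mk'_surjective Q.primeCompl z
  obtain ⟨a, rfl⟩ := hf c
  obtain ⟨t, ht⟩ := hf (s : C)
  have hts : t ∈ (Q.comap f).primeCompl := fun h => s.2 (ht ▸ Ideal.mem_comap.1 h)
  refine ⟨IsLocalization.mk' _ a (⟨t, hts⟩ : (Q.comap f).primeCompl), ?_⟩
  rw [Localization.localRingHom_mk']
  congr 1
  exact Subtype.ext ht

theorem ker_localRingHom (hf : Function.Surjective f) (Q : Ideal C) [Q.IsPrime] :
    RingHom.ker (Localization.localRingHom (Q.comap f) Q f rfl) =
      (RingHom.ker f).map (algebraMap R (Localization.AtPrime (Q.comap f))) := by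
  refine le_antisymm (fun z hz => ?_) ?_
  · obtain ⟨⟨a, s⟩, rfl⟩ := IsLocalization.mk'_surjective (Q.comap f).primeCompl z
    rw [RingHom.mem_ker, Localization.localRingHom_mk', IsLocalization.mk'_eq_zero_iff] at hz
    obtain ⟨u, hu⟩ := hz
    obtain ⟨t, ht⟩ := hf (u : C)
    have htp : t ∈ (Q.comap f).primeCompl := fun h => u.2 (ht ▸ Ideal.mem_comap.1 h)
    refine (IsLocalization.mk'_mem_map_algebraMap_iff (Q.comap f).primeCompl _ _ a s).mpr
      ⟨t, htp, ?_⟩
    rw [RingHom.mem_ker, map_mul, ht]
    exact hu
  · rw [Ideal.map_le_iff_le_comap]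
    intro a ha
    rw [Ideal.mem_comap, RingHom.mem_ker, Localization.localRingHom_to_map, RingHom.mem_ker.1 ha,
      map_zero]

/-- The localisation of a quotient is the quotient of the localisation. -/
noncomputable def quotLocEquiv (hf : Function.Surjective f) (Q : Ideal C) [Q.IsPrime] :
    (Localization.AtPrime (Q.comap f) ⧸
        (RingHom.ker f).map (algebraMap R (Localization.AtPrime (Q.comap f)))) ≃+*
      Localization.AtPrime Q :=
  (Ideal.quotEquivOfEq (ker_localRingHom f hf Q).symm).trans
    (RingHom.quotientKerEquivOfSurjective (localRingHom_surjective f hf Q))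

/-- Depth and dimension of `R_P / ker` as an `R_P`-module. -/
theorem depth_quot_eq (hf : Function.Surjective f) (Q : Ideal C) [Q.IsPrime]
    [IsNoetherianRing R] :
    depth (Localization.AtPrime (Q.comap f)) (Localization.AtPrime (Q.comap f) ⧸
        (RingHom.ker f).map (algebraMap R (Localization.AtPrime (Q.comap f)))) =
      depth (Localization.AtPrime Q) (Localization.AtPrime Q) := by
  let φ := Localization.localRingHom (Q.comap f) Q f rfl
  letI := φ.toAlgebra
  rw [H8Props.FlatDepth.depth_eq_of_surjective
    (R := Localization.AtPrime (Q.comap f)) (localRingHom_surjective f hf Q)]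
  refine H4Depth.depth_congr ?_
  exact (Submodule.quotEquivOfEq _ _ (ker_localRingHom f hf Q).symm).trans
    (LinearMap.quotKerEquivOfSurjective (Algebra.linearMap (Localization.AtPrime (Q.comap f))
      (Localization.AtPrime Q)) (localRingHom_surjective f hf Q))

theorem supportDim_quot_eq (hf : Function.Surjective f) (Q : Ideal C) [Q.IsPrime] :
    ringKrullDim (Localization.AtPrime (Q.comap f) ⧸
        (RingHom.ker f).map (algebraMap R (Localization.AtPrime (Q.comap f)))) =
      ringKrullDim (Localization.AtPrime Q) :=
  ringKrullDim_eq_of_ringEquiv (quotLocEquiv f hf Q)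

end Groth.Agent.H26Grass
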