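import Groth.Agent.H26Grass.Graded
import Groth.Agent.H26Grass.LocQuot
import Groth.Agent.H4Depth.CM
import Groth.Agent.H4Depth.LocDepth
import Groth.Agent.H4Depth.SkFree
import Groth.Agent.H8Props.StalkLocal
import Mathlib.RingTheory.MvPolynomial.Homogeneous
import Mathlib.RingTheory.Nullstellensatz
import Mathlib.GroupTheory.CosetCover
import Mathlib.RingTheory.Ideal.AssociatedPrime.Localization
import Mathlib.RingTheory.Localization.LocalizationLocalization

/-!
# Cones: Cohen–Macaulayness is decided at the vertex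
-/

set_option autoImplicit false
universe u

open IsLocalRing LocCoh MvPolynomial
open scoped Pointwise

namespace Groth.Agent.H26Grass

/-! ### A regular element -/

theorem isCM_iff_of_regular {R C : Type u} [CommRing R] [CommRing C] [IsNoetherianRing R]
    (f : R →+* C) (hf : Function.Surjective f) (y : R) (hker : RingHom.ker f = Ideal.span {y})
    (hreg : IsSMulRegular R y) (Q : Ideal C) [Q.IsPrime] (P : Ideal R) [P.IsPrime]
    (hP : P = Q.comap f) :
    IsCohenMacaulayLocalRing (Localization.AtPrime P) ↔
      IsCohenMacaulayLocalRing (Localization.AtPrime Q) := by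
  subst hP
  have : IsNoetherianRing C := isNoetherianRing_of_surjective R C f hf
  set L := Localization.AtPrime (Q.comap f) with hL
  set yL : L := algebraMap R L y with hyL
  have hyker : f y = 0 := RingHom.mem_ker.mp (hker ▸ Ideal.mem_span_singleton_self y)
  have hym : yL ∈ maximalIdeal L :=
    (IsLocalization.AtPrime.to_map_mem_maximal_iff _ (Q.comap f) _).mpr
      (Ideal.mem_comap.mpr (hyker ▸ Q.zero_mem))
  have hyreg : IsSMulRegular L yL := by
    rw [isSMulRegular_iff_right_eq_zero_of_smul]
    intro z hz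
    obtain ⟨⟨a, s⟩, rfl⟩ := IsLocalization.mk'_surjective (Q.comap f).primeCompl z
    rw [smul_eq_mul, hyL, IsLocalization.mul_mk'_eq_mk'_of_mul, IsLocalization.mk'_eq_zero_iff] at hz
    obtain ⟨t, ht⟩ := hz
    rw [IsLocalization.mk'_eq_zero_iff]
    exact ⟨t, hreg.right_eq_zero_of_smul (by rw [smul_eq_mul]; linear_combination ht)⟩
  have heq : yL • (⊤ : Submodule L L) = (RingHom.ker f).map (algebraMap R L) := by
    rw [hker, Ideal.map_span, Set.image_singleton, ← Submodule.ideal_span_singleton_smul,
      Ideal.smul_eq_mul, Ideal.mul_top]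
  let e : QuotSMulTop yL L ≃ₗ[L] L ⧸ (RingHom.ker f).map (algebraMap R L) :=
    Submodule.quotEquivOfEq _ _ heq
  have h1 : IsCohenMacaulayLocalRing L ↔ IsCohenMacaulayModule L L :=
    ⟨fun h => h.supportDim_eq_depth, fun h => { supportDim_eq_depth := h }⟩
  rw [h1, ← H4Depth.isCM_quotSMulTop_iff hym hyreg, H8Props.FlatDepth.isCM_iff_dim,
    IsCohenMacaulayModule, Module.supportDim_eq_of_equiv e, H4Depth.depth_congr e,
    Module.supportDim_quotient_eq_ringKrullDim, supportDim_quot_eq f hf Q, depth_quot_eq f hf Q]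

theorem isCM_localization_of_le {R : Type u} [CommRing R] {p P : Ideal R} [p.IsPrime] [P.IsPrime]
    (h : p ≤ P) [IsCohenMacaulayLocalRing (Localization.AtPrime P)] :
    IsCohenMacaulayLocalRing (Localization.AtPrime p) := by
  have hdisj : Disjoint (P.primeCompl : Set R) p :=
    Set.disjoint_left.mpr fun a ha hap => ha (h hap)
  have hq := IsLocalization.isPrime_of_isPrime_disjoint P.primeCompl (Localization.AtPrime P) p
    ‹p.IsPrime› hdisj
  have hc : (p.map (algebraMap R (Localization.AtPrime P))).comap
      (algebraMap R (Localization.AtPrime P)) = p :=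
    IsLocalization.under_map_of_isPrime_disjoint P.primeCompl (Localization.AtPrime P)
      ‹p.IsPrime› hdisj
  generalize p.map (algebraMap R (Localization.AtPrime P)) = q at hq hc
  subst hc
  have := H8Props.StalkLocal.isCohenMacaulayLocalRing_localization (Localization.AtPrime P) q
  exact H8Props.CMAt.isCohenMacaulayLocalRing_of_ringEquiv
    (IsLocalization.algEquiv (q.comap (algebraMap R (Localization.AtPrime P))).primeCompl
      (Localization.AtPrime q) (Localization.AtPrime (q.comap (algebraMap R (Localization.AtPrime P))))).toRingEquiv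

theorem ringKrullDim_localization_le_one {R : Type u} [CommRing R] [IsNoetherianRing R]
    (m : Ideal R) [m.IsPrime] [IsCohenMacaulayLocalRing (Localization.AtPrime m)] {Q : Ideal R}
    (hQ : Q ∈ associatedPrimes R R) (hQm : Q ≤ m)
    (H : ∀ q q' q'' : Ideal R, q.IsPrime → q'.IsPrime → q''.IsPrime → Q ≤ q → q < q' → q' < q'' →
      False) :
    ringKrullDim (Localization.AtPrime m) ≤ 1 := by
  have hQp : Q.IsPrime := hQ.isPrime
  have hdisj : Disjoint (m.primeCompl : Set R) Q :=
    Set.disjoint_left.mpr fun a ha haQ => ha (hQm haQ)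
  have hc := IsLocalization.under_map_of_isPrime_disjoint m.primeCompl (Localization.AtPrime m) hQp
    hdisj
  have hQL : Q.map (algebraMap R (Localization.AtPrime m)) ∈
      associatedPrimes (Localization.AtPrime m) (Localization.AtPrime m) :=
    Module.associatedPrimes.mem_associatedPrimes_of_comap_mem_associatedPrimes_of_isLocalizedModule
      m.primeCompl (Algebra.linearMap R (Localization.AtPrime m))
      (Q.map (algebraMap R (Localization.AtPrime m)))
      (by
        show (Q.map (algebraMap R (Localization.AtPrime m))).under R ∈ _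
        rw [hc]
        exact hQ)
  rw [← Module.supportDim_self_eq_ringKrullDim,
    ← H4Depth.IsCM.ringKrullDim_quotient_eq
      (IsCohenMacaulayLocalRing.supportDim_eq_depth (R := Localization.AtPrime m)) hQL,
    ringKrullDim_quotient]
  refine iSup_le fun l => ?_
  by_contra hlen
  have h2 : 2 ≤ l.length := by
    by_contra h
    exact hlen (by exact_mod_cast (by omega : l.length ≤ 1))
  have hlt : ∀ (j k : Fin (l.length + 1)), j < k →
      (l j).1.asIdeal.comap (algebraMap R (Localization.AtPrime m)) <
        (l k).1.asIdeal.comap (algebraMap R (Localization.AtPrime m)) := fun j k hjk =>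
    (IsLocalization.AtPrime.primeSpectrumOrderIso (Localization.AtPrime m) m).strictMono
      (l.strictMono hjk)
  exact H _ _ _ ((l ⟨0, by omega⟩).1.2.comap _) ((l ⟨1, by omega⟩).1.2.comap _)
    ((l ⟨2, by omega⟩).1.2.comap _) (Ideal.map_le_iff_le_comap.mp (l ⟨0, by omega⟩).2)
    (hlt _ _ (Fin.mk_lt_mk.mpr zero_lt_one)) (hlt _ _ (Fin.mk_lt_mk.mpr one_lt_two))

/-! ### Lines through the origin -/

namespace Cone

variable {K : Type u} [Field K] {σ : Type} [Fintype σ]

attribute [local instance] MvPolynomial.gradedAlgebra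

/-- Restriction to the line through `x`. -/
noncomputable def toLine (x : σ → K) : MvPolynomial (σ) K →ₐ[K] Polynomial K :=
  aeval fun i => Polynomial.C (x i) * Polynomial.X

/-- The ideal of the line through `x`. -/
noncomputable def line (x : σ → K) : Ideal (MvPolynomial (σ) K) :=
  RingHom.ker (toLine x).toRingHom

theorem mem_line {x : σ → K} {f : MvPolynomial (σ) K} :
    f ∈ line x ↔ toLine x f = 0 := RingHom.mem_ker

instance (x : σ → K) : (line x).IsPrime := RingHom.ker_isPrime _

theorem eval_toLine (x : σ → K) (t : K) (f : MvPolynomial (σ) K) :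
    (toLine x f).eval t = eval (fun i => x i * t) f := by
  have h : (Polynomial.aeval t).comp (toLine x) = aeval (fun i => x i * t) := by
    apply algHom_ext
    intro i
    simp [toLine]
  have := congrArg (fun φ : MvPolynomial (σ) K →ₐ[K] K => φ f) h
  simp only [AlgHom.comp_apply, Polynomial.coe_aeval_eq_eval] at this
  rw [this]
  simp [aeval_eq_eval₂Hom]

theorem line_le_eval (x : σ → K) : line x ≤ RingHom.ker (eval x) := fun f hf => by
  have := eval_toLine x 1 f
  rw [mem_line.mp hf, Polynomial.eval_zero] at this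
  simpa using this.symm

theorem line_le_constantCoeff (x : σ → K) :
    line x ≤ RingHom.ker (constantCoeff : MvPolynomial (σ) K →+* K) := fun f hf => by
  have := eval_toLine x 0 f
  rw [mem_line.mp hf, Polynomial.eval_zero] at this
  simpa [eval_zero'] using this.symm

theorem toLine_eq_of_isHomogeneous (x : σ → K) {f : MvPolynomial (σ) K} {k : ℕ}
    (hf : f.IsHomogeneous k) : toLine x f = Polynomial.C (eval x f) * Polynomial.X ^ k := by
  conv_lhs => rw [f.as_sum]
  conv_rhs => rw [f.as_sum]
  simp only [map_sum, Finset.sum_mul]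
  refine Finset.sum_congr rfl fun d hd => ?_
  have hk : ∑ i, d i = k := by
    rw [← Finsupp.degree_eq_sum, Finsupp.degree_eq_weight_one]
    exact hf (mem_support_iff.mp hd)
  simp only [toLine, aeval_monomial, eval_monomial, mul_pow, map_mul,
    Polynomial.algebraMap_eq]
  rw [Finsupp.prod_fintype _ _ (fun _ => by simp), Finsupp.prod_fintype _ _ (fun _ => by simp),
    Finset.prod_mul_distrib, Finset.prod_pow_eq_pow_sum, hk, map_prod]
  simp only [map_pow]
  ring

/-- A homogeneous ideal vanishing at `x` vanishes on the line through `x`. -/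
theorem le_line {x : σ → K} {J : Ideal (MvPolynomial (σ) K)}
    (hJ : J.IsHomogeneous (homogeneousSubmodule (σ) K)) (h : J ≤ RingHom.ker (eval x)) :
    J ≤ line x := fun f hf => by
  classical
  rw [mem_line, ← DirectSum.sum_support_decompose (homogeneousSubmodule (σ) K) f, map_sum]
  refine Finset.sum_eq_zero fun k _ => ?_
  rw [toLine_eq_of_isHomogeneous x ((mem_homogeneousSubmodule _ _).mp
    (DirectSum.decompose (homogeneousSubmodule (σ) K) f k).2),
    RingHom.mem_ker.mp (h (hJ k hf)), map_zero, zero_mul]

variable {x : σ → K} {i : σ}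

theorem line_lt_constantCoeff (hi : x i ≠ 0) :
    line x < RingHom.ker (constantCoeff : MvPolynomial (σ) K →+* K) := by
  refine lt_of_le_of_ne (line_le_constantCoeff x) fun h => ?_
  have hX : (X i : MvPolynomial (σ) K) ∈ line x := by
    rw [h, RingHom.mem_ker, constantCoeff_X]
  rw [mem_line] at hX
  simp [toLine, hi] at hX

theorem line_lt_eval (hi : x i ≠ 0) : line x < RingHom.ker (eval x) := by
  refine lt_of_le_of_ne (line_le_eval x) fun h => ?_
  have hX : (X i - C (x i) : MvPolynomial (σ) K) ∈ line x := by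
    rw [h, RingHom.mem_ker]
    simp
  rw [mem_line] at hX
  have := congrArg (Polynomial.eval 0) hX
  simp [toLine, hi] at this

theorem toLine_surjective (hi : x i ≠ 0) : Function.Surjective (toLine x) := by
  rw [← AlgHom.range_eq_top, eq_top_iff, ← Polynomial.adjoin_X, Algebra.adjoin_le_iff,
    Set.singleton_subset_iff]
  refine ⟨C (x i)⁻¹ * X i, ?_⟩
  show toLine x (C (x i)⁻¹ * X i) = _
  simp only [toLine, map_mul, aeval_C, aeval_X, Polynomial.algebraMap_eq]
  rw [← mul_assoc, ← map_mul, inv_mul_cancel₀ hi, map_one, one_mul]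

/-- A prime above the line is the line or a maximal ideal. -/
theorem eq_line_or_isMaximal (hi : x i ≠ 0) {q : Ideal (MvPolynomial (σ) K)} [q.IsPrime]
    (hq : line x ≤ q) : q = line x ∨ q.IsMaximal := by
  have hsurj := toLine_surjective hi
  have hker : RingHom.ker (toLine x).toRingHom ≤ q := hq
  have hp : (q.map (toLine x).toRingHom).IsPrime := Ideal.map_isPrime_of_surjective hsurj hker
  have hc : (q.map (toLine x).toRingHom).comap (toLine x).toRingHom = q := by
    rw [Ideal.comap_map_of_surjective (toLine x).toRingHom hsurj, ← RingHom.ker_eq_comap_bot, sup_eq_left]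
    exact hker
  by_cases hb : q.map (toLine x).toRingHom = ⊥
  · left
    rw [← hc, hb, ← RingHom.ker_eq_comap_bot]
    rfl
  · right
    have : (q.map (toLine x).toRingHom).IsMaximal := hp.isMaximal hb
    rw [← hc]
    exact Ideal.comap_isMaximal_of_surjective _ hsurj

theorem eq_line_of_lt (hi : x i ≠ 0) {q P : Ideal (MvPolynomial (σ) K)} [q.IsPrime]
    (hP : P ≠ ⊤) (hq : line x ≤ q) (hlt : q < P) : q = line x :=
  (eq_line_or_isMaximal hi hq).resolve_right fun h => hlt.ne (h.eq_of_le hP hlt.le)

/-- The linear form with coefficients `a`. -/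
noncomputable def linForm : (σ → K) →ₗ[K] MvPolynomial (σ) K :=
  ∑ j, (LinearMap.proj j).smulRight (X j)

theorem linForm_apply (a : σ → K) : linForm a = ∑ j, C (a j) * X j := by
  simp [linForm, smul_eq_C_mul]

theorem isHomogeneous_linForm (a : σ → K) : (linForm a).IsHomogeneous 1 := by
  rw [linForm_apply]
  exact IsHomogeneous.sum _ _ _ fun j _ => (isHomogeneous_X K j).C_mul _

/-- A prime containing every linear form vanishing at `x` contains the line. -/
theorem line_le_of_linForm_mem (hi : x i ≠ 0) {q : Ideal (MvPolynomial (σ) K)}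
    (h : ∀ a : σ → K, ∑ j, a j * x j = 0 → linForm a ∈ q) : line x ≤ q := by
  classical
  intro f hf
  have hcomp : (Polynomial.aeval
      (algebraMap K (MvPolynomial (σ) K ⧸ q) (x i)⁻¹ * Ideal.Quotient.mk q (X i))).comp
        (toLine x) = Ideal.Quotient.mkₐ K q := by
    apply algHom_ext
    intro j
    simp only [AlgHom.comp_apply, toLine, aeval_X, map_mul, Polynomial.aeval_C,
      Polynomial.aeval_X, Ideal.Quotient.mkₐ_eq_mk]
    rw [← mul_assoc, ← map_mul, IsScalarTower.algebraMap_apply K (MvPolynomial (σ) K)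
      (MvPolynomial (σ) K ⧸ q), Ideal.Quotient.algebraMap_eq, ← map_mul, eq_comm,
      Ideal.Quotient.eq, algebraMap_eq]
    have := h (Pi.single j 1 - (x j * (x i)⁻¹) • Pi.single i 1) (by
      simp only [Pi.sub_apply, Pi.smul_apply, smul_eq_mul, sub_mul, Finset.sum_sub_distrib,
        mul_assoc, ← Finset.mul_sum]
      simp [Pi.single_apply, hi])
    rw [linForm_apply] at this
    simpa [sub_mul, Finset.sum_sub_distrib, mul_assoc, Pi.single_apply, apply_ite C] using this
  have := congrArg (fun φ : MvPolynomial (σ) K →ₐ[K] _ => φ f) hcomp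
  simp only [AlgHom.comp_apply, mem_line.mp hf, map_zero, Ideal.Quotient.mkₐ_eq_mk] at this
  exact Ideal.Quotient.eq_zero_iff_mem.mp this.symm

theorem decompose_zero (s : MvPolynomial (σ) K) :
    (DirectSum.decompose (homogeneousSubmodule (σ) K) s 0 : MvPolynomial (σ) K) =
      C (constantCoeff s) := by
  erw [decomposition.decompose'_apply]
  rw [homogeneousComponent_zero, constantCoeff_eq]

/-- On a cone, an element off the vertex is a non-zero-divisor. -/
theorem eq_zero_of_mul_eq_zero {I : Ideal (MvPolynomial (σ) K)}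
    (hI : I.IsHomogeneous (homogeneousSubmodule (σ) K)) {s z : MvPolynomial (σ) K ⧸ I}
    (hs : s ∉ (RingHom.ker (constantCoeff : MvPolynomial (σ) K →+* K)).map
      (Ideal.Quotient.mk I)) (h : s * z = 0) : z = 0 := by
  obtain ⟨s, rfl⟩ := Ideal.Quotient.mk_surjective s
  obtain ⟨z, rfl⟩ := Ideal.Quotient.mk_surjective z
  rw [← map_mul, Ideal.Quotient.eq_zero_iff_mem] at h
  refine Ideal.Quotient.eq_zero_iff_mem.mpr (Graded.mem_of_mul_mem hI ?_ h)
  rw [decompose_zero]
  refine IsUnit.map _ (isUnit_iff_ne_zero.mpr fun h0 => hs (Ideal.mem_map_of_mem _ ?_))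
  exact RingHom.mem_ker.mpr h0

theorem isMaximal_vertex :
    (RingHom.ker (constantCoeff : MvPolynomial (σ) K →+* K)).IsMaximal :=
  RingHom.ker_isMaximal_of_surjective _ fun c => ⟨C c, constantCoeff_C _ c⟩

/-- Cohen–Macaulay at the vertex implies Cohen–Macaulay at every closed point. -/
theorem isCM_of_vertex [IsAlgClosed K] (I : Ideal (MvPolynomial (σ) K)) :
    I.IsHomogeneous (homogeneousSubmodule (σ) K) →
    ∀ [((RingHom.ker (constantCoeff : MvPolynomial (σ) K →+* K)).map
      (Ideal.Quotient.mk I)).IsPrime],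
    IsCohenMacaulayLocalRing (Localization.AtPrime
      ((RingHom.ker (constantCoeff : MvPolynomial (σ) K →+* K)).map (Ideal.Quotient.mk I))) →
    ∀ (P : Ideal (MvPolynomial (σ) K ⧸ I)) [P.IsMaximal],
      IsCohenMacaulayLocalRing (Localization.AtPrime P) := by
  induction I using WellFoundedGT.induction with
  | _ I ih =>
  intro hI hm hcm P hP
  classical
  set m₀ := RingHom.ker (constantCoeff : MvPolynomial (σ) K →+* K) with hm₀
  have hm₀max : m₀.IsMaximal := isMaximal_vertex
  set m := m₀.map (Ideal.Quotient.mk I) with hmdef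
  have hIm : I ≤ m₀ := by
    by_contra hcon
    refine hm.ne_top ?_
    have htop : m₀ ⊔ I = ⊤ := hm₀max.out.2 _ (lt_of_le_not_ge le_sup_left
      fun h => hcon (le_sup_right.trans h))
    rw [hmdef, ← Ideal.map_top (Ideal.Quotient.mk I), ← htop, Ideal.map_sup, Ideal.map_quotient_self,
      sup_bot_eq]
  have hmc : m.comap (Ideal.Quotient.mk I) = m₀ := by
    rw [hmdef, Ideal.comap_map_of_surjective _ Ideal.Quotient.mk_surjective,
      ← RingHom.ker_eq_comap_bot, Ideal.mk_ker, sup_eq_left.mpr hIm]
  obtain ⟨x, hx⟩ := eq_vanishingIdeal_singleton_of_isMaximal K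
    (Ideal.comap_isMaximal_of_surjective _ Ideal.Quotient.mk_surjective
      : (P.comap (Ideal.Quotient.mk I)).IsMaximal)
  have hPx : P.comap (Ideal.Quotient.mk I) = RingHom.ker (eval x) := by
    rw [hx]
    ext f
    rw [mem_vanishingIdeal_singleton_iff, RingHom.mem_ker]
    simp [aeval_eq_eval₂Hom]
  by_cases hx0 : x = 0
  · subst hx0
    obtain rfl : P = m := by
      rw [← Ideal.map_comap_of_surjective _ Ideal.Quotient.mk_surjective P, hPx, eval_zero]
    exact hcm
  obtain ⟨i, hi⟩ := Function.ne_iff.mp hx0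
  have hi : x i ≠ 0 := hi
  have hIx : I ≤ RingHom.ker (eval x) := by
    rw [← hPx]
    intro f hf
    rw [Ideal.mem_comap, Ideal.Quotient.eq_zero_iff_mem.mpr hf]
    exact P.zero_mem
  have hassm : ∀ Q ∈ associatedPrimes (MvPolynomial (σ) K ⧸ I)
      (MvPolynomial (σ) K ⧸ I), Q ≤ m := by
    intro Q hQ s hsQ
    obtain ⟨hQp, z, hz⟩ := isAssociatedPrime_iff.mp hQ
    by_contra hsm
    have h1 : s * z = 0 := by
      have := hz ▸ hsQ
      simpa [Submodule.mem_colon_singleton] using this
    have hz0 := eq_zero_of_mul_eq_zero hI hsm h1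
    refine hQp.ne_top ?_
    rw [hz, hz0, Ideal.eq_top_iff_one]
    simp [Submodule.mem_colon_singleton]
  by_cases hA : ∃ Q ∈ associatedPrimes (MvPolynomial (σ) K ⧸ I)
      (MvPolynomial (σ) K ⧸ I), line x ≤ Q.comap (Ideal.Quotient.mk I)
  · -- the ring is at most one dimensional near the line
    obtain ⟨Q, hQ, hxQ⟩ := hA
    have hQp : Q.IsPrime := hQ.isPrime
    have : IsCohenMacaulayLocalRing (Localization.AtPrime m) := hcm
    have hdimL : ringKrullDim (Localization.AtPrime m) ≤ 1 := by
      refine ringKrullDim_localization_le_one m hQ (hassm Q hQ)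
        fun q q' q'' hq hq' hq'' hQq h h' => ?_
      have h0 : line x ≤ q.comap (Ideal.Quotient.mk I) := hxQ.trans (Ideal.comap_mono hQq)
      have h1 : q'.comap (Ideal.Quotient.mk I) = line x :=
        eq_line_of_lt hi (hq''.comap _).ne_top (h0.trans (Ideal.comap_mono h.le))
          (Graded.lt_comap h')
      exact (h1 ▸ Graded.lt_comap h).not_ge h0
    have key : ∀ q : Ideal (MvPolynomial (σ) K ⧸ I), q.IsPrime → q < P →
        q.comap (Ideal.Quotient.mk I) = line x := by
      intro q hq hqP
      have hIq : I ≤ q.comap (Ideal.Quotient.mk I) := fun f hf => by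
        rw [Ideal.mem_comap, Ideal.Quotient.eq_zero_iff_mem.mpr hf]
        exact q.zero_mem
      obtain ⟨q₀, hq₀, hq₀q⟩ := Ideal.exists_minimalPrimes_le hIq
      have hq₀p : q₀.IsPrime := hq₀.1.1
      have hq₀line : q₀ ≤ line x := le_line (Graded.isHomogeneous_of_mem_minimalPrimes hI hq₀)
        (hq₀q.trans ((Ideal.comap_mono hqP.le).trans hPx.le))
      rcases hq₀line.eq_or_lt with heq | hlt
      · have hlt' : q.comap (Ideal.Quotient.mk I) < RingHom.ker (eval x) :=
          hPx ▸ Graded.lt_comap hqP
        exact eq_line_of_lt hi (RingHom.ker_ne_top _) (heq ▸ hq₀q) hlt'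
      · exfalso
        have hmk : ∀ p : Ideal (MvPolynomial (σ) K), I ≤ p →
            (p.map (Ideal.Quotient.mk I)).comap (Ideal.Quotient.mk I) = p := fun p hp => by
          rw [Ideal.comap_map_of_surjective _ Ideal.Quotient.mk_surjective,
            ← RingHom.ker_eq_comap_bot, Ideal.mk_ker, sup_eq_left.mpr hp]
        have hstrict : ∀ p p' : Ideal (MvPolynomial (σ) K), I ≤ p → p < p' →
            p.map (Ideal.Quotient.mk I) < p'.map (Ideal.Quotient.mk I) := fun p p' hp hpp' =>
          lt_of_le_of_ne (Ideal.map_mono hpp'.le) fun h => hpp'.ne (by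
            rw [← hmk p hp, h, hmk p' (hp.trans hpp'.le)])
        have hIl : I ≤ line x := hq₀.1.2.trans hlt.le
        have : (q₀.map (Ideal.Quotient.mk I)).IsPrime :=
          Ideal.map_isPrime_of_surjective Ideal.Quotient.mk_surjective (by rw [Ideal.mk_ker]; exact hq₀.1.2)
        have : ((line x).map (Ideal.Quotient.mk I)).IsPrime :=
          Ideal.map_isPrime_of_surjective Ideal.Quotient.mk_surjective (by rw [Ideal.mk_ker]; exact hIl)
        have e1 := Ideal.height_strict_mono_of_isPrime (hstrict _ _ hq₀.1.2 hlt)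
        have e2 := Ideal.height_strict_mono_of_isPrime (hstrict _ _ hIl (line_lt_constantCoeff hi))
        rw [IsLocalization.AtPrime.ringKrullDim_eq_height m (Localization.AtPrime m)] at hdimL
        have e3 : m.height ≤ 1 := WithBot.coe_le_coe.mp hdimL
        have h1le := Order.one_le_iff_pos.mpr (lt_of_le_of_lt zero_le e1)
        exact (h1le.trans_lt (lt_of_lt_of_le e2 e3)).false
    have hPm : P ∉ associatedPrimes (MvPolynomial (σ) K ⧸ I) (MvPolynomial (σ) K ⧸ I) := by
      intro hPass
      have heq : P = m := hP.eq_of_le hm.ne_top (hassm P hPass)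
      have := congrArg (Ideal.comap (Ideal.Quotient.mk I)) heq
      rw [hPx, hmc] at this
      have hX : (X i : MvPolynomial (σ) K) ∈ RingHom.ker (eval x) := by
        rw [this, hm₀, RingHom.mem_ker, constantCoeff_X]
      rw [RingHom.mem_ker, eval_X] at hX
      exact hi hX
    obtain ⟨y, hyP, hy⟩ : ∃ y ∈ P, IsSMulRegular (MvPolynomial (σ) K ⧸ I) y := by
      by_contra hcon
      push Not at hcon
      obtain ⟨Q', hQ', hPQ'⟩ := H4Depth.exists_associatedPrime_ge_of_no_regular hcon
      exact hPm (hP.eq_of_le hQ'.isPrime.ne_top hPQ' ▸ hQ')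
    obtain ⟨e⟩ := H4Depth.exists_localizedModule_self_equiv P
    refine (H8Props.FlatDepth.isCM_iff_dim _).mpr (le_antisymm ?_ ?_)
    swap
    · have := H4Depth.depth_le_supportDim (R := Localization.AtPrime P)
        (M := Localization.AtPrime P)
      rwa [Module.supportDim_self_eq_ringKrullDim] at this
    rw [IsLocalization.AtPrime.ringKrullDim_eq_height P (Localization.AtPrime P), ← H4Depth.depth_congr e]
    refine WithBot.coe_le_coe.mpr (le_trans ?_ ((H4Depth.length_le_idealDepth
      (rs := [y]) ((RingTheory.Sequence.isWeaklyRegular_singleton_iff _ y).mpr hy) (by simpa using hyP)).trans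
        (H4Depth.idealDepth_le_depth_localization P le_rfl)))
    rw [show (([y] : List _).length : ℕ∞) = ((1 : ℕ) : ℕ∞) by simp, Ideal.height_le_iff]
    intro q hq hqP
    have h0 : q.height ≤ ((0 : ℕ) : ℕ∞) := by
      rw [Ideal.height_le_iff]
      intro q' hq' hq'q
      exact absurd ((key q hq hqP).trans (key q' hq' (hq'q.trans hqP)).symm)
        (Graded.lt_comap hq'q).ne'
    exact lt_of_le_of_lt h0 (by simp)
  · -- cut by a general linear form through `x`
    push Not at hA
    let Lx : Submodule K (σ → K) := LinearMap.ker (∑ j, x j • (LinearMap.proj j : (σ → K) →ₗ[K] K))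
    have hLx : ∀ a : σ → K, a ∈ Lx ↔ ∑ j, a j * x j = 0 := fun a => by
      simp [Lx, mul_comm]
    let A := associatedPrimes (MvPolynomial (σ) K ⧸ I) (MvPolynomial (σ) K ⧸ I)
    have : Finite A := (associatedPrimes.finite _ _).to_subtype
    let p : A → Subspace K Lx := fun Q =>
      Submodule.comap (linForm.comp Lx.subtype)
        (((Q.1).comap (Ideal.Quotient.mk I)).restrictScalars K)
    obtain ⟨a, ha⟩ : ∃ a : Lx, ∀ Q : A, a ∉ p Q := by
      by_contra hcon
      push Not at hcon
      obtain ⟨Q, hQ⟩ := Subspace.exists_eq_top_of_iUnion_eq_univ (p := p)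
        (Set.eq_univ_of_forall fun a => Set.mem_iUnion.mpr (hcon a))
      refine hA Q.1 Q.2 (line_le_of_linForm_mem hi fun a ha => ?_)
      have : (⟨a, (hLx a).mpr ha⟩ : Lx) ∈ p Q := hQ ▸ Submodule.mem_top
      exact this
    set ℓ : MvPolynomial (σ) K := linForm (a : σ → K) with hℓ
    set y := Ideal.Quotient.mk I ℓ with hy
    have hyreg : IsSMulRegular (MvPolynomial (σ) K ⧸ I) y := by
      by_contra hcon
      obtain ⟨Q, hQ, hle⟩ := H4Depth.exists_associatedPrime_ge_of_no_regular
        (I := Ideal.span {y}) (M := MvPolynomial (σ) K ⧸ I) fun z hz hz' => by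
          obtain ⟨c, rfl⟩ := Ideal.mem_span_singleton'.mp hz
          exact hcon (IsSMulRegular.of_mul hz')
      exact ha ⟨Q, hQ⟩ (hle (Ideal.mem_span_singleton_self y))
    have hℓx : ℓ ∈ RingHom.ker (eval x) := by
      rw [RingHom.mem_ker, hℓ, linForm_apply]
      simpa using (hLx _).mp a.2
    have hℓm : ℓ ∈ m₀ := by
      rw [hm₀, RingHom.mem_ker, hℓ, linForm_apply]
      simp
    set I' := I ⊔ Ideal.span {ℓ} with hI'
    have hI'h : I'.IsHomogeneous (homogeneousSubmodule (σ) K) :=
      hI.sup (Ideal.homogeneous_span _ _ fun f hf => by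
        rw [Set.mem_singleton_iff.mp hf]
        exact ⟨1, isHomogeneous_linForm _⟩)
    have hlt : I < I' := lt_of_le_not_ge le_sup_left fun h => by
      have h0 : y = 0 := Ideal.Quotient.eq_zero_iff_mem.mpr
        (h (Ideal.mem_sup_right (Ideal.mem_span_singleton_self ℓ)))
      have : Nontrivial (MvPolynomial (σ) K ⧸ I) :=
        Ideal.Quotient.nontrivial_iff.mpr (ne_top_of_le_ne_top hm₀max.ne_top hIm)
      exact one_ne_zero (hyreg (by simp [h0]) : (1 : MvPolynomial (σ) K ⧸ I) = 0)
    have hI'm : I' ≤ m₀ := sup_le hIm (by rwa [Ideal.span_singleton_le_iff_mem])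
    have hI'x : I' ≤ RingHom.ker (eval x) := sup_le hIx (by rwa [Ideal.span_singleton_le_iff_mem])
    have hm' : (m₀.map (Ideal.Quotient.mk I')).IsPrime :=
      Ideal.map_isPrime_of_surjective Ideal.Quotient.mk_surjective (by rwa [Ideal.mk_ker])
    have hxmax : (RingHom.ker (eval x)).IsMaximal :=
      hPx ▸ Ideal.comap_isMaximal_of_surjective _ Ideal.Quotient.mk_surjective
    have hP' : ((RingHom.ker (eval x)).map (Ideal.Quotient.mk I')).IsMaximal :=
      Ideal.map_eq_top_or_isMaximal_of_surjective _ Ideal.Quotient.mk_surjective hxmax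
        |>.resolve_left fun h => hxmax.ne_top (by
          have := congrArg (Ideal.comap (Ideal.Quotient.mk I')) h
          rwa [Ideal.comap_map_of_surjective _ Ideal.Quotient.mk_surjective,
            ← RingHom.ker_eq_comap_bot, Ideal.mk_ker, sup_eq_left.mpr hI'x, Ideal.comap_top] at this)
    have hker : RingHom.ker (Ideal.Quotient.factor hlt.le) = Ideal.span {y} := by
      rw [Ideal.Quotient.factor_ker hlt.le, hI', Ideal.map_sup, Ideal.map_quotient_self,
        bot_sup_eq, Ideal.map_span, Set.image_singleton]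
    have hcomap : ∀ p : Ideal (MvPolynomial (σ) K), I' ≤ p →
        p.map (Ideal.Quotient.mk I) =
          (p.map (Ideal.Quotient.mk I')).comap (Ideal.Quotient.factor hlt.le) := by
      intro p hp
      rw [← Ideal.Quotient.factor_comp_mk hlt.le, ← Ideal.map_map, Ideal.comap_map_of_surjective _
        (Ideal.Quotient.factor_surjective hlt.le), ← RingHom.ker_eq_comap_bot,
        Ideal.Quotient.factor_ker hlt.le, sup_eq_left.mpr (Ideal.map_mono hp)]
    have hcm' := (isCM_iff_of_regular _ (Ideal.Quotient.factor_surjective hlt.le) y hker hyreg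
      (m₀.map (Ideal.Quotient.mk I')) m (hcomap m₀ hI'm)).mp hcm
    refine (isCM_iff_of_regular _ (Ideal.Quotient.factor_surjective hlt.le) y hker hyreg
      ((RingHom.ker (eval x)).map (Ideal.Quotient.mk I')) P ?_).mpr (ih I' hlt hI'h hcm' _)
    rw [← hcomap _ hI'x, ← hPx, Ideal.map_comap_of_surjective _ Ideal.Quotient.mk_surjective]

/-- A cone is Cohen–Macaulay as soon as it is so at the vertex. -/
theorem isCohenMacaulayRing_of_vertex [IsAlgClosed K] (I : Ideal (MvPolynomial (σ) K))
    (hI : I.IsHomogeneous (homogeneousSubmodule (σ) K))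
    [((RingHom.ker (constantCoeff : MvPolynomial (σ) K →+* K)).map
      (Ideal.Quotient.mk I)).IsPrime]
    (hcm : IsCohenMacaulayLocalRing (Localization.AtPrime
      ((RingHom.ker (constantCoeff : MvPolynomial (σ) K →+* K)).map (Ideal.Quotient.mk I)))) :
    IsCohenMacaulayRing (MvPolynomial (σ) K ⧸ I) where
  isCohenMacaulayLocalRing_localization p hp := by
    obtain ⟨P, hP, hpP⟩ := p.exists_le_maximal hp.ne_top
    have := isCM_of_vertex I hI hcm P
    exact isCM_localization_of_le hpP

end Cone

end Groth.Agent.H26Grass
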