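import Groth.Prelude.Def_W4bk4grassmannianPl
import Mathlib.GroupTheory.Perm.Fin
import Mathlib.LinearAlgebra.Matrix.Permutation

set_option autoImplicit false
universe u v

/-! Evaluation of Plücker coordinates at the minors of a matrix, with signs. -/

namespace Groth.Agent.H26Grass

open W4bk4grassmannian MvPolynomial Finset

variable {d n : ℕ}

theorem sign_eq_neg_one_pow_invCount {k : ℕ} (σ : Equiv.Perm (Fin k)) :
    ((Equiv.Perm.sign σ : ℤˣ) : ℤ) = (-1) ^ invCount k k σ := by
  rw [Equiv.Perm.sign_eq_prod_prod_Iio]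
  have h : ∀ j : Fin k, ∏ i ∈ Finset.Iio j, (if σ i < σ j then (1 : ℤˣ) else -1)
      = (-1) ^ ((Finset.Iio j).filter fun i => ¬ σ i < σ j).card := by
    intro j
    rw [Finset.prod_ite, Finset.prod_const_one, Finset.prod_const, one_mul]
  rw [Finset.prod_congr rfl fun j _ => h j, Finset.prod_pow_eq_pow_sum, Units.val_pow_eq_pow_val,
    Units.val_neg, Units.val_one]
  congr 1
  rw [← Finset.card_sigma, invCount]
  refine Finset.card_bij (fun x _ => (x.2, x.1)) ?_ ?_ ?_
  · intro x hx
    simp only [Finset.mem_sigma, Finset.mem_univ, true_and, Finset.mem_filter, Finset.mem_Iio,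
      not_lt] at hx
    simp only [Finset.mem_filter, Finset.mem_univ, true_and]
    exact ⟨hx.1, lt_of_le_of_ne hx.2 fun h => (ne_of_lt hx.1) (σ.injective h).symm⟩
  · rintro ⟨a, b⟩ _ ⟨a', b'⟩ _ h
    simp only [Prod.mk.injEq] at h
    simp [h.1, h.2]
  · rintro ⟨i, j⟩ h
    simp only [Finset.mem_filter, Finset.mem_univ, true_and] at h
    refine ⟨⟨j, i⟩, ?_, rfl⟩
    simp only [Finset.mem_sigma, Finset.mem_univ, true_and, Finset.mem_filter, Finset.mem_Iio,
      not_lt]
    exact ⟨h.1, h.2.le⟩

/-- evaluation at the minors of `A` in a `K`-algebra `R` -/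
noncomputable def ev (K : Type u) [CommRing K] {R : Type v} [CommRing R] [Algebra K R]
    (A : Matrix (Fin n) (Fin d) R) : PlRing K d n →ₐ[K] R :=
  MvPolynomial.aeval fun θ : Idx d n => (A.submatrix θ.1 id).det

theorem evalMinors_eq (K : Type u) [CommRing K] (A : Matrix (Fin n) (Fin d) K) :
    evalMinors K d n A = ev K A := rfl

theorem pluckerMap_eq (K : Type u) [CommRing K] :
    pluckerMap K d n = ev K (Matrix.of fun i t => (X (i, t) : MatRing K d n)) := rfl

variable {K : Type u} [CommRing K] {R : Type v} [CommRing R] [Algebra K R]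

@[simp] theorem ev_X (A : Matrix (Fin n) (Fin d) R) (θ : Idx d n) :
    ev K A (X θ) = (A.submatrix θ.1 id).det := by simp [ev]

theorem ev_map {S : Type*} [CommRing S] [Algebra K S] (f : R →ₐ[K] S)
    (A : Matrix (Fin n) (Fin d) R) (p : PlRing K d n) : f (ev K A p) = ev K (A.map f) p := by
  have h : f.comp (ev K A) = ev K (A.map f) := by
    apply MvPolynomial.algHom_ext
    intro θ
    rw [AlgHom.comp_apply, ev_X, ev_X, AlgHom.map_det]
    rfl
  rw [← h, AlgHom.comp_apply]

theorem injective_iff_card_image {a : Fin d → Fin n} :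
    (Finset.univ.image a).card = d ↔ Function.Injective a := by
  constructor
  · intro h
    have := Finset.card_image_iff.1 (h.trans (Finset.card_fin d).symm)
    simpa [Set.injOn_univ] using this
  · intro h; rw [Finset.card_image_of_injective _ h, Finset.card_fin]

/-- the sorting permutation of an injective tuple -/
theorem exists_sort_perm (a : Fin d → Fin n) (h : (Finset.univ.image a).card = d) :
    ∃ σ : Equiv.Perm (Fin d), a = (sortIdx d n a h).1 ∘ σ ∧ invCount d n a = invCount d d σ := by
  set s := sortIdx d n a h with hs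
  have hmem : ∀ t, ∃ u, s.1 u = a t := fun t => by
    have : a t ∈ Set.range (Finset.orderEmbOfFin _ h) := by
      rw [Finset.range_orderEmbOfFin]; exact Finset.mem_image_of_mem a (Finset.mem_univ t)
    exact this
  choose f hf using hmem
  have finj : Function.Injective f := fun x y e => injective_iff_card_image.1 h (by rw [← hf x, ← hf y, e])
  refine ⟨Equiv.ofBijective f finj.bijective_of_finite, funext fun t => (hf t).symm, ?_⟩
  unfold invCount
  congr 1
  ext p
  simp only [Finset.mem_filter, Finset.mem_univ, true_and, Equiv.ofBijective_apply]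
  rw [← hf p.1, ← hf p.2, s.2.lt_iff_lt]

/-- `coord` is the signed minor. -/
theorem ev_coord (A : Matrix (Fin n) (Fin d) R) (a : Fin d → Fin n) :
    ev K A (coord K d n a) = (A.submatrix a id).det := by
  unfold coord
  split_ifs with h
  · obtain ⟨σ, hσ, hinv⟩ := exists_sort_perm a h
    rw [map_mul, map_pow, map_neg, map_one, ev_X, hinv]
    conv_rhs => rw [hσ, show A.submatrix ((sortIdx d n a h).1 ∘ σ) id =
      (A.submatrix (sortIdx d n a h).1 id).submatrix σ id from rfl, Matrix.det_permute,
      sign_eq_neg_one_pow_invCount σ]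
    push_cast
    rfl
  · rw [map_zero]
    have : ¬ Function.Injective a := fun hi => h (injective_iff_card_image.2 hi)
    simp only [Function.Injective, not_forall] at this
    obtain ⟨x, y, hxy, hne⟩ := this
    exact (Matrix.det_zero_of_row_eq hne (funext fun c => by simp [hxy])).symm

theorem coord_eq_X (θ : Idx d n) : coord K d n θ.1 = X θ := by
  have h : (Finset.univ.image θ.1).card = d := injective_iff_card_image.2 θ.2.injective
  rw [coord, dif_pos h]
  have h0 : invCount d n θ.1 = 0 := by
    rw [invCount, Finset.card_eq_zero, Finset.filter_eq_empty_iff]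
    rintro ⟨p, q⟩ - ⟨h1, h2⟩
    exact absurd (θ.2 h1) (not_lt.2 h2.le)
  have h1 : sortIdx d n θ.1 h = θ := by
    apply Subtype.ext
    exact (Finset.orderEmbOfFin_unique h (fun x => Finset.mem_image_of_mem _ (Finset.mem_univ x)) θ.2).symm
  rw [h0, h1, pow_zero, one_mul]

end Groth.Agent.H26Grass
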