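import Groth.Agent.H26Grass.LeadMon
import Mathlib.Algebra.MvPolynomial.Funext
import Mathlib.LinearAlgebra.Quotient.Basic

set_option autoImplicit false
universe u

/-! Standard monomial bases of Schubert varieties and their unions. -/

namespace Groth.Agent.H26Grass

open W4bk4grassmannian MvPolynomial Finset

variable {d n : ℕ}

/-- the largest index -/
def topIdx (hdn : d ≤ n) : Idx d n :=
  ⟨fun t => ⟨t.val + (n - d), by have := t.isLt; omega⟩, fun a b h => by
    simp only [Fin.lt_def] at h ⊢; omega⟩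

theorem le_topIdx (hdn : d ≤ n) (θ : Idx d n) : θ ≤ topIdx hdn := by
  intro t
  rw [Fin.le_def]
  show (θ.1 t).val ≤ t.val + (n - d)
  have h : ((Finset.Ici t).map ⟨θ.1, θ.2.injective⟩).card ≤ (Finset.Ici (θ.1 t)).card := by
    refine Finset.card_le_card fun x hx => ?_
    obtain ⟨u, hu, rfl⟩ := Finset.mem_map.1 hx
    exact Finset.mem_Ici.2 (θ.2.monotone (Finset.mem_Ici.1 hu))
  rw [Finset.card_map, Fin.card_Ici, Fin.card_Ici] at h
  have := (θ.1 t).isLt
  omega

theorem idx_val_ge (θ : Idx d n) (t : Fin d) : t.val ≤ (θ.1 t).val := by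
  have h : ((Finset.Iio t).map ⟨θ.1, θ.2.injective⟩).card ≤ (Finset.Iio (θ.1 t)).card := by
    refine Finset.card_le_card fun x hx => ?_
    obtain ⟨u, hu, rfl⟩ := Finset.mem_map.1 hx
    exact Finset.mem_Iio.2 (θ.2 (Finset.mem_Iio.1 hu))
  rwa [Finset.card_map, Fin.card_Iio, Fin.card_Iio] at h

/-- support below `w` -/
def belowP (w : Idx d n) : Fin n → Fin d → Bool := fun i t => decide (i ≤ w.1 t)

/-- support between `v` and `w` -/
def betweenP (v w : Idx d n) : Fin n → Fin d → Bool := fun i t => decide (v.1 t ≤ i ∧ i ≤ w.1 t)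

/-- a too large zero block kills a determinant: supported below `w` -/
theorem det_eq_zero_of_not_le {R : Type*} [CommRing R] (A : Matrix (Fin n) (Fin d) R) (w φ : Idx d n)
    (hA : ∀ i t, ¬ i ≤ w.1 t → A i t = 0) (hφ : ¬ φ ≤ w) : (A.submatrix φ.1 id).det = 0 := by
  classical
  obtain ⟨t, ht⟩ : ∃ t, w.1 t < φ.1 t := by
    by_contra h; push Not at h; exact hφ fun t => h t
  rw [Matrix.det_apply']
  refine Finset.sum_eq_zero fun σ _ => mul_eq_zero_of_right _ ?_
  obtain ⟨u, hu, hσu⟩ : ∃ u, u ≤ t ∧ t ≤ σ u := by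
    by_contra h; push Not at h
    have h' : ((Finset.Iic t).map σ.toEmbedding).card ≤ (Finset.Iio t).card := by
      refine Finset.card_le_card fun x hx => ?_
      obtain ⟨u, hu, rfl⟩ := Finset.mem_map.1 hx
      exact Finset.mem_Iio.2 (h u (Finset.mem_Iic.1 hu))
    rw [Finset.card_map, Fin.card_Iic, Fin.card_Iio] at h'
    omega
  refine Finset.prod_eq_zero (Finset.mem_univ u) (hA _ _ (not_le.2 ?_))
  exact lt_of_le_of_lt (w.2.monotone hu) (lt_of_lt_of_le ht (φ.2.monotone hσu))

/-- supported above `v` -/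
theorem det_eq_zero_of_not_ge {R : Type*} [CommRing R] (A : Matrix (Fin n) (Fin d) R) (v φ : Idx d n)
    (hA : ∀ i t, ¬ v.1 t ≤ i → A i t = 0) (hφ : ¬ v ≤ φ) : (A.submatrix φ.1 id).det = 0 := by
  classical
  obtain ⟨t, ht⟩ : ∃ t, φ.1 t < v.1 t := by
    by_contra h; push Not at h; exact hφ fun t => h t
  rw [Matrix.det_apply']
  refine Finset.sum_eq_zero fun σ _ => mul_eq_zero_of_right _ ?_
  obtain ⟨u, hu, hσu⟩ : ∃ u, t ≤ u ∧ σ u ≤ t := by
    by_contra h; push Not at h
    have h' : ((Finset.Ici t).map σ.toEmbedding).card ≤ (Finset.Ioi t).card := by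
      refine Finset.card_le_card fun x hx => ?_
      obtain ⟨u, hu, rfl⟩ := Finset.mem_map.1 hx
      exact Finset.mem_Ioi.2 (h u (Finset.mem_Ici.1 hu))
    rw [Finset.card_map, Fin.card_Ici, Fin.card_Ioi] at h'
    omega
  refine Finset.prod_eq_zero (Finset.mem_univ u) (hA _ _ (not_le.2 ?_))
  exact lt_of_le_of_lt (φ.2.monotone hσu) (lt_of_lt_of_le ht (v.2.monotone hu))

section
variable (K : Type u) [CommRing K]

theorem plIdealTop_le_vanishing : plIdealTop (d := d) (n := n) K ≤ vanishing K d n :=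
  le_iInf fun A => evalMinors_eq K A ▸ plIdealTop_le_ker_ev A

theorem vanishing_le_schubertVanishing (τ : Idx d n) : vanishing K d n ≤ schubertVanishing K d n τ :=
  le_iInf fun A => le_iInf fun _ => iInf_le _ A

theorem mem_schubertVanishing_iff {τ : Idx d n} {p : PlRing K d n} :
    p ∈ schubertVanishing K d n τ ↔ ∀ A : Matrix (Fin n) (Fin d) K,
      (∀ φ : Idx d n, ¬ φ ≤ τ → (A.submatrix φ.1 id).det = 0) → ev K A p = 0 := by
  simp [schubertVanishing, evalMinors_eq]

theorem X_mem_schubertVanishing {τ θ : Idx d n} (h : ¬ θ ≤ τ) :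
    (X θ : PlRing K d n) ∈ schubertVanishing K d n τ := by
  rw [mem_schubertVanishing_iff]; intro A hA; rw [ev_X]; exact hA θ h

theorem chainMon_mem_schubertVanishing {τ : Idx d n} {m : ℕ} {c : Fin m → Idx d n} (k : Fin m)
    (h : ¬ c k ≤ τ) : chainMon K c ∈ schubertVanishing K d n τ := by
  rw [chainMon, ← Finset.mul_prod_erase _ _ (Finset.mem_univ k)]
  exact Ideal.mul_mem_right _ _ (X_mem_schubertVanishing K h)

theorem schubertVanishing_topIdx (hdn : d ≤ n) :
    schubertVanishing K d n (topIdx hdn) = vanishing K d n :=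
  le_antisymm (le_iInf fun A => iInf_le_of_le A (iInf_le_of_le (fun φ h => absurd (le_topIdx hdn φ) h) le_rfl))
    (vanishing_le_schubertVanishing K _)

theorem schubertVanishing_mono {τ τ' : Idx d n} (h : τ ≤ τ') :
    schubertVanishing K d n τ' ≤ schubertVanishing K d n τ := by
  intro p hp
  rw [mem_schubertVanishing_iff] at hp ⊢
  exact fun A hA => hp A fun φ hφ => hA φ fun h' => hφ (le_trans h' h)

theorem plIdealTop_le_plIdeal (τ : Idx d n) : plIdealTop (d := d) (n := n) K ≤ plIdeal K τ :=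
  Ideal.span_mono Set.subset_union_left

theorem plIdeal_le_schubertVanishing (τ : Idx d n) : plIdeal K τ ≤ schubertVanishing K d n τ := by
  rw [plIdeal, Ideal.span_le]
  rintro f (hf | ⟨φ, hφ, rfl⟩)
  · exact vanishing_le_schubertVanishing K τ (plIdealTop_le_vanishing K (Ideal.subset_span hf))
  · exact X_mem_schubertVanishing K hφ

/-- every polynomial is standard modulo the shuffle relations -/
theorem exists_std_decomp (p : PlRing K d n) :
    p ∈ Submodule.span K (Set.range fun c : (Σ m : ℕ, {c : Fin m → Idx d n // Antitone c}) => chainMon K c.2.1) ⊔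
      (plIdealTop (d := d) (n := n) K).restrictScalars K := by
  induction p using MvPolynomial.induction_on' with
  | monomial e a =>
    have h : monomial e a = a • mon K e.toMultiset := by
      rw [mon, Finsupp.toMultiset_map, Finsupp.prod_toMultiset,
        Finsupp.prod_mapDomain_index (by simp) (fun b m₁ m₂ => pow_add _ _ _), monomial_eq, smul_eq_C_mul]
    rw [h]
    refine Submodule.smul_mem _ _ ?_
    have hle : Submodule.span K (stdSet K d n (Multiset.card e.toMultiset) (e.toMultiset.map wt).sum) ≤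
        Submodule.span K (Set.range fun c : (Σ m : ℕ, {c : Fin m → Idx d n // Antitone c}) => chainMon K c.2.1) := by
      refine Submodule.span_mono ?_
      rintro f ⟨c, hc, -, rfl⟩
      exact ⟨⟨_, c, hc⟩, rfl⟩
    exact SetLike.le_def.1 (sup_le_sup_right hle _) (straighten (K := K) e.toMultiset)
  | add p q hp hq => exact Submodule.add_mem _ hp hq

/-- spanning modulo an ideal -/
theorem span_std_eq_top {I : Ideal (PlRing K d n)} (hI : plIdealTop K ≤ I)
    (Q : ∀ m, (Fin m → Idx d n) → Prop)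
    (hQ : ∀ m (c : Fin m → Idx d n), Antitone c → ¬ Q m c → chainMon K c ∈ I) :
    Submodule.span K (Set.range fun c : (Σ m : ℕ, {c : Fin m → Idx d n // Antitone c ∧ Q m c}) =>
        Ideal.Quotient.mk I (chainMon K c.2.1)) = ⊤ := by
  rw [eq_top_iff]
  rintro x -
  obtain ⟨p, rfl⟩ := Ideal.Quotient.mk_surjective x
  obtain ⟨a, ha, b, hb, rfl⟩ := Submodule.mem_sup.1 (exists_std_decomp K p)
  rw [map_add, Ideal.Quotient.eq_zero_iff_mem.2 (hI hb), add_zero]
  have : (Ideal.Quotient.mkₐ K I).toLinearMap a ∈ Submodule.map (Ideal.Quotient.mkₐ K I).toLinearMap (Submodule.span K (Set.range fun c : (Σ m : ℕ, {c : Fin m → Idx d n // Antitone c}) => chainMon K c.2.1)) := Submodule.mem_map_of_mem ha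
  rw [Submodule.map_span] at this
  refine Submodule.span_le.2 ?_ this
  rintro _ ⟨_, ⟨⟨m, c, hc⟩, rfl⟩, rfl⟩
  by_cases h : Q m c
  · exact Submodule.subset_span ⟨⟨m, c, hc, h⟩, rfl⟩
  · show Ideal.Quotient.mk I (chainMon K c) ∈ _
    rw [Ideal.Quotient.eq_zero_iff_mem.2 (hQ m c hc h)]
    exact Submodule.zero_mem _

end

/-! ### independence -/

section
variable (K : Type u) [Field K] [Infinite K]

/-- vanishing on the Schubert variety kills the parametrization -/
theorem ev_suppMat_eq_zero {τ : Idx d n} {p : PlRing K d n} (hp : p ∈ schubertVanishing K d n τ)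
    (P : Fin n → Fin d → Bool) (hP : ∀ i t, P i t = true → i ≤ τ.1 t) : ev K (suppMat K P) p = 0 := by
  refine MvPolynomial.funext fun x => ?_
  rw [map_zero]
  have h := ev_map (MvPolynomial.aeval (R := K) x) (suppMat K P) p
  rw [show MvPolynomial.eval x (ev K (suppMat K P) p) = MvPolynomial.aeval x (ev K (suppMat K P) p) by
    rw [MvPolynomial.aeval_eq_eval], h]
  refine (mem_schubertVanishing_iff K).1 hp _ fun φ hφ => ?_
  refine det_eq_zero_of_not_le _ τ φ (fun i t hit => ?_) hφ
  have : P i t = false := by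
    by_contra hc; exact hit (hP i t (by simpa using hc))
  simp [suppMat, this]

/-- support between an optional lower bound and `τ` -/
def rangeP (v : Option (Idx d n)) (τ : Idx d n) : Fin n → Fin d → Bool := fun i t =>
  decide (i ≤ τ.1 t ∧ ∀ w ∈ v, w.1 t ≤ i)

omit [Infinite K] in
theorem ev_rangeP_eq_zero {v : Option (Idx d n)} {τ θ : Idx d n}
    (h : ¬ (θ ≤ τ ∧ ∀ w ∈ v, w ≤ θ)) : ev K (suppMat K (rangeP v τ)) (X θ) = 0 := by
  rw [ev_X]
  by_cases h1 : θ ≤ τ
  · simp only [h1, true_and, not_forall] at h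
    obtain ⟨w, hw, hk⟩ := h
    refine det_eq_zero_of_not_ge _ w _ (fun i t hit => ?_) hk
    have : ¬ (i ≤ τ.1 t ∧ ∀ w ∈ v, w.1 t ≤ i) := fun h => hit (h.2 w hw)
    simp only [suppMat, Matrix.of_apply, rangeP, this, decide_false, Bool.false_eq_true, if_false]
  · exact det_eq_zero_of_not_le _ τ _ (fun i t hit => by simp [suppMat, rangeP, hit]) h1

omit [Infinite K] in
/-- A combination of standard monomials vanishing on the parametrized piece between `v` and `τ` is
trivial there. -/
theorem coeff_eq_zero_of_ev (hd : 0 < d) {α : Type*} (s : Finset α) (len : α → ℕ)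
    (c : ∀ a, Fin (len a) → Idx d n) (hc : ∀ a, Antitone (c a))
    (hinj : Function.Injective fun a => (⟨len a, c a⟩ : Σ m, Fin m → Idx d n))
    (g : α → K) (v : Option (Idx d n)) {τ : Idx d n}
    (hz : ev K (suppMat K (rangeP v τ)) (∑ a ∈ s, g a • chainMon K (c a)) = 0) (a : α) (ha : a ∈ s)
    (hτ : ∀ k, c a k ≤ τ) (hv : ∀ w ∈ v, ∀ k, w ≤ c a k) : g a = 0 := by
  classical
  set G : α → Prop := fun a => (∀ k, c a k ≤ τ) ∧ ∀ w ∈ v, ∀ k, w ≤ c a k
  have hbad : ∀ b, ¬ G b → ev K (suppMat K (rangeP v τ)) (chainMon K (c b)) = 0 := by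
    intro b hb
    rw [chainMon, map_prod]
    simp only [G, not_and_or, not_forall] at hb
    rcases hb with ⟨k, hk⟩ | ⟨w, hw, k, hk⟩
    · exact Finset.prod_eq_zero (Finset.mem_univ k) (ev_rangeP_eq_zero K fun h => hk h.1)
    · exact Finset.prod_eq_zero (Finset.mem_univ k) (ev_rangeP_eq_zero K fun h => hk (h.2 w hw))
  have hli := linearIndependent_suppMat (K := K) hd (rangeP v τ) (α := {a // G a}) (fun a => len a.1)
    (fun a => c a.1) (fun a => hc a.1) (fun a k t => by
      simp only [rangeP, decide_eq_true_eq]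
      exact ⟨a.2.1 k t, fun w hw => a.2.2 w hw k t⟩)
    (fun x y h => Subtype.ext (hinj h))
  rw [map_sum] at hz
  have hz' : ∑ b ∈ s.subtype G, g b.1 • ev K (suppMat K (rangeP v τ)) (chainMon K (c b.1)) = 0 := by
    rw [Finset.sum_subtype_eq_sum_filter (f := fun b => g b • ev K (suppMat K (rangeP v τ)) (chainMon K (c b))),
      Finset.sum_filter_of_ne]
    · simpa [map_smul] using hz
    · intro b _ hne
      by_contra hb
      exact hne (by rw [hbad b hb, smul_zero])
  exact linearIndependent_iff'.1 hli (s.subtype G) (fun b => g b.1) hz' ⟨a, hτ, hv⟩ (Finset.mem_subtype.2 ha)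

theorem coeff_eq_zero_of_mem (hd : 0 < d) {α : Type*} (s : Finset α) (len : α → ℕ)
    (c : ∀ a, Fin (len a) → Idx d n) (hc : ∀ a, Antitone (c a))
    (hinj : Function.Injective fun a => (⟨len a, c a⟩ : Σ m, Fin m → Idx d n))
    (g : α → K) {τ : Idx d n}
    (hmem : ∑ a ∈ s, g a • chainMon K (c a) ∈ schubertVanishing K d n τ)
    (a : α) (ha : a ∈ s) (hτ : ∀ k, c a k ≤ τ) : g a = 0 :=
  coeff_eq_zero_of_ev K hd s len c hc hinj g none
    (ev_suppMat_eq_zero K hmem _ fun i t h => by simp [rangeP] at h; exact h)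
    a ha hτ (by simp)

/-- independence modulo the ideal of a union -/
theorem linearIndependent_union (hd : 0 < d) {I : Ideal (PlRing K d n)} {κ : Sort*} (τs : κ → Idx d n)
    (hI : ∀ i, I ≤ schubertVanishing K d n (τs i)) (Q : ∀ m, (Fin m → Idx d n) → Prop)
    (hQ : ∀ m c, Q m c → ∃ i, ∀ k, c k ≤ τs i) :
    LinearIndependent K (fun c : (Σ m : ℕ, {c : Fin m → Idx d n // Antitone c ∧ Q m c}) =>
        Ideal.Quotient.mk I (chainMon K c.2.1)) := by
  rw [linearIndependent_iff']
  intro s g hg a ha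
  obtain ⟨i, hi⟩ := hQ _ _ a.2.2.2
  refine coeff_eq_zero_of_mem K hd s (fun b => b.1) (fun b => b.2.1) (fun b => b.2.2.1) ?_ g (τ := τs i)
    ?_ a ha hi
  · rintro ⟨m, c, hc⟩ ⟨m', c', hc'⟩ h
    simp only [Sigma.mk.inj_iff] at h
    obtain ⟨rfl, h2⟩ := h
    simp at h2; subst h2; rfl
  · refine hI i (Ideal.Quotient.eq_zero_iff_mem.1 ?_)
    rw [map_sum, ← hg]
    refine Finset.sum_congr rfl fun b _ => ?_
    exact (Ideal.Quotient.mkₐ K I).toLinearMap.map_smul _ _

theorem linearIndependent_schubert (hd : 0 < d) (τ : Idx d n) :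
    LinearIndependent K (fun c : (Σ m : ℕ, {c : Fin m → Idx d n // Antitone c ∧ ∀ k, c k ≤ τ}) =>
        Ideal.Quotient.mk (schubertVanishing K d n τ) (chainMon K c.2.1)) :=
  linearIndependent_union K hd (κ := Unit) (fun _ => τ) (fun _ => le_rfl) _ fun _ _ h => ⟨(), h⟩

theorem span_schubert (τ : Idx d n) :
    Submodule.span K (Set.range fun c : (Σ m : ℕ, {c : Fin m → Idx d n // Antitone c ∧ ∀ k, c k ≤ τ}) =>
        Ideal.Quotient.mk (schubertVanishing K d n τ) (chainMon K c.2.1)) = ⊤ :=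
  span_std_eq_top K ((plIdealTop_le_plIdeal K τ).trans (plIdeal_le_schubertVanishing K τ)) _
    fun m c _ h => by push Not at h; obtain ⟨k, hk⟩ := h; exact chainMon_mem_schubertVanishing K k hk

/-- `plIdeal τ` is the vanishing ideal of the Schubert variety -/
theorem plIdeal_eq (hd : 0 < d) (τ : Idx d n) : plIdeal K τ = schubertVanishing K d n τ := by
  classical
  refine le_antisymm (plIdeal_le_schubertVanishing K τ) fun p hp => ?_
  have hspan := span_std_eq_top K (plIdealTop_le_plIdeal K τ) (fun m c => ∀ k, c k ≤ τ)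
    (fun m c _ h => by
      push Not at h
      obtain ⟨k, hk⟩ := h
      rw [chainMon, ← Finset.mul_prod_erase _ _ (Finset.mem_univ k)]
      exact Ideal.mul_mem_right _ _ (Ideal.subset_span (Or.inr ⟨_, hk, rfl⟩)))
  rw [← Ideal.Quotient.eq_zero_iff_mem]
  obtain ⟨g, hg⟩ := (Finsupp.mem_span_range_iff_exists_finsupp).1
    (show Ideal.Quotient.mk (plIdeal K τ) p ∈ _ from hspan ▸ Submodule.mem_top)
  rw [← hg, Finsupp.sum]
  have h0 : Ideal.Quotient.factor (plIdeal_le_schubertVanishing K τ) (Ideal.Quotient.mk _ p) = 0 := by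
    rw [Ideal.Quotient.factor_mk, Ideal.Quotient.eq_zero_iff_mem]; exact hp
  rw [← hg, Finsupp.sum, map_sum] at h0
  have hzero := linearIndependent_iff'.1 (linearIndependent_schubert K hd τ) g.support g (by
    rw [← h0]
    refine Finset.sum_congr rfl fun c _ => ?_
    rw [show Ideal.Quotient.mk (plIdeal K τ) (chainMon K c.2.1) = (Ideal.Quotient.mkₐ K _) (chainMon K c.2.1)
      from rfl, ← map_smul (Ideal.Quotient.mkₐ K (plIdeal K τ))]
    exact ((Ideal.Quotient.mkₐ K (schubertVanishing K d n τ)).toLinearMap.map_smul _ _).symm)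
  exact Finset.sum_eq_zero fun c hc => by rw [hzero c hc, zero_smul]

end

end Groth.Agent.H26Grass
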