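import Groth.Agent.H26Grass.Basic
import Mathlib.LinearAlgebra.Matrix.Adjugate
import Mathlib.LinearAlgebra.Matrix.NonsingularInverse
import Mathlib.LinearAlgebra.Dimension.Finite
import Mathlib.LinearAlgebra.FiniteDimensional.Lemmas
import Mathlib.LinearAlgebra.Matrix.Rank

set_option autoImplicit false
universe u

/-! Elementary facts on the maximal minors of a matrix over a field. -/

namespace Groth.Agent.H26Grass

open W4bk4grassmannian MvPolynomial Finset

variable {d n : ℕ}

theorem coord_eq_of_image {K : Type u} [CommRing K] (a : Fin d → Fin n) (θ : Idx d n)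
    (h : Finset.univ.image a = Finset.univ.image θ.1) :
    ∃ e : ℕ, coord K d n a = (-1) ^ e * X θ := by
  have hc : (Finset.univ.image a).card = d := by
    rw [h]; exact injective_iff_card_image.2 θ.2.injective
  refine ⟨invCount d n a, ?_⟩
  rw [coord, dif_pos hc]
  congr 2
  apply Subtype.ext
  exact (Finset.orderEmbOfFin_unique hc (fun x => h ▸ Finset.mem_image_of_mem _ (Finset.mem_univ x)) θ.2).symm

theorem exists_minor_ne_zero {K : Type u} [Field K] (A : Matrix (Fin n) (Fin d) K)
    (hA : LinearIndependent K A.transpose) : ∃ θ : Idx d n, (A.submatrix θ.1 id).det ≠ 0 := by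
  classical
  obtain ⟨b, hbsub, hbspan, hbli⟩ := exists_linearIndependent K (Set.range fun i => A i)
  have hrank : Module.finrank K (Submodule.span K (Set.range fun i => A i)) = d := by
    have h2 : A.transpose.rank = Fintype.card (Fin d) := hA.rank_matrix
    rw [Matrix.rank_transpose, Matrix.rank_eq_finrank_span_row, Fintype.card_fin] at h2
    exact h2
  have : Fintype b := (Set.Finite.subset (Set.finite_range _) hbsub).fintype
  have hcard : Fintype.card b = d := by
    have := finrank_span_eq_card hbli
    rw [Subtype.range_coe, hbspan, hrank] at this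
    exact this.symm
  have hch : ∀ x : b, ∃ i, A i = x.1 := fun x => hbsub x.2
  choose f hf using hch
  let e := (Fintype.equivFinOfCardEq hcard).symm
  have hli : LinearIndependent K (fun t => A (f (e t))) := by
    have : (fun t => A (f (e t))) = (fun x : b => (x : Fin d → K)) ∘ e := funext fun t => hf (e t)
    rw [this]; exact hbli.comp e e.injective
  have hdet : (A.submatrix (f ∘ e) id).det ≠ 0 := by
    rw [← isUnit_iff_ne_zero, ← Matrix.isUnit_iff_isUnit_det, ← Matrix.linearIndependent_rows_iff_isUnit]
    exact hli
  by_contra hno
  push Not at hno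
  refine hdet ?_
  rw [← ev_coord (K := K), coord]
  split_ifs with h
  · rw [map_mul, ev_X, hno, mul_zero]
  · rw [map_zero]

end Groth.Agent.H26Grass
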