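import Groth.Agent.H26Grass.Basis
import Groth.Agent.H26Grass.Minors
import Groth.Prelude.Def_CAlgX
import Mathlib.Data.List.OfFn

set_option autoImplicit false
universe u v

/-! The opposite big cell `[I_d ; Z]` and determinantal ideals. -/

namespace Groth.Agent.H26Grass

open W4bk4grassmannian MvPolynomial Finset

/-- number of entries below `x` -/
def cnt {k N : ℕ} (a : Fin k → Fin N) (x : ℕ) : ℕ := (Finset.univ.filter fun s => (a s).val < x).card

theorem lt_cnt_iff {k N : ℕ} {a : Fin k → Fin N} (ha : StrictMono a) (s : Fin k) (x : ℕ) :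
    (a s).val < x ↔ s.val < cnt a x := by
  constructor
  · intro h
    have : Finset.Iic s ⊆ Finset.univ.filter fun u => (a u).val < x := fun u hu =>
      Finset.mem_filter.2 ⟨Finset.mem_univ u,
        lt_of_le_of_lt (Fin.le_def.1 (ha.monotone (Finset.mem_Iic.1 hu))) h⟩
    have := Finset.card_le_card this
    rw [Fin.card_Iic] at this; unfold cnt; omega
  · intro h
    by_contra hc
    have : (Finset.univ.filter fun u => (a u).val < x) ⊆ Finset.Iio s := fun u hu => by
      rw [Finset.mem_filter] at hu; rw [Finset.mem_Iio]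
      by_contra hus
      exact hc (lt_of_le_of_lt (Fin.le_def.1 (ha.monotone (not_lt.1 hus))) hu.2)
    have := Finset.card_le_card this
    rw [Fin.card_Iio] at this; unfold cnt at h; omega

theorem cnt_le_card {k N : ℕ} (a : Fin k → Fin N) (x : ℕ) : cnt a x ≤ k :=
  (Finset.card_le_univ _).trans (by simp)

theorem cnt_le_iff {k k' N : ℕ} {a : Fin k → Fin N} {b : Fin k' → Fin N} (ha : StrictMono a)
    (hb : StrictMono b) :
    (∀ x, cnt a x ≤ cnt b x) ↔ k ≤ k' ∧ ∀ (j : Fin k) (j' : Fin k'), j.val = j'.val → b j' ≤ a j := by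
  constructor
  · intro h
    have hk : k ≤ k' := by
      have hN := h N
      have : cnt a N = k := by simp [cnt]
      have := cnt_le_card b N
      omega
    refine ⟨hk, fun j j' hj => ?_⟩
    rw [Fin.le_def]
    have h1 := (lt_cnt_iff ha j ((a j).val + 1)).1 (by omega)
    have h2 := (lt_cnt_iff hb j' ((a j).val + 1)).2 (by have := h ((a j).val + 1); omega)
    omega
  · rintro ⟨hk, h⟩ x
    by_contra hc
    push Not at hc
    have hlt : cnt b x < k := lt_of_lt_of_le hc (cnt_le_card a x)
    have h1 := (lt_cnt_iff ha ⟨cnt b x, hlt⟩ x).2 hc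
    have h2 := (lt_cnt_iff hb ⟨cnt b x, by omega⟩ x).1
      (lt_of_le_of_lt (Fin.le_def.1 (h ⟨cnt b x, hlt⟩ ⟨cnt b x, by omega⟩ rfl)) h1)
    simp at h2

theorem idx_le_iff_cnt {d N : ℕ} (θ θ' : Idx d N) : θ ≤ θ' ↔ ∀ x, cnt θ'.1 x ≤ cnt θ.1 x := by
  rw [cnt_le_iff θ'.2 θ.2]
  refine ⟨fun h => ⟨le_rfl, fun j j' hj => ?_⟩, fun h t => h.2 t t rfl⟩
  obtain rfl : j = j' := Fin.ext hj
  exact h j

theorem cnt_eq_image {k N : ℕ} {a : Fin k → Fin N} (ha : Function.Injective a) (x : ℕ) :
    cnt a x = ((Finset.univ.image a).filter fun i => i.val < x).card := by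
  rw [Finset.filter_image, Finset.card_image_of_injective _ ha]; rfl

variable {d r : ℕ}

/-- rows of `[I_d ; Z]` used by a minor with row set `A` of `Z` and column set `B` -/
def cellSet (A : Finset (Fin r)) (B : Finset (Fin d)) : Finset (Fin (d + r)) :=
  Bᶜ.map (Fin.castAddEmb r) ∪ A.map (Fin.revPerm.toEmbedding.trans (Fin.natAddEmb d))

@[simp] theorem castAdd_mem_cellSet {A : Finset (Fin r)} {B : Finset (Fin d)} {j : Fin d} :
    Fin.castAdd r j ∈ cellSet A B ↔ j ∉ B := by
  rw [cellSet, Finset.mem_union]
  constructor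
  · rintro (h | h)
    · obtain ⟨x, hx, hx'⟩ := Finset.mem_map.1 h
      rw [← Fin.castAdd_injective d r hx']; exact Finset.mem_compl.1 hx
    · obtain ⟨x, -, hx⟩ := Finset.mem_map.1 h
      have := congrArg Fin.val hx
      simp [Fin.natAddEmb] at this; have := j.isLt; omega
  · intro h
    exact Or.inl (Finset.mem_map.2 ⟨j, Finset.mem_compl.2 h, rfl⟩)

@[simp] theorem natAdd_mem_cellSet {A : Finset (Fin r)} {B : Finset (Fin d)} {i : Fin r} :
    Fin.natAdd d i ∈ cellSet A B ↔ i.rev ∈ A := by
  rw [cellSet, Finset.mem_union]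
  constructor
  · rintro (h | h)
    · obtain ⟨x, -, hx⟩ := Finset.mem_map.1 h
      have := congrArg Fin.val hx
      simp at this; have := x.isLt; omega
    · obtain ⟨x, hx, hx'⟩ := Finset.mem_map.1 h
      have : x.rev = i := Fin.natAdd_injective r d hx'
      rw [← this, Fin.rev_rev]; exact hx
  · intro h
    exact Or.inr (Finset.mem_map.2 ⟨i.rev, h, by simp [Fin.natAddEmb]⟩)

theorem card_cellSet {A : Finset (Fin r)} {B : Finset (Fin d)} (h : A.card = B.card) :
    (cellSet A B).card = d := by
  rw [cellSet, Finset.card_union_of_disjoint, Finset.card_map, Finset.card_map, Finset.card_compl,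
    Fintype.card_fin, h]
  · have := Finset.card_le_univ B; simp at this; omega
  · rw [Finset.disjoint_left]
    intro x h1 h2
    obtain ⟨u, -, rfl⟩ := Finset.mem_map.1 h1
    obtain ⟨w, -, hw⟩ := Finset.mem_map.1 h2
    have := congrArg Fin.val hw
    simp [Fin.natAddEmb] at this; have := u.isLt; omega

/-- the index attached to a minor of `Z` -/
def cellIdx (A : Finset (Fin r)) (B : Finset (Fin d)) (h : A.card = B.card) : Idx d (d + r) :=
  ⟨(cellSet A B).orderEmbOfFin (card_cellSet h), ((cellSet A B).orderEmbOfFin _).strictMono⟩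

theorem image_cellIdx (A : Finset (Fin r)) (B : Finset (Fin d)) (h : A.card = B.card) :
    Finset.univ.image (cellIdx A B h).1 = cellSet A B := Finset.image_orderEmbOfFin_univ _ _

theorem exists_cellIdx (θ : Idx d (d + r)) : ∃ A B h, θ = cellIdx (r := r) (d := d) A B h := by
  classical
  set T := Finset.univ.image θ.1 with hT
  set A := (Finset.univ : Finset (Fin r)).filter fun i => Fin.natAdd d i.rev ∈ T
  set B := (Finset.univ : Finset (Fin d)).filter fun j => Fin.castAdd r j ∉ T
  have hTe : T = cellSet A B := by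
    ext x
    induction x using Fin.addCases with
    | left j => simp [B]
    | right i => simp [A]
  have hcard : A.card = B.card := by
    have hc : T.card = d := injective_iff_card_image.2 θ.2.injective
    rw [hTe, cellSet, Finset.card_union_of_disjoint, Finset.card_map, Finset.card_map, Finset.card_compl,
      Fintype.card_fin] at hc
    · have := Finset.card_le_univ B; simp at this; omega
    · rw [Finset.disjoint_left]
      intro x h1 h2
      obtain ⟨u, -, rfl⟩ := Finset.mem_map.1 h1
      obtain ⟨w, -, hw⟩ := Finset.mem_map.1 h2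
      have := congrArg Fin.val hw
      simp [Fin.natAddEmb] at this; have := u.isLt; omega
  exact ⟨A, B, hcard, Subtype.ext (Finset.orderEmbOfFin_unique (card_cellSet hcard)
    (fun x => hTe ▸ Finset.mem_image_of_mem θ.1 (Finset.mem_univ x)) θ.2)⟩

/-- number of elements below `x` -/
def scnt {N : ℕ} (A : Finset (Fin N)) (x : ℕ) : ℕ := (A.filter fun i => i.val < x).card

theorem scnt_image {k N : ℕ} {a : Fin k → Fin N} (ha : Function.Injective a) (x : ℕ) :
    scnt (Finset.univ.image a) x = cnt a x := (cnt_eq_image ha x).symm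

theorem scnt_top {N : ℕ} (A : Finset (Fin N)) {x : ℕ} (hx : N ≤ x) : scnt A x = A.card := by
  unfold scnt; congr 1
  exact Finset.filter_true_of_mem fun i _ => lt_of_lt_of_le i.isLt hx

theorem cnt_cellIdx (A : Finset (Fin r)) (B : Finset (Fin d)) (h : A.card = B.card) (x : ℕ) :
    (x ≤ d → cnt (cellIdx A B h).1 x + scnt B x = x) ∧
    (d ≤ x → cnt (cellIdx A B h).1 x + scnt A (d + r - x) = d) := by
  rw [cnt_eq_image (cellIdx A B h).2.injective, image_cellIdx, cellSet, Finset.filter_union,
    Finset.card_union_of_disjoint, Finset.filter_map, Finset.filter_map, Finset.card_map, Finset.card_map]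
  swap
  · refine Finset.disjoint_filter_filter ?_
    rw [Finset.disjoint_left]
    intro y h1 h2
    obtain ⟨u, -, rfl⟩ := Finset.mem_map.1 h1
    obtain ⟨w, -, hw⟩ := Finset.mem_map.1 h2
    have := congrArg Fin.val hw
    simp [Fin.natAddEmb] at this; have := u.isLt; omega
  constructor
  · intro hx
    have h0 : A.filter ((fun i : Fin (d + r) => i.val < x) ∘ ⇑(Fin.revPerm.toEmbedding.trans (Fin.natAddEmb d))) = ∅ := by
      rw [Finset.filter_eq_empty_iff]; intro i _
      simp [Fin.natAddEmb]; omega
    rw [h0, Finset.card_empty, add_zero, scnt, ← Finset.card_union_of_disjoint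
      (Finset.disjoint_filter_filter disjoint_compl_left)]
    have : Bᶜ.filter ((fun i : Fin (d + r) => i.val < x) ∘ ⇑(Fin.castAddEmb r)) ∪ B.filter (fun i => i.val < x)
        = Finset.univ.filter fun i : Fin d => i.val < x := by
      ext i; simp; tauto
    rw [this]
    by_cases hxd : x < d
    · rw [show (Finset.univ.filter fun i : Fin d => i.val < x) = Finset.Iio ⟨x, hxd⟩ by ext i; simp [Fin.lt_def],
        Fin.card_Iio]
    · have : x = d := by omega
      subst this
      rw [Finset.filter_true_of_mem (fun i _ => i.isLt), Finset.card_univ, Fintype.card_fin]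
  · intro hx
    have h0 : Bᶜ.filter ((fun i : Fin (d + r) => i.val < x) ∘ ⇑(Fin.castAddEmb r)) = Bᶜ :=
      Finset.filter_true_of_mem fun i _ => by simp; have := i.isLt; omega
    rw [h0, Finset.card_compl, Fintype.card_fin, scnt]
    have : A.filter (fun i => i.val < d + r - x) =
        A.filter fun i => ¬ ((fun i : Fin (d + r) => i.val < x) ∘ ⇑(Fin.revPerm.toEmbedding.trans (Fin.natAddEmb d))) i := by
      refine Finset.filter_congr fun i _ => ?_
      simp [Fin.natAddEmb, Fin.val_rev]; have := i.isLt; omega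
    rw [this, add_assoc, Finset.card_filter_add_card_filter_not, h]
    have := Finset.card_le_univ B; simp at this; omega

theorem cellIdx_le_iff {A A' : Finset (Fin r)} {B B' : Finset (Fin d)} (h : A.card = B.card)
    (h' : A'.card = B'.card) :
    cellIdx A B h ≤ cellIdx A' B' h' ↔
      (∀ z, scnt A z ≤ scnt A' z) ∧ (∀ x, scnt B x ≤ scnt B' x) := by
  rw [idx_le_iff_cnt]
  constructor
  · intro hle
    have hA : ∀ z ≤ r, scnt A z ≤ scnt A' z := fun z hz => by
      have := hle (d + r - z)
      have h1 := (cnt_cellIdx A B h (d + r - z)).2 (by omega)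
      have h2 := (cnt_cellIdx A' B' h' (d + r - z)).2 (by omega)
      rw [show d + r - (d + r - z) = z by omega] at h1 h2
      omega
    have hB : ∀ x ≤ d, scnt B x ≤ scnt B' x := fun x hx => by
      have := hle x
      have h1 := (cnt_cellIdx A B h x).1 hx
      have h2 := (cnt_cellIdx A' B' h' x).1 hx
      omega
    refine ⟨fun z => ?_, fun x => ?_⟩
    · rcases le_total z r with hz | hz
      · exact hA z hz
      · have := hA r le_rfl; rw [scnt_top A le_rfl, scnt_top A' le_rfl] at this
        rw [scnt_top A hz, scnt_top A' hz]; exact this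
    · rcases le_total x d with hx | hx
      · exact hB x hx
      · have := hB d le_rfl; rw [scnt_top B le_rfl, scnt_top B' le_rfl] at this
        rw [scnt_top B hx, scnt_top B' hx]; exact this
  · rintro ⟨hA, hB⟩ x
    rcases le_total x d with hx | hx
    · have h1 := (cnt_cellIdx A B h x).1 hx
      have h2 := (cnt_cellIdx A' B' h' x).1 hx
      have := hB x; omega
    · have h1 := (cnt_cellIdx A B h x).2 hx
      have h2 := (cnt_cellIdx A' B' h' x).2 hx
      have := hA (d + r - x); omega

theorem scnt_le_card {N : ℕ} (A : Finset (Fin N)) (x : ℕ) : scnt A x ≤ A.card := Finset.card_filter_le _ _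

/-- initial segment -/
def initSeg (N s : ℕ) : Finset (Fin N) := Finset.univ.filter fun i => i.val < s

theorem card_initSeg {N s : ℕ} (h : s ≤ N) : (initSeg N s).card = s := by
  rcases h.lt_or_eq with h | rfl
  · rw [initSeg, show (Finset.univ.filter fun i : Fin N => i.val < s) = Finset.Iio ⟨s, h⟩ by ext; simp [Fin.lt_def],
      Fin.card_Iio]
  · rw [initSeg, Finset.filter_true_of_mem (fun i _ => i.isLt), Finset.card_univ, Fintype.card_fin]

theorem scnt_le_scnt_initSeg {N : ℕ} (A : Finset (Fin N)) {s : ℕ} (h : A.card ≤ s) (x : ℕ) :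
    scnt A x ≤ scnt (initSeg N s) x := by
  have h1 : scnt (initSeg N s) x = (initSeg N (min x s)).card := by
    unfold scnt initSeg; rw [Finset.filter_filter]; congr 1; ext i; simp [and_comm]
  rw [h1]
  rcases le_or_gt (min x s) N with hN | hN
  · rw [card_initSeg hN, le_min_iff]
    refine ⟨?_, (scnt_le_card A x).trans h⟩
    rcases le_or_gt x N with hx | hx
    · refine le_trans (Finset.card_le_card (t := initSeg N x) fun i hi => ?_) (card_initSeg hx).le
      simp [initSeg, (Finset.mem_filter.1 hi).2]
    · exact (Finset.card_le_univ _).trans (by simp; omega)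
  · rw [show initSeg N (min x s) = Finset.univ from Finset.filter_true_of_mem fun i _ => by have := i.isLt; omega]
    exact Finset.card_le_univ _

/-- the index of the rank `≤ s` locus -/
def rankIdx (d r s : ℕ) (hd : s ≤ d) (hr : s ≤ r) : Idx d (d + r) :=
  cellIdx (initSeg r s) (initSeg d s) (by rw [card_initSeg hd, card_initSeg hr])

theorem le_rankIdx_iff {s : ℕ} (hd : s ≤ d) (hr : s ≤ r) (A : Finset (Fin r)) (B : Finset (Fin d))
    (h : A.card = B.card) : cellIdx A B h ≤ rankIdx d r s hd hr ↔ A.card ≤ s := by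
  rw [rankIdx, cellIdx_le_iff]
  refine ⟨fun hh => ?_, fun hh => ⟨fun z => scnt_le_scnt_initSeg A hh z, fun x => scnt_le_scnt_initSeg B (h ▸ hh) x⟩⟩
  have := hh.1 r
  rwa [scnt_top A le_rfl, scnt_top _ le_rfl, card_initSeg hr] at this

/-- the least index -/
def botIdx (d r : ℕ) : Idx d (d + r) := cellIdx ∅ ∅ rfl

theorem botIdx_le (θ : Idx d (d + r)) : botIdx d r ≤ θ := by
  obtain ⟨A, B, h, rfl⟩ := exists_cellIdx θ
  rw [botIdx, cellIdx_le_iff]
  simp [scnt]

theorem botIdx_apply (t : Fin d) : (botIdx d r).1 t = Fin.castAdd r t := by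
  have := Finset.orderEmbOfFin_unique (card_cellSet (A := (∅ : Finset (Fin r))) (B := (∅ : Finset (Fin d))) rfl)
    (f := fun t : Fin d => Fin.castAdd r t) (fun t => by simp) (fun a b h => h)
  exact (congrFun this t).symm

theorem cellIdx_ne_bot {A : Finset (Fin r)} {B : Finset (Fin d)} (h : A.card = B.card) (hA : A.card ≠ 0) :
    cellIdx A B h ≠ botIdx d r := by
  intro he
  have := (cellIdx_le_iff h rfl).1 he.le
  have := this.1 r
  rw [scnt_top A le_rfl, scnt_top _ le_rfl] at this
  simp at this
  exact hA (by simp [this])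

/-! ### minors of `[I ; Z]` -/

variable {R : Type v} [CommRing R]

/-- the matrix `[I_d ; Z]`, rows of `Z` reversed -/
def cellOf (Z : Matrix (Fin r) (Fin d) R) : Matrix (Fin (d + r)) (Fin d) R :=
  Matrix.of fun i t => Fin.addCases (fun j : Fin d => if j = t then (1 : R) else 0) (fun k : Fin r => Z k.rev t) i

theorem neg_one_pow_of_units (s : ℤˣ) : ∃ e : ℕ, ((s : ℤ) : R) = (-1) ^ e := by
  rcases Int.units_eq_one_or s with h | h
  · exact ⟨0, by simp [h]⟩
  · exact ⟨1, by simp [h]⟩

theorem det_cellIdx {k : ℕ} (Z : Matrix (Fin r) (Fin d) R) (a : Fin k → Fin r) (b : Fin k → Fin d)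
    (_ha : Function.Injective a) (hb : Function.Injective b) (A : Finset (Fin r)) (B : Finset (Fin d))
    (hA : Finset.univ.image a = A) (hB : Finset.univ.image b = B) (h : A.card = B.card) :
    ∃ e : ℕ, ((cellOf Z).submatrix (cellIdx A B h).1 id).det = (-1) ^ e * (Z.submatrix a b).det := by
  classical
  subst hA; subst hB
  have hk : k ≤ d := by simpa using Fintype.card_le_of_injective b hb
  have hl : (Finset.univ.image b)ᶜ.card = d - k := by
    rw [Finset.card_compl, Finset.card_image_of_injective _ hb, Finset.card_univ, Fintype.card_fin, Fintype.card_fin]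
  set c := (Finset.univ.image b)ᶜ.orderEmbOfFin hl with hc
  let eR : Fin d ≃ Fin k ⊕ Fin (d - k) := (finSumFinEquiv.trans (finCongr (by omega))).symm
  have hnb : ∀ u v, b u ≠ c v := fun u v he => by
    have := Finset.orderEmbOfFin_mem _ hl v
    rw [← hc, ← he, Finset.mem_compl] at this
    exact this (Finset.mem_image_of_mem b (Finset.mem_univ u))
  have hbc : Function.Bijective (Sum.elim b c) := by
    refine (Fintype.bijective_iff_injective_and_card _).2 ⟨hb.sumElim c.injective hnb, by simp; omega⟩
  let eC : Fin d ≃ Fin k ⊕ Fin (d - k) := (Equiv.ofBijective _ hbc).symm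
  set φ : Fin d → Fin (d + r) :=
    fun t => Sum.elim (fun u => Fin.natAdd d (a u).rev) (fun v => Fin.castAdd r (c v)) (eR t) with hφ
  set FB := Matrix.fromBlocks (Z.submatrix a b) (Z.submatrix a c) (0 : Matrix (Fin (d - k)) (Fin k) R) 1 with hFB
  have hM : (cellOf Z).submatrix φ id = (FB.submatrix eR eR).submatrix id ⇑(eC.trans eR.symm) := by
    ext t s
    obtain ⟨z, rfl⟩ := eR.symm.surjective t
    obtain ⟨w, rfl⟩ := eC.symm.surjective s
    simp only [Matrix.submatrix_apply, id, hφ, Equiv.trans_apply, Equiv.apply_symm_apply]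
    have hw : eC.symm w = Sum.elim b c w := rfl
    rw [hw]
    rcases z with u | v <;> rcases w with u' | v'
    · simp [cellOf, hFB]
    · simp [cellOf, hFB]
    · simp [cellOf, hFB, (hnb u' v).symm]
    · simp [cellOf, hFB, Matrix.one_apply, c.injective.eq_iff]
  obtain ⟨e₁, he₁⟩ := neg_one_pow_of_units (R := R) (Equiv.Perm.sign (eC.trans eR.symm))
  have hdet : ((cellOf Z).submatrix φ id).det = (-1) ^ e₁ * (Z.submatrix a b).det := by
    rw [hM, Matrix.det_permute', he₁, Matrix.det_submatrix_equiv_self, hFB, Matrix.det_fromBlocks_zero₂₁,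
      Matrix.det_one, mul_one]
  have himg : Finset.univ.image φ = Finset.univ.image (cellIdx (Finset.univ.image a) (Finset.univ.image b) h).1 := by
    rw [image_cellIdx]
    ext x
    simp only [Finset.mem_image, Finset.mem_univ, true_and, hφ]
    induction x using Fin.addCases with
    | left j =>
      rw [castAdd_mem_cellSet]
      constructor
      · rintro ⟨t, ht⟩
        rcases hz : eR t with u | v <;> rw [hz] at ht
        · have := congrArg Fin.val ht; simp at this; have := j.isLt; omega
        · simp only [Sum.elim_inr] at ht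
          rw [← Fin.castAdd_injective d r ht]
          exact Finset.mem_compl.1 (Finset.orderEmbOfFin_mem _ hl v)
      · intro hj
        have : j ∈ Set.range c := by
          rw [hc, Finset.range_orderEmbOfFin]; exact Finset.mem_compl.2 hj
        obtain ⟨v, rfl⟩ := this
        exact ⟨eR.symm (Sum.inr v), by simp⟩
    | right i =>
      rw [natAdd_mem_cellSet]
      constructor
      · rintro ⟨t, ht⟩
        rcases hz : eR t with u | v <;> rw [hz] at ht
        · simp only [Sum.elim_inl] at ht
          rw [← Fin.natAdd_injective r d ht, Fin.rev_rev]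
          exact Finset.mem_image_of_mem a (Finset.mem_univ u)
        · have := congrArg Fin.val ht; simp at this; have := (c v).isLt; omega
      · intro hi
        obtain ⟨u, -, hu⟩ := Finset.mem_image.1 hi
        exact ⟨eR.symm (Sum.inl u), by simp [hu]⟩
  obtain ⟨e₂, he₂⟩ := coord_eq_of_image (K := R) φ _ himg
  have h2 := congrArg (ev R (cellOf Z)) he₂
  rw [ev_coord, map_mul, map_pow, map_neg, map_one, ev_X, hdet] at h2
  refine ⟨e₂ + e₁, ?_⟩
  have hsq : ((-1 : R) ^ e₂) * (-1) ^ e₂ = 1 := by rw [← pow_add, ← two_mul, pow_mul, neg_one_sq, one_pow]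
  calc _ = (-1 : R) ^ e₂ * ((-1 : R) ^ e₂ * ((cellOf Z).submatrix _ id).det) := by rw [← mul_assoc, hsq, one_mul]
    _ = _ := by rw [← h2, pow_add]; ring

theorem det_botIdx (Z : Matrix (Fin r) (Fin d) R) : ((cellOf Z).submatrix (botIdx d r).1 id).det = 1 := by
  rw [show (cellOf Z).submatrix (botIdx d r).1 id = 1 by
    ext s t; simp [botIdx_apply, cellOf, Matrix.one_apply], Matrix.det_one]

/-- a larger minor lies in the ideal of smaller minors -/
theorem det_submatrix_mem_minorIdeal {m n : Type} [Fintype m] [Fintype n] (M : Matrix m n R) (t j : ℕ)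
    (f : Fin (t + j) → m) (g : Fin (t + j) → n) : (M.submatrix f g).det ∈ CAlgX.minorIdeal M t := by
  induction j with
  | zero => exact Ideal.subset_span ⟨(f, g), rfl⟩
  | succ j ih =>
    rw [show (M.submatrix f g).det = Matrix.det (M.submatrix f g : Matrix (Fin (t + j).succ) (Fin (t + j).succ) R)
      from rfl, Matrix.det_succ_row_zero]
    refine Ideal.sum_mem _ fun c _ => Ideal.mul_mem_left _ _ ?_
    exact ih (f ∘ Fin.succ) (g ∘ c.succAbove)

theorem det_submatrix_mem_minorIdeal' {m n : Type} [Fintype m] [Fintype n] (M : Matrix m n R) {t k : ℕ} (h : t ≤ k)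
    (f : Fin k → m) (g : Fin k → n) : (M.submatrix f g).det ∈ CAlgX.minorIdeal M t := by
  obtain ⟨j, rfl⟩ := Nat.exists_eq_add_of_le h
  exact det_submatrix_mem_minorIdeal M t j f g

theorem minors_zero_of_le {t k : ℕ} (h : t ≤ k) {p q : ℕ} (M : Matrix (Fin p) (Fin q) R)
    (hM : ∀ (f : Fin t → Fin p) (g : Fin t → Fin q), (M.submatrix f g).det = 0)
    (f : Fin k → Fin p) (g : Fin k → Fin q) : (M.submatrix f g).det = 0 := by
  have hle : CAlgX.minorIdeal M t ≤ ⊥ := by
    rw [CAlgX.minorIdeal, Ideal.span_le]
    rintro _ ⟨⟨f, g⟩, rfl⟩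
    exact hM f g
  exact hle (det_submatrix_mem_minorIdeal' M h f g)

end Groth.Agent.H26Grass
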