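import Groth.Agent.H26Grass.Cell

set_option autoImplicit false
universe u v

/-! Standard monomials on the opposite cell of `X(rankIdx)`: determinantal ideals. -/

namespace Groth.Agent.H26Grass

open W4bk4grassmannian MvPolynomial Finset

variable {d r : ℕ}

/-- chain of indices without the least one -/
def GoodChain (τ : Idx d (d + r)) (m : ℕ) (c : Fin m → Idx d (d + r)) : Prop :=
  Antitone c ∧ ∀ k, c k ≤ τ ∧ c k ≠ botIdx d r

section
variable {K : Type u} [CommRing K] {R : Type v} [CommRing R] [Algebra K R]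

theorem ev_mul_right {n : ℕ} (A : Matrix (Fin n) (Fin d) R) (G : Matrix (Fin d) (Fin d) R) (θ : Idx d n) :
    ev K (A * G) (X θ) = G.det * ev K A (X θ) := by
  rw [ev_X, ev_X, show (A * G).submatrix θ.1 id = A.submatrix θ.1 id * G by
    ext s t; simp [Matrix.mul_apply], Matrix.det_mul, mul_comm]

theorem ev_cell_bot (Z : Matrix (Fin r) (Fin d) R) : ev K (cellOf Z) (X (botIdx d r)) = 1 := by
  rw [ev_X, det_botIdx]

theorem ev_cell_minor {k : ℕ} (Z : Matrix (Fin r) (Fin d) R) (a : Fin k → Fin r) (b : Fin k → Fin d)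
    (ha : Function.Injective a) (hb : Function.Injective b) :
    ∃ e : ℕ, ev K (cellOf Z) (X (cellIdx (Finset.univ.image a) (Finset.univ.image b)
      (by rw [Finset.card_image_of_injective _ ha, Finset.card_image_of_injective _ hb]))) =
      (-1) ^ e * (Z.submatrix a b).det := by
  rw [ev_X]
  exact det_cellIdx Z a b ha hb _ _ rfl rfl _

theorem map_cellOf {S : Type*} [CommRing S] (f : R →+* S) (Z : Matrix (Fin r) (Fin d) R) :
    (cellOf Z).map f = cellOf (Z.map f) := by
  ext i t
  induction i using Fin.addCases with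
  | left j => simp [cellOf, apply_ite f]
  | right k => simp [cellOf]

/-- rank condition in terms of minors -/
theorem minors_zero_iff {s : ℕ} (hd : s ≤ d) (hr : s ≤ r) (Z : Matrix (Fin r) (Fin d) R) :
    (∀ φ : Idx d (d + r), ¬ φ ≤ rankIdx d r s hd hr → ((cellOf Z).submatrix φ.1 id).det = 0) ↔
      ∀ (f : Fin (s + 1) → Fin r) (g : Fin (s + 1) → Fin d), (Z.submatrix f g).det = 0 := by
  constructor
  · intro h f g
    by_cases hf : Function.Injective f
    · by_cases hg : Function.Injective g
      · have hc : (Finset.univ.image f).card = (Finset.univ.image g).card := by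
          rw [Finset.card_image_of_injective _ hf, Finset.card_image_of_injective _ hg]
        have hnle : ¬ cellIdx _ _ hc ≤ rankIdx d r s hd hr := by
          rw [le_rankIdx_iff, Finset.card_image_of_injective _ hf, Finset.card_univ, Fintype.card_fin]; omega
        obtain ⟨e, he⟩ := det_cellIdx Z f g hf hg _ _ rfl rfl hc
        rw [h _ hnle] at he
        have h2 : ((-1 : R) ^ e) * (-1) ^ e = 1 := by rw [← pow_add, ← two_mul, pow_mul, neg_one_sq, one_pow]
        rw [← one_mul (Z.submatrix f g).det, ← h2, mul_assoc, ← he, mul_zero]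
      · simp only [Function.Injective, not_forall] at hg
        obtain ⟨a, b, hab, hne⟩ := hg
        exact Matrix.det_zero_of_column_eq hne fun k => by simp [hab]
    · simp only [Function.Injective, not_forall] at hf
      obtain ⟨a, b, hab, hne⟩ := hf
      exact Matrix.det_zero_of_row_eq hne (funext fun k => by simp [hab])
  · intro h φ hφ
    obtain ⟨A, B, hAB, rfl⟩ := exists_cellIdx φ
    rw [le_rankIdx_iff, not_le] at hφ
    obtain ⟨e, he⟩ := det_cellIdx Z (A.orderEmbOfFin rfl) (B.orderEmbOfFin hAB.symm)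
      (A.orderEmbOfFin rfl).injective (B.orderEmbOfFin hAB.symm).injective A B
      (Finset.image_orderEmbOfFin_univ _ _) (Finset.image_orderEmbOfFin_univ _ _) hAB
    rw [he, minors_zero_of_le (Nat.succ_le_of_lt hφ) Z h, mul_zero]

end

section
variable (K : Type u) [CommRing K]

/-- restriction to the cell -/
noncomputable def cellMap (d r : ℕ) : PlRing K d (d + r) →ₐ[K] MvPolynomial (Fin r × Fin d) K :=
  ev K (cellOf (genMatrix K r d))

theorem aeval_cellMap {R : Type v} [CommRing R] [Algebra K R] (x : Fin r × Fin d → R) (p : PlRing K d (d + r)) :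
    MvPolynomial.aeval x (cellMap K d r p) = ev K (cellOf (Matrix.of fun i j => x (i, j))) p := by
  rw [cellMap, ev_map]
  congr 2
  rw [show ⇑(MvPolynomial.aeval x : MvPolynomial (Fin r × Fin d) K →ₐ[K] R) =
    ⇑(MvPolynomial.aeval x : MvPolynomial (Fin r × Fin d) K →ₐ[K] R).toRingHom from rfl, map_cellOf]
  congr 1
  ext i j; simp [genMatrix]

theorem cellMap_surjective (d r : ℕ) : Function.Surjective (cellMap K d r) := by
  rw [← AlgHom.range_eq_top, eq_top_iff, ← MvPolynomial.adjoin_range_X, Algebra.adjoin_le_iff]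
  rintro _ ⟨⟨i, j⟩, rfl⟩
  obtain ⟨e, he⟩ := ev_cell_minor (K := K) (genMatrix K r d) (k := 1) (fun _ => i) (fun _ => j)
    (fun a b _ => Subsingleton.elim a b) (fun a b _ => Subsingleton.elim a b)
  rw [Matrix.det_fin_one, Matrix.submatrix_apply] at he
  have hgen : genMatrix K r d i j = X (i, j) := rfl
  rw [hgen] at he
  refine ⟨(-1) ^ e * X (cellIdx (Finset.univ.image fun _ : Fin 1 => i) (Finset.univ.image fun _ : Fin 1 => j)
    (by simp)), ?_⟩
  show cellMap K d r _ = _
  rw [map_mul, map_pow, map_neg, map_one, cellMap, he, ← mul_assoc, ← pow_add, ← two_mul, pow_mul,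
    neg_one_sq, one_pow, one_mul]

/-- spanning of the determinantal ring by good chains -/
theorem span_good {s : ℕ} (hd : s ≤ d) (hr : s ≤ r) (p : MvPolynomial (Fin r × Fin d) K) :
    p ∈ Submodule.span K (Set.range fun c : (Σ m : ℕ, {c : Fin m → Idx d (d + r) //
        GoodChain (rankIdx d r s hd hr) m c}) => cellMap K d r (chainMon K c.2.1)) ⊔
      (CAlgX.minorIdeal (genMatrix K r d) (s + 1)).restrictScalars K := by
  set M := Submodule.span K (Set.range fun c : (Σ m : ℕ, {c : Fin m → Idx d (d + r) //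
        GoodChain (rankIdx d r s hd hr) m c}) => cellMap K d r (chainMon K c.2.1)) ⊔
      (CAlgX.minorIdeal (genMatrix K r d) (s + 1)).restrictScalars K with hM
  obtain ⟨q, rfl⟩ := cellMap_surjective K d r p
  obtain ⟨a, ha, b, hb, rfl⟩ := Submodule.mem_sup.1 (exists_std_decomp K q)
  have hb0 : cellMap K d r b = 0 := plIdealTop_le_ker_ev (cellOf (genMatrix K r d)) hb
  rw [map_add, hb0, add_zero]
  have key : ∀ m (c : Fin m → Idx d (d + r)), Antitone c → cellMap K d r (chainMon K c) ∈ M := by
    intro m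
    induction m with
    | zero => exact fun c hc => Submodule.mem_sup_left (Submodule.subset_span
        ⟨⟨0, c, hc, fun k => k.elim0⟩, rfl⟩)
    | succ m ih =>
      intro c hc
      by_cases h0 : c (Fin.last m) = botIdx d r
      · rw [chainMon, Fin.prod_univ_castSucc, h0, map_mul,
          show cellMap K d r (X (botIdx d r)) = 1 from ev_cell_bot _, mul_one]
        exact ih (c ∘ Fin.castSucc) fun a b h => hc (Fin.castSucc_le_castSucc_iff.2 h)
      · have hne : ∀ k, c k ≠ botIdx d r := fun k he =>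
          h0 (le_antisymm (he ▸ hc (Fin.le_last k)) (botIdx_le _))
        by_cases hle : ∀ k, c k ≤ rankIdx d r s hd hr
        · exact Submodule.mem_sup_left (Submodule.subset_span ⟨⟨_, c, hc, fun k => ⟨hle k, hne k⟩⟩, rfl⟩)
        · push Not at hle
          obtain ⟨k, hk⟩ := hle
          refine Submodule.mem_sup_right ?_
          rw [chainMon, ← Finset.mul_prod_erase _ _ (Finset.mem_univ k), map_mul]
          refine Ideal.mul_mem_right _ _ ?_
          obtain ⟨A, B, hAB, hck⟩ := exists_cellIdx (c k)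
          rw [hck] at hk ⊢
          rw [le_rankIdx_iff, not_le] at hk
          obtain ⟨e, he⟩ := det_cellIdx (genMatrix K r d) (A.orderEmbOfFin rfl) (B.orderEmbOfFin hAB.symm)
            (A.orderEmbOfFin rfl).injective (B.orderEmbOfFin hAB.symm).injective A B
            (Finset.image_orderEmbOfFin_univ _ _) (Finset.image_orderEmbOfFin_univ _ _) hAB
          rw [cellMap, ev_X, he]
          exact Ideal.mul_mem_left _ _ (det_submatrix_mem_minorIdeal' _ (Nat.succ_le_of_lt hk) _ _)
  have hle : (Submodule.span K (Set.range fun c : (Σ m : ℕ, {c : Fin m → Idx d (d + r) // Antitone c}) =>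
      chainMon K c.2.1)).map (cellMap K d r).toLinearMap ≤ M := by
    rw [Submodule.map_span, Submodule.span_le]
    rintro _ ⟨_, ⟨⟨m, c, hc⟩, rfl⟩, rfl⟩
    exact key m c hc
  exact hle (Submodule.mem_map_of_mem ha)

theorem minorIdeal_le_ker_aeval {R : Type v} [CommRing R] [Algebra K R] {t : ℕ} (x : Fin r × Fin d → R)
    (h : ∀ (f : Fin t → Fin r) (g : Fin t → Fin d), ((Matrix.of fun i j => x (i, j)).submatrix f g).det = 0)
    {p : MvPolynomial (Fin r × Fin d) K} (hp : p ∈ CAlgX.minorIdeal (genMatrix K r d) t) :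
    MvPolynomial.aeval x p = 0 := by
  have hle : CAlgX.minorIdeal (genMatrix K r d) t ≤ RingHom.ker (MvPolynomial.aeval x : _ →ₐ[K] R).toRingHom := by
    rw [CAlgX.minorIdeal, Ideal.span_le]
    rintro _ ⟨⟨f, g⟩, rfl⟩
    show (MvPolynomial.aeval x : _ →ₐ[K] R) _ = 0
    rw [AlgHom.map_det, ← h f g]
    congr 1; ext i j; simp [genMatrix]
  exact hle hp

end

section
variable (K : Type u) [Field K] [Infinite K]

/-- padding a good chain with the least index -/
def padChain {m : ℕ} (c : Fin m → Idx d (d + r)) (j : ℕ) : Fin (m + j) → Idx d (d + r) :=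
  Fin.append c (fun _ => botIdx d r)

/-- key independence statement on the cell -/
theorem cell_coeff_zero (hd0 : 0 < d) {α : Type*} (s : Finset α) (len : α → ℕ)
    (c : ∀ a, Fin (len a) → Idx d (d + r)) (hc : ∀ a, Antitone (c a))
    (hbot : ∀ a k, c a k ≠ botIdx d r)
    (hinj : Function.Injective fun a => (⟨len a, c a⟩ : Σ m, Fin m → Idx d (d + r)))
    (g : α → K) (τ : Idx d (d + r))
    (hz : ∀ Z : Matrix (Fin r) (Fin d) K,
      (∀ φ : Idx d (d + r), ¬ φ ≤ τ → ((cellOf Z).submatrix φ.1 id).det = 0) →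
        ev K (cellOf Z) (∑ a ∈ s, g a • chainMon K (c a)) = 0)
    (a : α) (ha : a ∈ s) (hτ : ∀ k, c a k ≤ τ) : g a = 0 := by
  classical
  set N := s.sup len
  have hpadmon : ∀ b, chainMon K (padChain (c b) (N + 1 - len b)) =
      chainMon K (c b) * X (botIdx d r) ^ (N + 1 - len b) := by
    intro b; rw [chainMon, chainMon, padChain, Fin.prod_univ_add]; simp
  refine coeff_eq_zero_of_mem K hd0 s (fun b => len b + (N + 1 - len b)) (fun b => padChain (c b) (N + 1 - len b))
    ?_ ?_ g (τ := τ) ?_ a ha ?_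
  · intro b x y hxy
    unfold padChain
    induction y using Fin.addCases with
    | left y =>
      induction x using Fin.addCases with
      | left x => rw [Fin.append_left, Fin.append_left]; exact hc b (Fin.le_def.2 (by simpa using Fin.le_def.1 hxy))
      | right x => exfalso; rw [Fin.le_def] at hxy; simp at hxy; have := y.isLt; omega
    | right y => rw [Fin.append_right]; exact botIdx_le _
  · intro b b' h
    have h' : List.ofFn (padChain (c b) (N + 1 - len b)) = List.ofFn (padChain (c b') (N + 1 - len b')) :=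
      List.ofFn_inj'.2 h
    rw [padChain, padChain, List.ofFn_fin_append, List.ofFn_fin_append] at h'
    have h'' := congrArg (List.filter fun x => decide (x ≠ botIdx d r)) h'
    have hf : ∀ b, List.filter (fun x => decide (x ≠ botIdx d r))
        (List.ofFn (c b) ++ List.ofFn (fun _ : Fin (N + 1 - len b) => botIdx d r)) = List.ofFn (c b) := by
      intro b
      rw [List.filter_append, List.filter_eq_self.2, List.filter_eq_nil_iff.2, List.append_nil]
      · intro x hx; obtain ⟨_, rfl⟩ := List.mem_ofFn.1 hx; simp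
      · intro x hx; obtain ⟨k, rfl⟩ := List.mem_ofFn.1 hx; simp [hbot b k]
    rw [hf, hf] at h''
    exact hinj (List.ofFn_inj'.1 h'')
  · rw [mem_schubertVanishing_iff]
    intro A hA
    simp only [hpadmon, map_sum, map_smul, map_mul, map_pow]
    set δ := ev K A (X (botIdx d r)) with hδ
    rcases eq_or_ne δ 0 with h0 | h0
    · refine Finset.sum_eq_zero fun b hb => ?_
      have : len b ≤ N := Finset.le_sup hb
      rw [h0, zero_pow (by omega), mul_zero, smul_zero]
    set B := A.submatrix (botIdx d r).1 id with hB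
    have hBdet : B.det = δ := by rw [hδ, ev_X]
    set Z : Matrix (Fin r) (Fin d) K := Matrix.of fun i t => (A * B⁻¹) (Fin.natAdd d i.rev) t with hZ
    have hB1 : B * B⁻¹ = 1 := Matrix.mul_nonsing_inv _ (by rw [hBdet]; exact h0.isUnit)
    have hcell : cellOf Z = A * B⁻¹ := by
      ext i t
      induction i using Fin.addCases with
      | left j =>
        have := congrFun (congrFun hB1 j) t
        rw [Matrix.one_apply, Matrix.mul_apply] at this
        simp only [cellOf, Matrix.of_apply, Fin.addCases_left, ← this, Matrix.mul_apply]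
        simp [hB, botIdx_apply]
      | right k => simp [cellOf, hZ]
    have hAeq : A = cellOf Z * B := by
      rw [hcell, Matrix.mul_assoc, Matrix.nonsing_inv_mul _ (by rw [hBdet]; exact h0.isUnit), Matrix.mul_one]
    have hscale : ∀ b, ev K A (chainMon K (c b)) = δ ^ len b * ev K (cellOf Z) (chainMon K (c b)) := by
      intro b
      rw [chainMon, map_prod, map_prod]
      conv_lhs => rw [hAeq]
      simp only [ev_mul_right, hBdet, Finset.prod_mul_distrib, Finset.prod_const, Finset.card_univ, Fintype.card_fin]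
    have hzZ := hz Z fun φ hφ => by
      have h1 := ev_mul_right (K := K) (cellOf Z) B φ
      rw [← hAeq, ev_X, ev_X, hA φ hφ, hBdet] at h1
      exact (mul_eq_zero.1 h1.symm).resolve_left h0
    have : ∑ b ∈ s, g b • (ev K A (chainMon K (c b)) * δ ^ (N + 1 - len b)) =
        δ ^ (N + 1) * ev K (cellOf Z) (∑ b ∈ s, g b • chainMon K (c b)) := by
      rw [map_sum, Finset.mul_sum]
      refine Finset.sum_congr rfl fun b hb => ?_
      have hle : len b ≤ N := Finset.le_sup hb
      rw [map_smul, hscale, mul_right_comm, ← pow_add, Nat.add_sub_cancel' (by omega)]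
      simp [smul_eq_mul]; ring
    rw [this, hzZ, mul_zero]
  · intro k
    unfold padChain
    induction k using Fin.addCases with
    | left k => rw [Fin.append_left]; exact hτ k
    | right k => rw [Fin.append_right]; exact botIdx_le _

/-- determinantal ideals are the ideals of the rank loci; relative version -/
theorem mem_of_vanish_aux (hd0 : 0 < d) {s : ℕ} (hd : s ≤ d) (hr : s ≤ r)
    (L : Ideal (MvPolynomial (Fin r × Fin d) K))
    (hL : CAlgX.minorIdeal (genMatrix K r d) (s + 1) ≤ L)
    (V : Matrix (Fin r) (Fin d) K → Prop)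
    (hV : ∀ Z, V Z → ∀ q ∈ L, MvPolynomial.eval (fun x : Fin r × Fin d => Z x.1 x.2) q = 0)
    (G : ∀ m, (Fin m → Idx d (d + r)) → Prop)
    (hG : ∀ m c, GoodChain (rankIdx d r s hd hr) m c → ¬ G m c → cellMap K d r (chainMon K c) ∈ L)
    (hGv : ∀ m c, G m c → ∃ ψ : Idx d (d + r), (∀ k, c k ≤ ψ) ∧ ∀ Z : Matrix (Fin r) (Fin d) K,
      (∀ φ : Idx d (d + r), ¬ φ ≤ ψ → ((cellOf Z).submatrix φ.1 id).det = 0) → V Z)
    {p : MvPolynomial (Fin r × Fin d) K}
    (hp : ∀ Z, V Z → MvPolynomial.eval (fun x : Fin r × Fin d => Z x.1 x.2) p = 0) : p ∈ L := by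
  classical
  obtain ⟨a, ha, b, hb, rfl⟩ := Submodule.mem_sup.1 (span_good K hd hr p)
  refine Ideal.add_mem _ ?_ (hL hb)
  obtain ⟨g, rfl⟩ := Finsupp.mem_span_range_iff_exists_finsupp.1 ha
  rw [Finsupp.sum]
  rw [← Finset.sum_filter_add_sum_filter_not g.support (fun c => G c.1 c.2.1)]
  have hbad : (∑ c ∈ g.support with ¬ G c.1 c.2.1, g c • cellMap K d r (chainMon K c.2.1)) ∈ L :=
    Ideal.sum_mem _ fun c hc => by
      rw [MvPolynomial.smul_eq_C_mul]; exact Ideal.mul_mem_left _ _ (hG _ _ c.2.2 (Finset.mem_filter.1 hc).2)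
  refine Ideal.add_mem _ ?_ hbad
  suffices hzero : ∀ c ∈ g.support.filter (fun c => G c.1 c.2.1), g c = 0 by
    rw [Finset.sum_eq_zero fun c hc => by rw [hzero c hc, zero_smul]]; exact Ideal.zero_mem _
  intro c hc
  obtain ⟨ψ, hψ, hψV⟩ := hGv _ _ (Finset.mem_filter.1 hc).2
  refine cell_coeff_zero K hd0 (g.support.filter fun c => G c.1 c.2.1) (fun c => c.1) (fun c => c.2.1)
    (fun c => c.2.2.1) (fun c k => (c.2.2.2 k).2) ?_ g ψ ?_ c hc hψ
  · rintro ⟨m, x, hx⟩ ⟨m', y, hy⟩ h
    simp only [Sigma.mk.inj_iff] at h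
    obtain ⟨rfl, h2⟩ := h
    simp at h2; subst h2; rfl
  intro Z hZ
  set x : Fin r × Fin d → K := fun x => Z x.1 x.2
  have hx : (Matrix.of fun i j => x (i, j)) = Z := rfl
  have key : ev K (cellOf Z) (∑ c ∈ g.support with G c.1 c.2.1, g c • chainMon K c.2.1) =
      MvPolynomial.eval x (∑ c ∈ g.support with G c.1 c.2.1, g c • cellMap K d r (chainMon K c.2.1)) := by
    rw [← MvPolynomial.aeval_eq_eval, map_sum, map_sum]
    refine Finset.sum_congr rfl fun c _ => ?_
    rw [map_smul, map_smul, aeval_cellMap, hx]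
  rw [key]
  have h1 := hp Z (hψV Z hZ)
  rw [Finsupp.sum, ← Finset.sum_filter_add_sum_filter_not g.support (fun c => G c.1 c.2.1), map_add, map_add,
    hV Z (hψV Z hZ) _ hbad, hV Z (hψV Z hZ) _ (hL hb), add_zero, add_zero] at h1
  exact h1

theorem eval_eq_zero_of_mem_minorIdeal {t : ℕ} (Z : Matrix (Fin r) (Fin d) K)
    (h : ∀ (f : Fin t → Fin r) (g : Fin t → Fin d), (Z.submatrix f g).det = 0)
    {p : MvPolynomial (Fin r × Fin d) K} (hp : p ∈ CAlgX.minorIdeal (genMatrix K r d) t) :
    MvPolynomial.eval (fun x : Fin r × Fin d => Z x.1 x.2) p = 0 := by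
  rw [← MvPolynomial.aeval_eq_eval]
  exact minorIdeal_le_ker_aeval K _ h hp

/-- `I_{s+1}` is the ideal of all polynomials vanishing on matrices of rank at most `s` -/
theorem mem_minorIdeal_of_vanish (hd0 : 0 < d) {s : ℕ} (hd : s ≤ d) (hr : s ≤ r)
    {p : MvPolynomial (Fin r × Fin d) K}
    (hp : ∀ Z : Matrix (Fin r) (Fin d) K,
      (∀ (f : Fin (s + 1) → Fin r) (g : Fin (s + 1) → Fin d), (Z.submatrix f g).det = 0) →
        MvPolynomial.eval (fun x : Fin r × Fin d => Z x.1 x.2) p = 0) :
    p ∈ CAlgX.minorIdeal (genMatrix K r d) (s + 1) :=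
  mem_of_vanish_aux K hd0 hd hr _ le_rfl _ (fun Z hZ _ hq => eval_eq_zero_of_mem_minorIdeal K Z hZ hq)
    (GoodChain (rankIdx d r s hd hr)) (fun _ _ h h' => absurd h h')
    (fun _ _ hc => ⟨rankIdx d r s hd hr, fun k => (hc.2 k).1, fun Z hZ => (minors_zero_iff hd hr Z).1 hZ⟩) hp

end

end Groth.Agent.H26Grass
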