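import Mathlib.RingTheory.PolynomialAlgebra
import Mathlib.RingTheory.Ideal.Quotient.Operations
import Mathlib.LinearAlgebra.Basis.Basic
import Mathlib.LinearAlgebra.FreeModule.Basic
import Mathlib.Algebra.MvPolynomial.CommRing
import Mathlib.Algebra.Polynomial.Inductions
import Mathlib.Algebra.Polynomial.RingDivision
import Mathlib.RingTheory.Adjoin.Basic

set_option autoImplicit false
universe u

/-! Rees-type degenerations of an algebra with a monomial basis to a binomial/monomial quotient. -/

namespace Groth.Agent.H26Grass

open Finset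

attribute [local instance] Polynomial.algebra

variable {K : Type u} [Field K] {A : Type u} [CommRing A] [Algebra K A] {H : Type} {ι : Type*}

theorem degeneration (g : H → A) (e : ι → H →₀ ℕ) (W : (H →₀ ℕ) →+ ℕ)
    (hli : LinearIndependent K fun i => MvPolynomial.aeval g (MvPolynomial.monomial (e i) (1 : K)))
    (htop : Submodule.span K (Set.range fun i => MvPolynomial.aeval g (MvPolynomial.monomial (e i) (1 : K))) = ⊤)
    (hW : ∀ s : H →₀ ℕ, MvPolynomial.aeval g (MvPolynomial.monomial s (1 : K)) ∈
      Submodule.span K ((fun i => MvPolynomial.aeval g (MvPolynomial.monomial (e i) (1 : K))) '' {i | W (e i) ≤ W s}))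
    (T : Set (MvPolynomial H K))
    (hT : ∀ f ∈ T, ∃ W0 : ℕ, (∀ s ∈ f.support, W s = W0) ∧ MvPolynomial.aeval g f ∈
      Submodule.span K ((fun i => MvPolynomial.aeval g (MvPolynomial.monomial (e i) (1 : K))) '' {i | W (e i) < W0}))
    (hspan0 : ∀ s : H →₀ ℕ, MvPolynomial.monomial s (1 : K) ∈
      Submodule.span K (Set.range fun i => MvPolynomial.monomial (e i) (1 : K)) ⊔
        (Ideal.span T).restrictScalars K) :
    ∃ (R : Type u) (_ : CommRing R) (_ : Algebra K R) (_ : Algebra (Polynomial K) R)
      (_ : IsScalarTower K (Polynomial K) R),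
      Module.Free (Polynomial K) R ∧
      Nonempty ((R ⧸ Ideal.span {algebraMap (Polynomial K) R Polynomial.X}) ≃ₐ[K]
        (MvPolynomial H K ⧸ Ideal.span T)) ∧
      ∀ c : K, c ≠ 0 →
        Nonempty ((R ⧸ Ideal.span {algebraMap (Polynomial K) R (Polynomial.X - Polynomial.C c)}) ≃ₐ[K] A) := by
  classical
  set mon : (H →₀ ℕ) → A := fun s => MvPolynomial.aeval g (MvPolynomial.monomial s (1 : K)) with hmon
  -- the deformed monomials
  have hsm : ∀ (s : H →₀ ℕ) (a : K), MvPolynomial.monomial s a = a • MvPolynomial.monomial s (1 : K) := fun s a => by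
    rw [MvPolynomial.smul_monomial, smul_eq_mul, mul_one]
  set M : (H →₀ ℕ) → Polynomial A := fun s => Polynomial.C (mon s) * Polynomial.X ^ W s with hM
  have hMadd : ∀ s s', M (s + s') = M s * M s' := fun s s' => by
    simp only [hM, hmon, map_add, pow_add]
    rw [show MvPolynomial.monomial (s + s') (1 : K) = MvPolynomial.monomial s 1 * MvPolynomial.monomial s' 1 by
      rw [MvPolynomial.monomial_mul, one_mul], map_mul, map_mul]
    ring
  have hM0 : M 0 = 1 := by simp [hM, hmon]
  set G : H → Polynomial A := fun h => M (Finsupp.single h 1) with hG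
  set R := Algebra.adjoin (Polynomial K) (Set.range G) with hR
  have hMR : ∀ s, M s ∈ R := by
    intro s
    induction s using Finsupp.induction_linear with
    | zero => rw [hM0]; exact one_mem _
    | add a b ha hb => rw [hMadd]; exact mul_mem ha hb
    | single h k =>
      induction k with
      | zero => rw [Finsupp.single_zero, hM0]; exact one_mem _
      | succ k ih => rw [Finsupp.single_add, hMadd]; exact mul_mem ih (Algebra.subset_adjoin ⟨h, rfl⟩)
  set E : ι → R := fun i => ⟨M (e i), hMR _⟩ with hE
  have hCX : ∀ (a : K) (k : ℕ), algebraMap (Polynomial K) (Polynomial A) (Polynomial.C a * Polynomial.X ^ k) =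
      Polynomial.C (algebraMap K A a) * Polynomial.X ^ k := by
    intro a k; simp [Polynomial.algebraMap_def]
  -- every element is a combination of the `E i`
  have hspanR : ∀ x : R, x ∈ Submodule.span (Polynomial K) (Set.range E) := by
    have hmem : ∀ s, M s ∈ Submodule.span (Polynomial K) (Set.range fun i => M (e i)) := by
      intro s
      obtain ⟨l, hl, hsum⟩ := (Finsupp.mem_span_image_iff_linearCombination K).1 (hW s)
      rw [Finsupp.linearCombination_apply, Finsupp.sum] at hsum
      have : M s = ∑ i ∈ l.support, (Polynomial.C (l i) * Polynomial.X ^ (W s - W (e i))) • M (e i) := by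
        simp only [hM, Algebra.smul_def, hCX]
        rw [show mon s = ∑ i ∈ l.support, l i • mon (e i) from hsum.symm, map_sum, Finset.sum_mul]
        refine Finset.sum_congr rfl fun i hi => ?_
        have hle : W (e i) ≤ W s := (Finsupp.mem_supported _ _).1 hl hi
        calc Polynomial.C (l i • mon (e i)) * Polynomial.X ^ W s
            = Polynomial.C (algebraMap K A (l i)) * Polynomial.C (mon (e i)) *
              (Polynomial.X ^ (W s - W (e i)) * Polynomial.X ^ W (e i)) := by
              rw [← pow_add, Nat.sub_add_cancel hle, Algebra.smul_def, map_mul]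
          _ = _ := by ring
      rw [this]
      exact Submodule.sum_mem _ fun i _ => Submodule.smul_mem _ _ (Submodule.subset_span ⟨i, rfl⟩)
    have hsub : (Subalgebra.toSubmodule R) ≤ Submodule.span (Polynomial K) (Set.range fun i => M (e i)) := by
      rw [hR, Algebra.adjoin_eq_span, Submodule.span_le]
      intro y hy
      have : ∃ s, y = M s := by
        induction hy using Submonoid.closure_induction with
        | mem z hz => obtain ⟨h, rfl⟩ := hz; exact ⟨_, rfl⟩
        | one => exact ⟨0, hM0.symm⟩
        | mul a b _ _ ha hb =>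
          obtain ⟨s, rfl⟩ := ha; obtain ⟨s', rfl⟩ := hb; exact ⟨s + s', (hMadd s s').symm⟩
      obtain ⟨s, rfl⟩ := this
      exact hmem s
    intro x
    have hx := hsub x.2
    rw [show Submodule.span (Polynomial K) (Set.range fun i => M (e i)) =
      (Submodule.span (Polynomial K) (Set.range E)).map R.val.toLinearMap by
        rw [Submodule.map_span, ← Set.range_comp]; rfl] at hx
    obtain ⟨y, hy, hyx⟩ := hx
    exact (Subtype.ext hyx : y = x) ▸ hy
  -- independence
  have hEli : LinearIndependent (Polynomial K) E := by
    rw [linearIndependent_iff']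
    intro s c hc i hi
    ext N
    have h := congrArg (fun x : R => (x : Polynomial A).coeff (N + W (e i))) hc
    simp only [AddSubmonoidClass.coe_finset_sum, ZeroMemClass.coe_zero, Polynomial.coeff_zero,
      Polynomial.finset_sum_coeff] at h
    have hterm : ∀ j, ((c j • E j : R) : Polynomial A).coeff (N + W (e i)) =
        (if W (e j) ≤ N + W (e i) then (c j).coeff (N + W (e i) - W (e j)) else 0) • mon (e j) := by
      intro j
      rw [show ((c j • E j : R) : Polynomial A) = c j • M (e j) from rfl, Algebra.smul_def,
        Polynomial.algebraMap_def, Polynomial.coe_mapRingHom, hM, ← mul_assoc, Polynomial.coeff_mul_X_pow',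
        Polynomial.coeff_mul_C, Polynomial.coeff_map]
      split_ifs <;> simp [Algebra.smul_def]
    rw [Finset.sum_congr rfl fun j _ => hterm j] at h
    have h0 := linearIndependent_iff'.1 hli s _ h i hi
    simpa using h0
  set B := Module.Basis.mk hEli (fun x _ => hspanR x) with hB
  refine ⟨R, inferInstance, inferInstance, inferInstance, inferInstance, Module.Free.of_basis B, ?_, ?_⟩
  · -- fibre at zero
    set tR := Ideal.span {algebraMap (Polynomial K) R Polynomial.X} with htR
    set Ψ : MvPolynomial H K →ₐ[K] R ⧸ tR :=
      MvPolynomial.aeval fun h => Ideal.Quotient.mk tR ⟨G h, Algebra.subset_adjoin ⟨h, rfl⟩⟩ with hΨ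
    have hΨs : ∀ s, Ψ (MvPolynomial.monomial s 1) = Ideal.Quotient.mk tR ⟨M s, hMR s⟩ := by
      intro s
      induction s using Finsupp.induction_linear with
      | zero =>
        rw [show MvPolynomial.monomial (0 : H →₀ ℕ) (1 : K) = 1 from rfl,
          show (⟨M 0, hMR 0⟩ : R) = 1 from Subtype.ext hM0, map_one, map_one]
      | add a b ha hb =>
        rw [show MvPolynomial.monomial (a + b) (1 : K) = MvPolynomial.monomial a 1 * MvPolynomial.monomial b 1 by
          rw [MvPolynomial.monomial_mul, one_mul], map_mul, ha, hb, ← map_mul]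
        exact congrArg _ (Subtype.ext (hMadd a b).symm)
      | single h k =>
        rw [← MvPolynomial.X_pow_eq_monomial, map_pow, hΨ, MvPolynomial.aeval_X, ← map_pow]
        refine congrArg _ (Subtype.ext ?_)
        show G h ^ k = M (Finsupp.single h k)
        induction k with
        | zero => rw [pow_zero, Finsupp.single_zero, hM0]
        | succ k ih => rw [pow_succ, ih, Finsupp.single_add, hMadd]
    have hkill : Ideal.span T ≤ RingHom.ker Ψ.toRingHom := by
      rw [Ideal.span_le]
      intro f hf
      obtain ⟨W0, hW0, hmem⟩ := hT f hf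
      obtain ⟨l, hl, hsum⟩ := (Finsupp.mem_span_image_iff_linearCombination K).1 hmem
      rw [Finsupp.linearCombination_apply, Finsupp.sum] at hsum
      show Ψ f = 0
      conv_lhs => rw [MvPolynomial.as_sum f]
      rw [map_sum, Finset.sum_congr rfl fun s _ => by
        rw [hsm, map_smul, hΨs, ← Ideal.Quotient.mkₐ_eq_mk K, ← map_smul], ← map_sum,
        Ideal.Quotient.mkₐ_eq_mk, Ideal.Quotient.eq_zero_iff_mem, htR, Ideal.mem_span_singleton]
      refine ⟨∑ i ∈ l.support, (Polynomial.C (l i) * Polynomial.X ^ (W0 - W (e i) - 1)) • E i, Subtype.ext ?_⟩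
      simp only [AddSubmonoidClass.coe_finset_sum, MulMemClass.coe_mul]
      have hL : ∀ s ∈ f.support, ((MvPolynomial.coeff s f • (⟨M s, hMR s⟩ : R) : R) : Polynomial A) =
          Polynomial.C (MvPolynomial.coeff s f • mon s) * Polynomial.X ^ W0 := by
        intro s hs
        show MvPolynomial.coeff s f • M s = _
        rw [hM, ← hW0 s hs, ← Polynomial.smul_C, smul_mul_assoc]
      rw [Finset.sum_congr rfl hL, ← Finset.sum_mul, ← map_sum]
      have hf' : ∑ s ∈ f.support, MvPolynomial.coeff s f • mon s = MvPolynomial.aeval g f := by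
        conv_rhs => rw [MvPolynomial.as_sum f, map_sum]
        refine Finset.sum_congr rfl fun s _ => ?_
        rw [hmon, hsm s (MvPolynomial.coeff s f), map_smul]
      rw [hf', ← hsum, map_sum, Finset.sum_mul, Finset.mul_sum]
      refine Finset.sum_congr rfl fun i hi => ?_
      have hlt : W (e i) < W0 := (Finsupp.mem_supported _ _).1 hl hi
      show _ = (algebraMap (Polynomial K) (Polynomial A) Polynomial.X) * ((_ : Polynomial K) • M (e i))
      rw [Algebra.smul_def (Polynomial.C (l i) * _), hCX, Polynomial.algebraMap_def, Polynomial.coe_mapRingHom,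
        Polynomial.map_X, hM, Algebra.smul_def, map_mul]
      have : W0 = (W0 - W (e i) - 1) + 1 + W (e i) := by omega
      conv_lhs => rw [this, pow_add, pow_add, pow_one]
      ring
    have hsurj : Function.Surjective Ψ := by
      intro y
      obtain ⟨x, rfl⟩ := Ideal.Quotient.mk_surjective y
      obtain ⟨c, rfl⟩ := (Finsupp.mem_span_range_iff_exists_finsupp).1 (hspanR x)
      refine ⟨∑ i ∈ c.support, (c i).coeff 0 • MvPolynomial.monomial (e i) (1 : K), ?_⟩
      rw [Finsupp.sum, map_sum, map_sum]
      refine Finset.sum_congr rfl fun i _ => ?_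
      rw [map_smul, hΨs, ← Ideal.Quotient.mkₐ_eq_mk K, ← map_smul, Ideal.Quotient.mkₐ_eq_mk, Ideal.Quotient.eq,
        htR, Ideal.mem_span_singleton]
      refine ⟨-((c i).divX • E i), ?_⟩
      have hsplit : c i • E i = (Polynomial.X : Polynomial K) • ((c i).divX • E i) + (c i).coeff 0 • E i := by
        rw [smul_smul, ← algebraMap_smul (Polynomial K) ((c i).coeff 0), ← add_smul, Polynomial.algebraMap_eq,
          Polynomial.X_mul_divX_add]
      rw [hsplit, Algebra.smul_def (Polynomial.X : Polynomial K)]
      show _ - _ = _
      ring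
    have hker : RingHom.ker Ψ.toRingHom = Ideal.span T := by
      refine le_antisymm (fun p hp => ?_) hkill
      obtain ⟨a, ha, b, hb, rfl⟩ : ∃ a ∈ Submodule.span K (Set.range fun i => MvPolynomial.monomial (e i) (1 : K)),
          ∃ b ∈ Ideal.span T, a + b = p := by
        have : p ∈ Submodule.span K (Set.range fun i => MvPolynomial.monomial (e i) (1 : K)) ⊔
            (Ideal.span T).restrictScalars K := by
          rw [MvPolynomial.as_sum p]
          refine Submodule.sum_mem _ fun s _ => ?_
          rw [hsm]
          exact Submodule.smul_mem _ _ (hspan0 s)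
        obtain ⟨a, ha, b, hb, h⟩ := Submodule.mem_sup.1 this
        exact ⟨a, ha, b, hb, h⟩
      obtain ⟨l, rfl⟩ := (Finsupp.mem_span_range_iff_exists_finsupp).1 ha
      rw [RingHom.mem_ker] at hp
      change Ψ _ = 0 at hp
      rw [map_add, show Ψ b = 0 from hkill hb, add_zero, Finsupp.sum, map_sum] at hp
      rw [Finset.sum_congr rfl fun i _ => by rw [map_smul, hΨs, ← Ideal.Quotient.mkₐ_eq_mk K, ← map_smul], ← map_sum] at hp
      rw [Ideal.Quotient.mkₐ_eq_mk, Ideal.Quotient.eq_zero_iff_mem, htR, Ideal.mem_span_singleton] at hp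
      obtain ⟨x, hx⟩ := hp
      have hzero : ∀ i, l i = 0 := by
        intro i
        have h := congrArg (fun z => B.repr z i) hx
        simp only [map_sum, Finsupp.finsetSum_apply] at h
        rw [Finset.sum_eq_single i] at h
        · rw [show algebraMap (Polynomial K) R Polynomial.X * x = (Polynomial.X : Polynomial K) • x by
            rw [Algebra.smul_def], ← algebraMap_smul (Polynomial K) (l i), map_smul, map_smul,
            show (⟨M (e i), hMR (e i)⟩ : R) = B i by simp [hB, hE], B.repr_self] at h
          simp only [Finsupp.smul_apply, Finsupp.single_eq_same, smul_eq_mul, mul_one] at h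
          simpa using congrArg (Polynomial.coeff · 0) h
        · intro j _ hj
          rw [← algebraMap_smul (Polynomial K) (l j), map_smul,
            show (⟨M (e j), hMR (e j)⟩ : R) = B j by simp [hB, hE], B.repr_self]
          simp [hj]
        · intro hi
          rw [Finsupp.notMem_support_iff] at hi
          simp [hi]
      rw [Finsupp.sum, Finset.sum_eq_zero fun i _ => by rw [hzero i, zero_smul], zero_add]
      exact hb
    exact ⟨((Ideal.quotientEquivAlgOfEq K hker.symm).trans (Ideal.quotientKerAlgEquivOfSurjective hsurj)).symm⟩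
  · -- fibre at `c ≠ 0`
    intro c hc
    set evc : R →ₐ[K] A :=
      ((Polynomial.aeval (R := A) (algebraMap K A c)).restrictScalars K).comp (R.val.restrictScalars K) with hevc
    have hevE : ∀ (q : Polynomial K) i, evc (q • E i) = algebraMap K A (q.eval c * c ^ W (e i)) * mon (e i) := by
      intro q i
      show Polynomial.aeval (algebraMap K A c) (q • M (e i)) = _
      rw [Algebra.smul_def, Polynomial.algebraMap_def, Polynomial.coe_mapRingHom, hM, map_mul, map_mul, map_pow,
        Polynomial.aeval_X, Polynomial.aeval_C, Algebra.algebraMap_self_apply, map_mul, map_pow,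
        Polynomial.coe_aeval_eq_eval, Polynomial.eval_map, Polynomial.eval₂_at_apply]
      ring
    have hsurj : Function.Surjective evc := by
      intro a
      obtain ⟨l, rfl⟩ := (Finsupp.mem_span_range_iff_exists_finsupp).1 (htop ▸ Submodule.mem_top (x := a))
      refine ⟨∑ i ∈ l.support, (Polynomial.C (l i * (c ^ W (e i))⁻¹)) • E i, ?_⟩
      rw [Finsupp.sum, map_sum]
      refine Finset.sum_congr rfl fun i _ => ?_
      rw [hevE, Polynomial.eval_C, mul_assoc, inv_mul_cancel₀ (pow_ne_zero _ hc), mul_one, Algebra.smul_def]
    have hker : RingHom.ker evc.toRingHom =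
        Ideal.span {algebraMap (Polynomial K) R (Polynomial.X - Polynomial.C c)} := by
      apply le_antisymm
      · intro x hx
        rw [RingHom.mem_ker] at hx
        change evc x = 0 at hx
        rw [← B.linearCombination_repr x, Finsupp.linearCombination_apply, Finsupp.sum] at hx ⊢
        simp only [hB, Module.Basis.mk_apply] at hx ⊢
        rw [map_sum, Finset.sum_congr rfl fun i _ => by rw [hevE, ← Algebra.smul_def]] at hx
        have hz := linearIndependent_iff'.1 hli _ _ hx
        refine Submodule.sum_mem _ fun i hi => ?_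
        have hroot : (Polynomial.X - Polynomial.C c) ∣ (B.repr x) i :=
          Polynomial.dvd_iff_isRoot.2 ((mul_eq_zero.1 (hz i hi)).resolve_right (pow_ne_zero _ hc))
        obtain ⟨q, hq⟩ := hroot
        rw [hq, mul_smul, Algebra.smul_def]
        exact Ideal.mul_mem_right _ _ (Ideal.mem_span_singleton_self _)
      · rw [Ideal.span_le, Set.singleton_subset_iff, SetLike.mem_coe, RingHom.mem_ker]
        show Polynomial.aeval (algebraMap K A c) (algebraMap (Polynomial K) (Polynomial A) _) = 0
        simp [Polynomial.algebraMap_def]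
    exact ⟨(Ideal.quotientEquivAlgOfEq K hker.symm).trans (Ideal.quotientKerAlgEquivOfSurjective hsurj)⟩

end Groth.Agent.H26Grass
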