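import Groth.Agent.H26Grass.Minors
import Mathlib.LinearAlgebra.Matrix.ToLin

set_option autoImplicit false
universe u

/-! Matrices with vanishing `(n+1)`-minors are products through `K^n`. -/

namespace Groth.Agent.H26Grass

open W4bk4grassmannian Finset

theorem exists_factor {K : Type u} [Field K] {m q n : ℕ} (Z : Matrix (Fin m) (Fin q) K)
    (h : ∀ (f : Fin (n + 1) → Fin m) (g : Fin (n + 1) → Fin q), (Z.submatrix f g).det = 0) :
    ∃ (U : Matrix (Fin m) (Fin n) K) (W : Matrix (Fin n) (Fin q) K), Z = U * W := by
  classical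
  -- the row space
  obtain ⟨b, hbsub, hbspan, hbli⟩ := exists_linearIndependent K (Set.range fun i => Z i)
  have : Fintype b := (Set.Finite.subset (Set.finite_range _) hbsub).fintype
  have hch : ∀ x : b, ∃ i, Z i = x.1 := fun x => hbsub x.2
  choose f hf using hch
  have hcard : Fintype.card b ≤ n := by
    by_contra hgt
    push Not at hgt
    obtain ⟨e⟩ : Nonempty (Fin (n + 1) ↪ b) := Function.Embedding.nonempty_of_card_le (by rw [Fintype.card_fin]; omega)
    have hli : LinearIndependent K ((Z.submatrix (f ∘ e) id).transpose.transpose) := by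
      rw [Matrix.transpose_transpose]
      have : (Z.submatrix (f ∘ e) id) = fun t => ((e t : b) : Fin q → K) := funext fun t => hf (e t)
      rw [this]; exact hbli.comp e e.injective
    obtain ⟨θ, hθ⟩ := exists_minor_ne_zero (Z.submatrix (f ∘ e) id).transpose hli
    refine hθ ?_
    rw [← Matrix.det_transpose]
    exact h (f ∘ e) θ.1
  set emb : b → Fin n := fun x => Fin.castLE hcard (Fintype.equivFin b x)
  have hembinj : Function.Injective emb := fun x y hxy => (Fintype.equivFin b).injective (Fin.castLE_injective _ hxy)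
  set W : Matrix (Fin n) (Fin q) K := Matrix.of (Function.extend emb (fun x => (x : Fin q → K)) 0) with hW
  have hrow : ∀ i, Z i ∈ Submodule.span K (Set.range fun k => W k) := by
    intro i
    have h1 : Z i ∈ Submodule.span K b := hbspan ▸ Submodule.subset_span ⟨i, rfl⟩
    refine Submodule.span_mono ?_ h1
    intro v hv
    exact ⟨emb ⟨v, hv⟩, by show Function.extend emb _ 0 (emb ⟨v, hv⟩) = v; rw [hembinj.extend_apply]⟩
  choose c hc using fun i => (Submodule.mem_span_range_iff_exists_fun K).1 (hrow i)
  refine ⟨Matrix.of c, W, ?_⟩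
  ext i j
  rw [Matrix.mul_apply, ← hc i, Finset.sum_apply]
  simp

theorem minors_mul_eq_zero {R : Type*} [CommRing R] {m q n : ℕ} (U : Matrix (Fin m) (Fin n) R)
    (W : Matrix (Fin n) (Fin q) R) (f : Fin (n + 1) → Fin m) (g : Fin (n + 1) → Fin q) :
    ((U * W).submatrix f g).det = 0 := by
  set U' : Matrix (Fin (n + 1)) (Fin (n + 1)) R :=
    Matrix.of fun i k => Fin.lastCases 0 (fun k => U (f i) k) k
  set W' : Matrix (Fin (n + 1)) (Fin (n + 1)) R :=
    Matrix.of fun k j => Fin.lastCases 0 (fun k => W k (g j)) k
  rw [show (U * W).submatrix f g = U' * W' by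
    ext i j; simp [U', W', Matrix.mul_apply, Fin.sum_univ_castSucc],
    Matrix.det_mul, Matrix.det_eq_zero_of_column_eq_zero (A := U') (Fin.last n) (fun i => by simp [U']), zero_mul]

end Groth.Agent.H26Grass
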