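import Groth.Agent.H26Grass.SchubertCM
import Groth.Agent.H26Grass.CellBasis
import Groth.Agent.H26Grass.RankFactor
import Groth.Agent.H26Grass.DimLemma
import Mathlib.RingTheory.IntegralClosure.IntegrallyClosed

/-!
# Determinantal rings as dehomogenised Schubert cones
-/

set_option autoImplicit false
universe u

namespace Groth.Agent.H26Grass

open W4bk4grassmannian MvPolynomial

variable {d r : ℕ} (K : Type u) [Field K]

/-- Homogenisation of a Plücker polynomial with respect to the least index, in degree `N`. -/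
noncomputable def homog (N : ℕ) (p : PlRing K d (d + r)) : PlRing K d (d + r) :=
  ∑ i ∈ Finset.range N, homogeneousComponent i p * X (botIdx d r) ^ (N - i)

theorem isHomogeneous_homog (N : ℕ) (p : PlRing K d (d + r)) : (homog K N p).IsHomogeneous N := by
  refine IsHomogeneous.sum _ _ _ fun i hi => ?_
  have h := (homogeneousComponent_isHomogeneous i p).mul ((isHomogeneous_X K (botIdx d r)).pow (N - i))
  rwa [one_mul, Nat.add_sub_cancel' (Finset.mem_range.1 hi).le] at h

theorem dvd_homog (N : ℕ) (p : PlRing K d (d + r)) : X (botIdx d r) ∣ homog K N p := by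
  refine Finset.dvd_sum fun i hi => Dvd.dvd.mul_left (dvd_pow_self _ ?_) _
  have := Finset.mem_range.1 hi
  omega

theorem cellMap_bot : cellMap K d r (X (botIdx d r)) = 1 :=
  ev_cell_bot (K := K) (genMatrix K r d)

theorem cellMap_homog {N : ℕ} {p : PlRing K d (d + r)} (hN : p.totalDegree < N) :
    cellMap K d r (homog K N p) = cellMap K d r p := by
  conv_rhs => rw [← sum_homogeneousComponent p]
  simp only [homog, map_sum, map_mul, map_pow, cellMap_bot, one_pow, mul_one]
  exact (Finset.sum_subset (Finset.range_mono hN) fun i _ hi => by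
    rw [homogeneousComponent_eq_zero i p (by simpa using hi), map_zero]).symm

theorem homog_sub_mem {N : ℕ} {p : PlRing K d (d + r)} (hN : p.totalDegree < N) :
    homog K N p - p ∈ Ideal.span {X (botIdx d r) - (1 : PlRing K d (d + r))} := by
  rw [Ideal.mem_span_singleton, ← Ideal.Quotient.eq_zero_iff_dvd, map_sub, sub_eq_zero]
  conv_rhs => rw [← sum_homogeneousComponent p]
  have h1 : Ideal.Quotient.mk (Ideal.span {X (botIdx d r) - (1 : PlRing K d (d + r))})
      (X (botIdx d r)) = 1 := by
    rw [← map_one (Ideal.Quotient.mk _), Ideal.Quotient.eq]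
    exact Ideal.mem_span_singleton_self _
  simp only [homog, map_sum, map_mul, map_pow, h1, one_pow, mul_one]
  exact (Finset.sum_subset (Finset.range_mono hN) fun i _ hi => by
    rw [homogeneousComponent_eq_zero i p (by simpa using hi), map_zero]).symm

theorem ev_mul_of_isHomogeneous {n N : ℕ} (A : Matrix (Fin n) (Fin d) K) (B : Matrix (Fin d) (Fin d) K)
    {q : PlRing K d n} (hq : q.IsHomogeneous N) : ev K (A * B) q = B.det ^ N * ev K A q := by
  conv_lhs => rw [q.as_sum]
  conv_rhs => rw [q.as_sum]
  simp only [map_sum, Finset.mul_sum]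
  refine Finset.sum_congr rfl fun e he => ?_
  have hdeg : ∑ θ, e θ = N := by
    rw [← Finsupp.degree_eq_sum, Finsupp.degree_eq_weight_one]
    exact hq (mem_support_iff.mp he)
  rw [monomial_eq, map_mul, map_mul, Finsupp.prod_fintype _ _ (fun _ => pow_zero _), map_prod, map_prod,
    ← hdeg]
  simp only [map_pow, ev_mul_right, mul_pow, Finset.prod_mul_distrib]
  rw [← algebraMap_eq, AlgHom.commutes, AlgHom.commutes]
  simp only [← Finset.prod_pow_eq_pow_sum]
  ring

variable [Infinite K] {s : ℕ} (hd0 : 0 < d) (hd : s ≤ d) (hr : s ≤ r)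

include hd0 in
/-- Dehomogenisation detects the ideal of the Schubert variety. -/
theorem mem_schubertVanishing_of_cellMap {N : ℕ} {q : PlRing K d (d + r)} (hq : q.IsHomogeneous N)
    (hbot : X (botIdx d r) ∣ q)
    (hmem : cellMap K d r q ∈ CAlgX.minorIdeal (genMatrix K r d) (s + 1)) :
    q ∈ schubertVanishing K d (d + r) (rankIdx d r s hd hr) := by
  rw [mem_schubertVanishing_iff]
  intro A hA
  set δ := ev K A (X (botIdx d r)) with hδ
  rcases eq_or_ne δ 0 with h0 | h0
  · obtain ⟨q', rfl⟩ := hbot
    rw [map_mul, ← hδ, h0, zero_mul]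
  set B := A.submatrix (botIdx d r).1 id with hB
  have hBdet : B.det = δ := by rw [hδ, ev_X]
  set Z : Matrix (Fin r) (Fin d) K := Matrix.of fun i t => (A * B⁻¹) (Fin.natAdd d i.rev) t with hZ
  have hB1 : B * B⁻¹ = 1 := Matrix.mul_nonsing_inv _ (by rw [hBdet]; exact h0.isUnit)
  have hcell : cellOf Z = A * B⁻¹ := by
    ext i t
    induction i using Fin.addCases with
    | left j =>
      have := congrFun (congrFun hB1 j) t
      rw [Matrix.one_apply, Matrix.mul_apply] at this
      simp only [cellOf, Matrix.of_apply, Fin.addCases_left, ← this, Matrix.mul_apply]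
      simp [hB, botIdx_apply]
    | right k => simp [cellOf, hZ]
  have hAeq : A = cellOf Z * B := by
    rw [hcell, Matrix.mul_assoc, Matrix.nonsing_inv_mul _ (by rw [hBdet]; exact h0.isUnit),
      Matrix.mul_one]
  have hZmin : ∀ (f : Fin (s + 1) → Fin r) (g : Fin (s + 1) → Fin d), (Z.submatrix f g).det = 0 := by
    refine (minors_zero_iff hd hr Z).1 fun φ hφ => ?_
    have h1 := ev_mul_right (K := K) (cellOf Z) B φ
    rw [← hAeq, ev_X, ev_X, hA φ hφ, hBdet] at h1
    exact (mul_eq_zero.1 h1.symm).resolve_left h0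
  have hev := eval_eq_zero_of_mem_minorIdeal K Z hZmin hmem
  rw [← aeval_eq_eval, aeval_cellMap] at hev
  rw [hAeq, ev_mul_of_isHomogeneous K _ _ hq]
  rw [show (Matrix.of fun i j => Z i j) = Z from rfl] at hev
  rw [hev, mul_zero]

include hd0 in
theorem cellMap_mem_of_mem {p : PlRing K d (d + r)}
    (hp : p ∈ schubertVanishing K d (d + r) (rankIdx d r s hd hr)) :
    cellMap K d r p ∈ CAlgX.minorIdeal (genMatrix K r d) (s + 1) := by
  refine mem_minorIdeal_of_vanish K hd0 hd hr fun Z hZ => ?_
  rw [← aeval_eq_eval, aeval_cellMap, show (Matrix.of fun i j => Z i j) = Z from rfl]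
  exact (mem_schubertVanishing_iff K).1 hp _ ((minors_zero_iff hd hr Z).2 hZ)

include hd0 hd hr in
theorem minorIdeal_isPrime : (CAlgX.minorIdeal (genMatrix K r d) (s + 1)).IsPrime := by
  refine Ideal.isPrime_iff.mpr ⟨fun htop => ?_, fun {a b} hab => ?_⟩
  · have := eval_eq_zero_of_mem_minorIdeal K (0 : Matrix (Fin r) (Fin d) K)
      (fun f g => Matrix.det_eq_zero_of_row_eq_zero 0 fun _ => rfl)
      (htop ▸ Submodule.mem_top : (1 : MvPolynomial (Fin r × Fin d) K) ∈ _)
    simp at this
  obtain ⟨p, rfl⟩ := cellMap_surjective K d r a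
  obtain ⟨q, rfl⟩ := cellMap_surjective K d r b
  have hP := schubertVanishing_isPrime K hd0 (rankIdx d r s hd hr)
  have h : homog K (p.totalDegree + 1) p * homog K (q.totalDegree + 1) q ∈
      schubertVanishing K d (d + r) (rankIdx d r s hd hr) :=
    mem_schubertVanishing_of_cellMap K hd0 hd hr
      ((isHomogeneous_homog K _ p).mul (isHomogeneous_homog K _ q))
      (Dvd.dvd.mul_right (dvd_homog K _ p) _)
      (by rwa [map_mul, cellMap_homog K (Nat.lt_add_one _), cellMap_homog K (Nat.lt_add_one _)])
  rcases hP.mem_or_mem h with h' | h'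
  · left
    rw [← cellMap_homog K (Nat.lt_add_one p.totalDegree)]
    exact cellMap_mem_of_mem K hd0 hd hr h'
  · right
    rw [← cellMap_homog K (Nat.lt_add_one q.totalDegree)]
    exact cellMap_mem_of_mem K hd0 hd hr h'

/-- From the Schubert cone to the determinantal ring. -/
noncomputable def toDet : (PlRing K d (d + r) ⧸ schubertVanishing K d (d + r) (rankIdx d r s hd hr)) →+*
    (MvPolynomial (Fin r × Fin d) K ⧸ CAlgX.minorIdeal (genMatrix K r d) (s + 1)) :=
  Ideal.Quotient.lift _ ((Ideal.Quotient.mk _).comp (cellMap K d r).toRingHom) fun _ hp =>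
    Ideal.Quotient.eq_zero_iff_mem.mpr (cellMap_mem_of_mem K hd0 hd hr hp)

theorem toDet_mk (p : PlRing K d (d + r)) :
    toDet K hd0 hd hr (Ideal.Quotient.mk _ p) = Ideal.Quotient.mk _ (cellMap K d r p) := rfl

theorem toDet_surjective : Function.Surjective (toDet K hd0 hd hr) := by
  intro z
  obtain ⟨a, rfl⟩ := Ideal.Quotient.mk_surjective z
  obtain ⟨p, rfl⟩ := cellMap_surjective K d r a
  exact ⟨Ideal.Quotient.mk _ p, rfl⟩

theorem ker_toDet : RingHom.ker (toDet K hd0 hd hr) =
    Ideal.span {Ideal.Quotient.mk _ (X (botIdx d r) - (1 : PlRing K d (d + r)))} := by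
  refine le_antisymm (fun z hz => ?_) ?_
  · obtain ⟨p, rfl⟩ := Ideal.Quotient.mk_surjective z
    rw [RingHom.mem_ker, toDet_mk, Ideal.Quotient.eq_zero_iff_mem] at hz
    have hq : homog K (p.totalDegree + 1) p ∈ schubertVanishing K d (d + r) (rankIdx d r s hd hr) :=
      mem_schubertVanishing_of_cellMap K hd0 hd hr (isHomogeneous_homog K _ p) (dvd_homog K _ p)
        (by rwa [cellMap_homog K (Nat.lt_add_one _)])
    have h := Ideal.mem_map_of_mem (Ideal.Quotient.mk (schubertVanishing K d (d + r) (rankIdx d r s hd hr)))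
      (homog_sub_mem K (Nat.lt_add_one p.totalDegree))
    rw [Ideal.map_span, Set.image_singleton, map_sub (Ideal.Quotient.mk _) (homog K _ p) p,
      Ideal.Quotient.eq_zero_iff_mem.mpr hq, zero_sub, neg_mem_iff] at h
    exact h
  · rw [Ideal.span_singleton_le_iff_mem, RingHom.mem_ker, toDet_mk, map_sub, cellMap_bot, map_one,
      sub_self, map_zero]

variable [IsAlgClosed K]

include hd0 hd hr in
theorem isCM_minorIdeal (hr0 : 0 < r) :
    LocCoh.IsCohenMacaulayRing
      (MvPolynomial (Fin r × Fin d) K ⧸ CAlgX.minorIdeal (genMatrix K r d) (s + 1)) := by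
  have hP := schubertVanishing_isPrime K hd0 (rankIdx d r s hd hr)
  have hA := isCM_of_good K (isHomogeneous_schubertVanishing K hd0 _)
    (schubertVanishing_le_vtx K hd0 (rankIdx d r s hd hr))
    (good K hd0 (by omega) _ (rankIdx d r s hd hr) rfl).1
  have := Ideal.Quotient.isDomain (schubertVanishing K d (d + r) (rankIdx d r s hd hr))
  refine { isCohenMacaulayLocalRing_localization := fun Q _ => ?_ }
  have := Ideal.comap_isPrime (toDet K hd0 hd hr) Q
  refine (isCM_iff_of_regular _ (toDet_surjective K hd0 hd hr) _ (ker_toDet K hd0 hd hr) ?_ Q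
    (Q.comap (toDet K hd0 hd hr)) rfl).mp (hA.isCohenMacaulayLocalRing_localization _)
  refine IsSMulRegular.of_ne_zero (R := PlRing K d (d + r) ⧸ schubertVanishing K d (d + r) (rankIdx d r s hd hr)) (M := PlRing K d (d + r) ⧸ schubertVanishing K d (d + r) (rankIdx d r s hd hr)) fun h => ?_
  have := schubertVanishing_le_vtx K hd0 (rankIdx d r s hd hr) (Ideal.Quotient.eq_zero_iff_mem.mp h)
  rw [RingHom.mem_ker, map_sub, constantCoeff_X, map_one, zero_sub, neg_eq_zero] at this
  exact one_ne_zero this

include hd0 hd hr in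
theorem isIntegrallyClosed_minorIdeal (hr0 : 0 < r) :
    IsIntegrallyClosed
      (MvPolynomial (Fin r × Fin d) K ⧸ CAlgX.minorIdeal (genMatrix K r d) (s + 1)) := by
  classical
  set w := rankIdx d r s hd hr with hw
  set J := schubertVanishing K d (d + r) w with hJ
  set I := CAlgX.minorIdeal (genMatrix K r d) (s + 1) with hI
  have hP : J.IsPrime := schubertVanishing_isPrime K hd0 w
  have hI' : I.IsPrime := minorIdeal_isPrime K hd0 hd hr
  have hdom : IsDomain (PlRing K d (d + r) ⧸ J) := Ideal.Quotient.isDomain J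
  have hnormal : IsIntegrallyClosed (PlRing K d (d + r) ⧸ J) :=
    isIntegrallyClosed_schubert_aux K hd0 (by omega) w
  have hdomB : IsDomain (MvPolynomial (Fin r × Fin d) K ⧸ I) := Ideal.Quotient.isDomain I
  set f := toDet K hd0 hd hr
  have hfs : ∀ z, ∃ p, f (Ideal.Quotient.mk J p) = z := fun z => by
    obtain ⟨y, rfl⟩ := toDet_surjective K hd0 hd hr z
    obtain ⟨p, rfl⟩ := Ideal.Quotient.mk_surjective y
    exact ⟨p, rfl⟩
  have hfh : ∀ (N : ℕ) (p : PlRing K d (d + r)), p.totalDegree < N →
      f (Ideal.Quotient.mk J (homog K N p)) = f (Ideal.Quotient.mk J p) := fun N p hN => by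
    show Ideal.Quotient.mk I (cellMap K d r (homog K N p)) = Ideal.Quotient.mk I (cellMap K d r p)
    rw [cellMap_homog K hN]
  have hfu : f (Ideal.Quotient.mk J (X (botIdx d r))) = 1 := by
    show Ideal.Quotient.mk I (cellMap K d r (X (botIdx d r))) = 1
    rw [cellMap_bot, map_one]
  rw [isIntegrallyClosed_iff (FractionRing (MvPolynomial (Fin r × Fin d) K ⧸ I))]
  intro x hx
  set ι := algebraMap (MvPolynomial (Fin r × Fin d) K ⧸ I)
    (FractionRing (MvPolynomial (Fin r × Fin d) K ⧸ I))
  have hι : Function.Injective ι := IsFractionRing.injective _ _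
  obtain ⟨b, c, hc, hbc⟩ := IsFractionRing.div_surjective (A := MvPolynomial (Fin r × Fin d) K ⧸ I) x
  obtain ⟨Q, hQ, hQx⟩ := hx
  change ι b / ι c = x at hbc
  change Polynomial.eval₂ ι x Q = 0 at hQx
  obtain ⟨N, hN⟩ : ∃ N, Q.natDegree = N := ⟨_, rfl⟩
  choose a ha using fun i => hfs (Q.coeff i)
  obtain ⟨b', hb'⟩ := hfs b
  obtain ⟨c', hc'⟩ := hfs c
  set E := (Finset.range N).sup (fun i => (a i).totalDegree) + 1 with hE
  set D := max b'.totalDegree c'.totalDegree + 1 with hD
  set u : PlRing K d (d + r) := X (botIdx d r) with hu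
  set bh := homog K D b' with hbh
  set ch := homog K D c' with hch
  have hfb : f (Ideal.Quotient.mk J bh) = b := by rw [hfh D b' (by omega), hb']
  have hfc : f (Ideal.Quotient.mk J ch) = c := by rw [hfh D c' (by omega), hc']
  have hfa : ∀ i ∈ Finset.range N, f (Ideal.Quotient.mk J (homog K E (a i))) = Q.coeff i := fun i hi => by
    have h := Finset.le_sup (f := fun i => (a i).totalDegree) hi
    rw [hfh E (a i) (by omega), ha]
  have hN0 : 1 ≤ N := by
    by_contra h0
    rw [hQ.natDegree_eq_zero.1 (by omega)] at hQx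
    simp at hQx
  have hc0 : ι c ≠ 0 := (map_ne_zero_iff ι hι).2 (nonZeroDivisors.ne_zero hc)
  have hroot : b ^ N + ∑ i ∈ Finset.range N, Q.coeff i * b ^ i * c ^ (N - i) = 0 := by
    refine hι ?_
    rw [map_zero, ← mul_zero (ι c ^ N), ← hQx, Polynomial.eval₂_eq_sum_range, Finset.sum_range_succ,
      hQ.coeff_natDegree, hN, map_one, one_mul, mul_add, Finset.mul_sum, map_add, map_sum, add_comm, ← hbc]
    congr 1
    · refine Finset.sum_congr rfl fun i hi => ?_
      rw [Finset.mem_range] at hi
      rw [map_mul, map_mul, map_pow, map_pow, div_pow, show ι c ^ N = ι c ^ (N - i) * ι c ^ i by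
        rw [← pow_add]; congr 1; omega]
      field_simp
    · rw [map_pow, div_pow]
      field_simp
  set G := u ^ E * bh ^ N + ∑ i ∈ Finset.range N, homog K E (a i) * bh ^ i * ch ^ (N - i) with hG
  have hGJ : G ∈ J := by
    refine mem_schubertVanishing_of_cellMap K hd0 hd hr (N := E + D * N) ?_ ?_ ?_
    · refine IsHomogeneous.add ?_ (IsHomogeneous.sum _ _ _ fun i hi => ?_)
      · have h := ((isHomogeneous_X K (botIdx d r)).pow E).mul ((isHomogeneous_homog K D b').pow N)
        rwa [one_mul] at h
      · have h := ((isHomogeneous_homog K E (a i)).mul ((isHomogeneous_homog K D b').pow i)).mul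
          ((isHomogeneous_homog K D c').pow (N - i))
        rwa [add_assoc, ← mul_add, Nat.add_sub_cancel' (Finset.mem_range.1 hi).le] at h
    · exact dvd_add (Dvd.dvd.mul_right (dvd_pow_self _ (by omega)) _)
        (Finset.dvd_sum fun i _ => Dvd.dvd.mul_right (Dvd.dvd.mul_right (dvd_homog K E (a i)) _) _)
    · rw [← Ideal.Quotient.eq_zero_iff_mem]
      show f (Ideal.Quotient.mk J G) = 0
      rw [hG, map_add, map_add, map_sum, map_sum, map_mul, map_mul, map_pow, map_pow, map_pow, map_pow,
        hfu, one_pow, one_mul, hfb, ← hroot]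
      refine congrArg (b ^ N + ·) (Finset.sum_congr rfl fun i hi => ?_)
      simp only [map_mul, map_pow, hfa i hi, hfb, hfc]
  set κ := algebraMap (PlRing K d (d + r) ⧸ J) (FractionRing (PlRing K d (d + r) ⧸ J))
  have hκ : Function.Injective κ := IsFractionRing.injective _ _
  have hch0 : κ (Ideal.Quotient.mk J ch) ≠ 0 := fun h => hc0 (by
    rw [← hfc, hκ (h.trans (map_zero κ).symm), map_zero, map_zero])
  set y := κ (Ideal.Quotient.mk J (u ^ E * bh)) / κ (Ideal.Quotient.mk J ch) with hy
  have hint : IsIntegral (PlRing K d (d + r) ⧸ J) y := by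
    refine ⟨Polynomial.X ^ N + ∑ i ∈ Finset.range N,
      Polynomial.C (Ideal.Quotient.mk J (homog K E (a i) * u ^ (E * (N - 1 - i)))) * Polynomial.X ^ i,
      Polynomial.monic_X_pow_add ?_, ?_⟩
    · refine (Polynomial.degree_sum_le _ _).trans_lt ((Finset.sup_lt_iff (WithBot.bot_lt_coe N)).2 fun i hi => ?_)
      exact (Polynomial.degree_C_mul_X_pow_le i _).trans_lt (Nat.cast_lt.2 (Finset.mem_range.1 hi))
    · simp only [Polynomial.eval₂_add, Polynomial.eval₂_finset_sum, Polynomial.eval₂_mul,
        Polynomial.eval₂_pow, Polynomial.eval₂_X, Polynomial.eval₂_C]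
      have hz : κ (Ideal.Quotient.mk J (u ^ (E * (N - 1)))) * κ (Ideal.Quotient.mk J G) = 0 := by
        rw [Ideal.Quotient.eq_zero_iff_mem.2 hGJ, map_zero, mul_zero]
      have hz' : κ (Ideal.Quotient.mk J (u ^ (E * (N - 1)))) * κ (Ideal.Quotient.mk J G) /
          κ (Ideal.Quotient.mk J ch) ^ N = 0 := by rw [hz, zero_div]
      rw [← hz', hG, hy]
      simp only [map_add, map_sum, map_mul, map_pow, mul_add, add_div, Finset.mul_sum, Finset.sum_div,
        div_pow, mul_pow, ← pow_mul]
      congr 1
      · rw [show E * N = E * (N - 1) + E by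
            rw [← Nat.mul_succ, Nat.succ_eq_add_one, Nat.sub_add_cancel hN0], pow_add, mul_assoc]
      · refine Finset.sum_congr rfl fun i hi => ?_
        rw [Finset.mem_range] at hi
        rw [show E * (N - 1) = E * (N - 1 - i) + E * i by rw [← mul_add]; congr 1; omega,
          show N = (N - i) + i by omega, pow_add, pow_add, Nat.add_sub_cancel]
        field_simp
        ring
  obtain ⟨α, hα⟩ := IsIntegrallyClosed.isIntegral_iff.1 hint
  have hmul : α * Ideal.Quotient.mk J ch = Ideal.Quotient.mk J (u ^ E * bh) := hκ (by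
    rw [map_mul, hα, hy, div_mul_cancel₀ _ hch0])
  refine ⟨f α, ?_⟩
  rw [← hbc, eq_div_iff hc0, ← map_mul]
  congr 1
  have := congrArg f hmul
  simpa [map_mul, map_pow, hfu, hfb, hfc] using this

/-! ### Dimension -/

variable (d r s) in
/-- Parameters of a matrix of rank at most `s`: the first `s` columns and the coefficients of the others. -/
abbrev RankVar : Type := (Fin r × Fin s) ⊕ (Fin s × Fin (d - s))

/-- The generic matrix `[U | U Q]`. -/
noncomputable def rankParam : Fin r × Fin d → MvPolynomial (RankVar d r s) K := fun p =>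
  let U : Matrix (Fin r) (Fin s) (MvPolynomial (RankVar d r s) K) :=
    Matrix.of fun i k => X (Sum.inl (i, k))
  let W : Matrix (Fin s) (Fin d) (MvPolynomial (RankVar d r s) K) :=
    Matrix.of fun k j => if h : j.val < s then (if k.val = j.val then 1 else 0)
      else X (Sum.inr (k, (⟨j.val - s, Nat.sub_lt_sub_right (not_lt.1 h) j.isLt⟩ : Fin (d - s))))
  (U * W) p.1 p.2

omit [Infinite K] [IsAlgClosed K] in
theorem rankParam_left (hd : s ≤ d) (i : Fin r) (k : Fin s) :
    rankParam (s := s) (d := d) (r := r) K (i, Fin.castLE hd k) = X (Sum.inl (i, k)) := by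
  simp [rankParam, Matrix.mul_apply, Fin.val_inj]

omit [Infinite K] [IsAlgClosed K] in
theorem rankParam_right (i : Fin r) (l : Fin (d - s)) :
    rankParam (s := s) (d := d) (r := r) K (i, (⟨s + l.val, by omega⟩ : Fin d)) = ∑ k, X (Sum.inl (i, k)) * X (Sum.inr (k, l)) := by
  simp [rankParam, Matrix.mul_apply]

include hd0 hd hr in
theorem ringKrullDim_minorIdeal :
    ringKrullDim (MvPolynomial (Fin r × Fin d) K ⧸ CAlgX.minorIdeal (genMatrix K r d) (s + 1)) =
      ((s * (r + d - s) : ℕ) : WithBot ℕ∞) := by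
  classical
  set I := CAlgX.minorIdeal (genMatrix K r d) (s + 1) with hI
  have hI' : I.IsPrime := minorIdeal_isPrime K hd0 hd hr
  set x := rankParam (s := s) (d := d) (r := r) K with hx
  have hle : ∀ q ∈ I, aeval x q = 0 := fun q hq =>
    minorIdeal_le_ker_aeval K x (fun f g => by
      exact minors_mul_eq_zero (R := MvPolynomial (RankVar d r s) K)
        (Matrix.of fun i k => X (Sum.inl (i, k)))
        (Matrix.of fun (k : Fin s) (j : Fin d) => if h : j.val < s then (if k.val = j.val then 1 else 0)
          else X (Sum.inr (k, (⟨j.val - s, Nat.sub_lt_sub_right (not_lt.1 h) j.isLt⟩ : Fin (d - s))))) f g) hq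
  set φ : (MvPolynomial (Fin r × Fin d) K ⧸ I) →ₐ[K] MvPolynomial (RankVar d r s) K :=
    Ideal.Quotient.liftₐ I (aeval x) hle with hφ
  have hφmk : ∀ q, φ (Ideal.Quotient.mk I q) = aeval x q := fun q => rfl
  set T : Matrix (Fin s) (Fin s) (MvPolynomial (Fin r × Fin d) K) :=
    (genMatrix K r d).submatrix (Fin.castLE hr) (Fin.castLE hd) with hT
  have hxT : T.map (aeval x) = Matrix.of fun i k => X (Sum.inl (Fin.castLE hr i, k)) := by
    ext i k
    simp [hT, genMatrix, hx, rankParam_left K hd]
  have hevalΔ : ∀ (U : Matrix (Fin r) (Fin d) K), MvPolynomial.eval (fun p : Fin r × Fin d => U p.1 p.2) T.det =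
      (U.submatrix (Fin.castLE hr) (Fin.castLE hd)).det := fun U => by
    rw [RingHom.map_det]
    congr 1
    ext i k
    simp [hT, genMatrix]
  have hΔI : T.det ∉ I := fun h => by
    have hmin : ∀ (f : Fin (s + 1) → Fin r) (g : Fin (s + 1) → Fin d),
        (((Matrix.of fun (i : Fin r) (k : Fin s) => if i.val = k.val then (1 : K) else 0) *
          (Matrix.of fun (k : Fin s) (j : Fin d) => if k.val = j.val then (1 : K) else 0)).submatrix f g).det = 0 :=
      fun f g => minors_mul_eq_zero _ _ f g
    have h1 := eval_eq_zero_of_mem_minorIdeal K _ hmin h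
    rw [hevalΔ] at h1
    rw [show (((Matrix.of fun (i : Fin r) (k : Fin s) => if i.val = k.val then (1 : K) else 0) *
        (Matrix.of fun (k : Fin s) (j : Fin d) => if k.val = j.val then (1 : K) else 0)).submatrix
          (Fin.castLE hr) (Fin.castLE hd)) = 1 by
      ext i k
      simp [Matrix.mul_apply, Fin.val_inj, Matrix.one_apply, eq_comm], Matrix.det_one] at h1
    exact one_ne_zero h1
  have hφinj : Function.Injective φ := by
    rw [injective_iff_map_eq_zero]
    intro z hz
    obtain ⟨a, rfl⟩ := Ideal.Quotient.mk_surjective z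
    rw [hφmk] at hz
    rw [Ideal.Quotient.eq_zero_iff_mem]
    refine (hI'.mem_or_mem (mem_minorIdeal_of_vanish K hd0 hd hr (p := a * T.det) fun Z hZ => ?_)).resolve_right hΔI
    rw [map_mul]
    rcases eq_or_ne (MvPolynomial.eval (fun p : Fin r × Fin d => Z p.1 p.2) T.det) 0 with h0 | h0
    · rw [h0, mul_zero]
    obtain ⟨U, W, rfl⟩ := exists_factor (n := s) Z hZ
    set WL := W.submatrix id (Fin.castLE hd) with hWL
    have hWLu : IsUnit WL.det := by
      rw [hevalΔ, show (U * W).submatrix (Fin.castLE hr) (Fin.castLE hd) =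
        U.submatrix (Fin.castLE hr) id * WL from by ext i k; simp [hWL, Matrix.mul_apply],
        Matrix.det_mul] at h0
      exact isUnit_iff_ne_zero.2 (mul_ne_zero_iff.1 h0).2
    set U' := U * WL with hU'
    set W' := WL⁻¹ * W with hW'
    have hUW : U * W = U' * W' := by
      rw [hU', hW', Matrix.mul_assoc, ← Matrix.mul_assoc WL, Matrix.mul_nonsing_inv _ hWLu, Matrix.one_mul]
    have hW'L : ∀ k k' : Fin s, W' k (Fin.castLE hd k') = if k = k' then 1 else 0 := by
      intro k k'
      have h := congrFun (congrFun (Matrix.nonsing_inv_mul WL hWLu) k) k'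
      rw [Matrix.one_apply] at h
      rw [← h]
      simp [hW', hWL, Matrix.mul_apply]
    set v : RankVar d r s → K := Sum.elim (fun p => U' p.1 p.2) (fun p => W' p.1 ⟨s + p.2.val, by omega⟩)
    have hv : ∀ p : Fin r × Fin d, MvPolynomial.eval v (x p) = (U * W) p.1 p.2 := by
      intro p
      rw [hUW, hx, rankParam, Matrix.mul_apply, Matrix.mul_apply, map_sum]
      refine Finset.sum_congr rfl fun k _ => ?_
      rw [map_mul, Matrix.of_apply, eval_X, Matrix.of_apply]
      congr 1
      by_cases hj : p.2.val < s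
      · have h := hW'L k ⟨p.2.val, hj⟩
        rw [show Fin.castLE hd (⟨p.2.val, hj⟩ : Fin s) = p.2 from rfl] at h
        rw [dif_pos hj, h]
        split_ifs with h1 h2 h2 <;> simp_all [Fin.ext_iff]
      · rw [dif_neg hj, eval_X]
        simp only [v, Sum.elim_inr]
        congr 1
        exact Fin.ext (by simp; omega)
    have h2 : MvPolynomial.eval v (aeval x a) = MvPolynomial.eval (fun p : Fin r × Fin d => (U * W) p.1 p.2) a := by
      rw [show MvPolynomial.eval v (aeval x a) = (aeval v : MvPolynomial (RankVar d r s) K →ₐ[K] K) (aeval x a) from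
        (congrFun (aeval_eq_eval v) _).symm, ← AlgHom.comp_apply, comp_aeval, ← congrFun (aeval_eq_eval _) a]
      refine congrArg (fun g => aeval g a) (funext fun p => ?_)
      show aeval v (x p) = _
      rw [← hv p]
      exact congrFun (aeval_eq_eval v) (x p)
    rw [← h2, hz, map_zero, zero_mul]
  set P := Ideal.Quotient.mk I T.det with hP
  have hφP : φ P = (T.map (aeval x)).det := by
    rw [hP, hφmk, AlgHom.map_det]; rfl
  have hp0 : φ P ≠ 0 := fun h => hΔI (Ideal.Quotient.eq_zero_iff_mem.1 (hφinj (h.trans (map_zero φ).symm)))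
  rw [ringKrullDim_of_birational K _ (RankVar d r s) φ hφinj P hp0 ?_]
  · congr 1
    simp only [Fintype.card_sum, Fintype.card_prod, Fintype.card_fin]
    rw [mul_comm r s, ← mul_add, Nat.add_sub_assoc hd]
  intro q
  induction q using MvPolynomial.induction_on with
  | C c => exact ⟨0, algebraMap K _ c, by rw [AlgHom.commutes, pow_zero, one_mul]; rfl⟩
  | add p q hp hq =>
    obtain ⟨j, a, ha⟩ := hp
    obtain ⟨j', a', ha'⟩ := hq
    exact ⟨j + j', P ^ j' * a + P ^ j * a', by
      rw [map_add, map_mul, map_mul, map_pow, map_pow, ha, ha']; ring⟩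
  | mul_X p v hp =>
    obtain ⟨j, a, ha⟩ := hp
    rcases v with ⟨i, k⟩ | ⟨k, l⟩
    · refine ⟨j, a * Ideal.Quotient.mk I (X (i, Fin.castLE hd k)), ?_⟩
      rw [map_mul, ha, hφmk (X (i, Fin.castLE hd k))]
      simp only [aeval_X, hx, rankParam_left K hd]
      ring
    · refine ⟨j + 1, a * Ideal.Quotient.mk I (∑ i, T.adjugate k i * X (Fin.castLE hr i, ⟨s + l.val, by omega⟩)), ?_⟩
      rw [map_mul, ha, hφmk, map_sum]
      set Tx := T.map (aeval x) with hTx
      have hadj : ∀ i, aeval x (T.adjugate k i) = Tx.adjugate k i := fun i => by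
        have := AlgHom.map_adjugate (aeval x : _ →ₐ[K] MvPolynomial (RankVar d r s) K) T
        exact congrFun (congrFun this k) i
      have hsum : ∑ i, Tx.adjugate k i * (∑ k', Tx i k' * X (Sum.inr (k', l))) = Tx.det * X (Sum.inr (k, l)) := by
        simp only [Finset.mul_sum, ← mul_assoc]
        rw [Finset.sum_comm]
        simp only [← Finset.sum_mul]
        rw [Finset.sum_eq_single k]
        · have := congrFun (congrFun (Matrix.adjugate_mul Tx) k) k
          rw [Matrix.mul_apply] at this
          rw [this]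
          simp
        · intro k' _ hk'
          have := congrFun (congrFun (Matrix.adjugate_mul Tx) k) k'
          rw [Matrix.mul_apply] at this
          rw [this]
          simp [Matrix.one_apply, Ne.symm hk']
        · simp
      rw [pow_succ, show aeval x T.det = Tx.det from AlgHom.map_det _ T, map_sum]
      have hxr : ∀ i, x (i, ⟨s + l.val, by omega⟩) =
          ∑ k', X (Sum.inl (i, k')) * X (Sum.inr (k', l)) := fun i => rankParam_right K hd i l
      simp only [map_mul, hφmk, aeval_X, hxr]
      rw [show (∑ i, aeval x (T.adjugate k i) * ∑ k', X (Sum.inl (Fin.castLE hr i, k')) * X (Sum.inr (k', l))) =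
        Tx.det * X (Sum.inr (k, l)) by
          rw [← hsum]
          refine Finset.sum_congr rfl fun i _ => ?_
          rw [hadj]
          congr 1
          refine Finset.sum_congr rfl fun k' _ => ?_
          rw [hxT]; rfl]
      ring

end Groth.Agent.H26Grass
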