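import Groth.Agent.H26Grass.Basis
import Groth.Agent.S11254
import Mathlib.LinearAlgebra.Matrix.Adjugate
import Mathlib.LinearAlgebra.Matrix.NonsingularInverse

set_option autoImplicit false
universe u

/-! First fundamental theorem for `SL_d` acting on `n × d` matrices. -/

namespace Groth.Agent.H26Grass

open W4bk4grassmannian MvPolynomial Finset

variable {d n : ℕ}

/-- the generic matrix -/
noncomputable def genX (K : Type u) [CommRing K] (d n : ℕ) : Matrix (Fin n) (Fin d) (MatRing K d n) :=
  Matrix.of fun i t => X (i, t)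

theorem ev_genX_mem (K : Type u) [CommRing K] (p : PlRing K d n) :
    ev K (genX K d n) p ∈ Algebra.adjoin K (Set.range fun θ : Idx d n => minor K d n θ.1) := by
  have h : (Algebra.adjoin K (Set.range fun θ : Idx d n => minor K d n θ.1)) = (ev K (genX K d n)).range := by
    rw [Algebra.adjoin_range_eq_range_aeval]; rfl
  rw [h]; exact ⟨p, rfl⟩

theorem rightTranslate_minor (K : Type u) [CommRing K] (g : Matrix.SpecialLinearGroup (Fin d) K)
    (a : Fin d → Fin n) : rightTranslate K d n g (minor K d n a) = minor K d n a := by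
  rw [minor, AlgHom.map_det]
  have h : (rightTranslate K d n g).mapMatrix (Matrix.of fun s t => (X (a s, t) : MatRing K d n)) =
      (Matrix.of fun s t => (X (a s, t) : MatRing K d n)) * (g : Matrix (Fin d) (Fin d) K).map C := by
    ext s t
    simp [rightTranslate, Matrix.mul_apply]
  rw [h, Matrix.det_mul]
  conv_lhs => rw [← RingHom.mapMatrix_apply, ← RingHom.map_det]
  simp

theorem eval_ev_genX (K : Type u) [CommRing K] (x : Fin n × Fin d → K) (p : PlRing K d n) :
    MvPolynomial.aeval x (ev K (genX K d n) p) = ev K (Matrix.of fun i t => x (i, t)) p := by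
  rw [ev_map]
  congr 2
  ext i t; simp [genX]

/-- a top-minor multiple lying in the Plücker algebra comes from it -/
theorem saturated (K : Type u) [Field K] [IsAlgClosed K] (hd : 0 < d) (hdn : d < n) (g : MatRing K d n)
    (h : ev K (genX K d n) (X (topIdx hdn.le)) * g ∈ (ev K (genX K d n)).range) :
    g ∈ (ev K (genX K d n)).range := by
  obtain ⟨p, hp⟩ := h
  replace hp : ev K (genX K d n) p = ev K (genX K d n) (X (topIdx hdn.le)) * g := hp
  have hbot : ∃ φ : Idx d n, φ < topIdx hdn.le :=
    ⟨⟨fun t => ⟨t.val, lt_trans t.isLt hdn⟩, fun a b hab => hab⟩,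
      lt_of_le_not_ge (le_topIdx _ _) fun hle => by
        have := Fin.le_def.1 (hle ⟨0, hd⟩)
        simp [topIdx] at this; omega⟩
  have hmem : p ∈ ⨅ φ ∈ divisors (topIdx hdn.le), schubertVanishing K d n φ := by
    simp only [Ideal.mem_iInf]
    intro φ hφ
    rw [mem_schubertVanishing_iff]
    intro A hA
    have h2 := congrArg (MvPolynomial.aeval fun q : Fin n × Fin d => A q.1 q.2) hp
    rw [map_mul, eval_ev_genX, eval_ev_genX, ev_X, show (Matrix.of fun i t => A i t) = A from rfl,
      hA _ hφ.1.not_ge, zero_mul] at h2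
    exact h2
  rw [← Groth.Agent.S11254.result K d n hd hdn _ hbot, schubertVanishing_topIdx] at hmem
  obtain ⟨q, hq, w, hw, rfl⟩ := Submodule.mem_sup.1 hmem
  obtain ⟨r, rfl⟩ := Ideal.mem_span_singleton.1 hw
  have hq0 : ev K (genX K d n) q = 0 := by
    refine MvPolynomial.funext fun x => ?_
    rw [map_zero, ← MvPolynomial.aeval_eq_eval, eval_ev_genX]
    exact (mem_schubertVanishing_iff K).1 ((schubertVanishing_topIdx K hdn.le).symm ▸ hq) _
      fun φ hφ => absurd (le_topIdx _ φ) hφ
  rw [map_add, hq0, zero_add, map_mul] at hp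
  refine ⟨r, ?_⟩
  refine mul_left_cancel₀ ?_ hp
  intro h0
  have hlead := hasLead_minor (K := K) (fun _ _ => true) (topIdx hdn.le) (fun _ => rfl)
  have hgen : suppMat K (fun _ _ => true) = genX K d n := by ext i t; simp [suppMat, genX]
  rw [hgen] at hlead
  rw [ev_X] at h0
  have h1 := hlead.coeff_eq
  rw [h0] at h1
  simp at h1

theorem fft_SL (K : Type u) [Field K] [IsAlgClosed K] (hd : 0 < d) (hdn : d < n) (f : MatRing K d n)
    (hf : ∀ g : Matrix.SpecialLinearGroup (Fin d) K, rightTranslate K d n g f = f) :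
    f ∈ (ev K (genX K d n)).range := by
  classical
  haveI : Infinite K := IsAlgClosed.instInfinite
  set θ := topIdx hdn.le
  set E := ev K (genX K d n) with hE
  set Δ : MatRing K d n := E (X θ) with hΔ
  set pp : Fin n × Fin d → PlRing K d n := fun q => coord K d n (Function.update θ.1 q.2 q.1) with hpp
  set t₀ : Fin d := ⟨0, hd⟩
  set N := f.totalDegree
  set k : (Fin n × Fin d →₀ ℕ) → ℕ := fun e => e.sum fun q m => if q.2 = t₀ then 0 else m with hk
  have hkN : ∀ e ∈ f.support, k e ≤ N := fun e he => by
    refine le_trans ?_ (MvPolynomial.le_totalDegree he)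
    exact Finset.sum_le_sum fun q _ => by dsimp only; split_ifs <;> simp
  set Q : PlRing K d n :=
    ∑ e ∈ f.support, C (coeff e f) * (e.prod fun q m => pp q ^ m) * X θ ^ (N - k e) with hQ
  -- key identity
  have key : Δ ^ N * f = E Q := by
    have hΔne : Δ ≠ 0 := by
      intro h0
      have hlead := hasLead_minor (K := K) (fun _ _ => true) θ (fun _ => rfl)
      have hgen : suppMat K (fun _ _ => true) = genX K d n := by ext i t; simp [suppMat, genX]
      rw [hgen] at hlead
      have h1 := hlead.coeff_eq
      rw [show ((genX K d n).submatrix θ.1 id).det = Δ by rw [hΔ, hE, ev_X], h0] at h1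
      simp at h1
    refine mul_left_cancel₀ hΔne (MvPolynomial.funext fun x => ?_)
    set A : Matrix (Fin n) (Fin d) K := Matrix.of fun i t => x (i, t) with hA
    set B := A.submatrix θ.1 id with hB
    have hΔx : MvPolynomial.eval x Δ = B.det := by
      rw [hΔ, ← MvPolynomial.aeval_eq_eval, hE, eval_ev_genX, ev_X]
    rw [map_mul, map_mul (MvPolynomial.eval x) Δ (E Q)]
    rcases eq_or_ne B.det 0 with h0 | h0
    · rw [hΔx, h0, zero_mul, zero_mul]
    congr 1
    -- the translation
    set δ : Fin d → K := fun t => if t = t₀ then 1 else B.det⁻¹ with hδ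
    have hdetD : (Matrix.diagonal δ).det = B.det⁻¹ ^ (d - 1) := by
      rw [Matrix.det_diagonal, hδ, Finset.prod_ite, Finset.prod_const_one, one_mul, Finset.prod_const]
      congr 1
      rw [Finset.filter_ne', Finset.card_erase_of_mem (Finset.mem_univ _), Finset.card_univ, Fintype.card_fin]
    have hG : (B.adjugate * Matrix.diagonal δ).det = 1 := by
      rw [Matrix.det_mul, hdetD, Matrix.det_adjugate, Fintype.card_fin, ← mul_pow, mul_inv_cancel₀ h0, one_pow]
    have hfx := congrArg (MvPolynomial.eval x) (hf ⟨_, hG⟩)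
    rw [rightTranslate, ← MvPolynomial.aeval_eq_eval, MvPolynomial.comp_aeval_apply,
      MvPolynomial.aeval_eq_eval] at hfx
    have hM : ∀ q : Fin n × Fin d, MvPolynomial.aeval x (∑ j : Fin d, X (q.1, j) *
        C ((B.adjugate * Matrix.diagonal δ) j q.2)) = δ q.2 * MvPolynomial.eval x (E (pp q)) := by
      intro q
      have hc : MvPolynomial.eval x (E (pp q)) = ∑ j, A q.1 j * B.adjugate j q.2 := by
        rw [← MvPolynomial.aeval_eq_eval, hE, eval_ev_genX, hpp, ev_coord, ← hA,
          show A.submatrix (Function.update θ.1 q.2 q.1) id = B.updateRow q.2 (A q.1) by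
            ext s t
            rcases eq_or_ne s q.2 with rfl | hs
            · simp
            · simp [Matrix.updateRow_ne hs, Function.update_of_ne hs, hB],
          ← Matrix.cramer_transpose_apply]
        simp [Matrix.cramer_eq_adjugate_mulVec, Matrix.mulVec, dotProduct, ← Matrix.adjugate_transpose,
          mul_comm]
      rw [hc, Finset.mul_sum, map_sum]
      refine Finset.sum_congr rfl fun j _ => ?_
      rw [map_mul, MvPolynomial.aeval_X, MvPolynomial.aeval_C, Matrix.mul_diagonal, hA]
      simp; ring
    simp only [hM] at hfx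
    rw [map_mul, map_pow, hΔx, ← MvPolynomial.aeval_eq_eval, ← hfx, MvPolynomial.aeval_eq_eval, MvPolynomial.eval_eq, Finset.mul_sum, hQ, map_sum, map_sum]
    refine Finset.sum_congr rfl fun e he => ?_
    rw [map_mul, map_mul, map_mul, map_mul, map_pow, map_pow, hΔ.symm, hΔx, map_finsuppProd,
      map_finsuppProd, MvPolynomial.algHom_C]
    simp only [MvPolynomial.algebraMap_eq, MvPolynomial.eval_C, map_pow]
    have hsplit : B.det ^ N * (∏ q ∈ e.support, δ q.2 ^ e q) = B.det ^ (N - k e) := by
      have hd' : ∏ q ∈ e.support, δ q.2 ^ e q = B.det⁻¹ ^ k e := by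
        simp only [hk, Finsupp.sum, ← Finset.prod_pow_eq_pow_sum]
        refine Finset.prod_congr rfl fun q _ => ?_
        simp only [hδ]; split_ifs <;> simp
      rw [hd', pow_sub₀ _ h0 (hkN e he), inv_pow]
    rw [← hsplit, Finsupp.prod]
    simp only [mul_pow, Finset.prod_mul_distrib]
    ring
  have hmem : Δ ^ N * f ∈ E.range := key ▸ ⟨Q, rfl⟩
  suffices ∀ M, Δ ^ M * f ∈ E.range → f ∈ E.range from this N hmem
  intro M
  induction M with
  | zero => intro h; simpa using h
  | succ M ih =>
    intro h
    refine ih (saturated K hd hdn _ ?_)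
    rw [← hE, ← hΔ, ← mul_assoc, ← pow_succ']
    exact h

end Groth.Agent.H26Grass
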