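import Groth.Agent.H26Grass.CellBasis
import Groth.Agent.H26Grass.RankFactor

set_option autoImplicit false
universe u

/-! First fundamental theorem for `GL_n` acting on pairs of matrices. -/

namespace Groth.Agent.H26Grass

open W4bk4grassmannian MvPolynomial Finset

variable {K : Type u} [Field K] {m n q : ℕ}

/-- evaluation at a pair of matrices -/
noncomputable def evP (U : Matrix (Fin m) (Fin n) K) (W : Matrix (Fin n) (Fin q) K) : PairRing K n m q →ₐ[K] K :=
  MvPolynomial.aeval (Sum.elim (fun x => U x.1 x.2) (fun x => W x.1 x.2))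

/-- invariance, pointwise -/
def IsInv (f : PairRing K n m q) : Prop :=
  ∀ (U : Matrix (Fin m) (Fin n) K) (W : Matrix (Fin n) (Fin q) K) (A : Matrix (Fin n) (Fin n) K),
    A.det ≠ 0 → evP (U * A⁻¹) (A * W) f = evP U W f

theorem evP_pairing (U : Matrix (Fin m) (Fin n) K) (W : Matrix (Fin n) (Fin q) K)
    (p : MvPolynomial (Fin m × Fin q) K) :
    evP U W (pairingMap K n m q p) = MvPolynomial.aeval (fun x : Fin m × Fin q => (U * W) x.1 x.2) p := by
  rw [evP, pairingMap, MvPolynomial.comp_aeval_apply]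
  refine congrArg (fun x => MvPolynomial.aeval x p) (funext fun x => ?_)
  simp [Matrix.mul_apply]

theorem pair_ext [Infinite K] {f g : PairRing K n m q} (h : ∀ U W, evP U W f = evP U W g) : f = g := by
  refine MvPolynomial.funext fun x => ?_
  have h' := h (Matrix.of fun i k => x (Sum.inl (i, k))) (Matrix.of fun k j => x (Sum.inr (k, j)))
  have hx : Sum.elim (fun y : Fin m × Fin n => x (Sum.inl (y.1, y.2)))
      (fun y : Fin n × Fin q => x (Sum.inr (y.1, y.2))) = x := by
    funext y; rcases y with y | y <;> simp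
  simp only [evP, Matrix.of_apply, hx, MvPolynomial.aeval_eq_eval] at h'
  exact h'

theorem isInv_of_glTranslate (f : PairRing K n m q) (h : ∀ A : GL (Fin n) K, glTranslate K n m q A f = f) :
    IsInv f := by
  intro U W A hA
  have h' := congrArg (evP U W) (h (Matrix.GeneralLinearGroup.mkOfDetNeZero A hA))
  rw [← h', glTranslate, evP, evP, MvPolynomial.comp_aeval_apply]
  refine congrArg (fun x => MvPolynomial.aeval x f) (funext fun x => ?_)
  rcases x with ⟨i, k⟩ | ⟨k, j⟩
  · simp [Matrix.mul_apply]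
  · simp [Matrix.mul_apply]

/-- `[I_m 0]` -/
def leftU (K : Type u) [Field K] (m n : ℕ) : Matrix (Fin m) (Fin n) K :=
  Matrix.of fun i k => if k.val = i.val then 1 else 0

/-- `U` completed by unit rows -/
def compl {R : Type*} [CommRing R] (U : Matrix (Fin m) (Fin n) R) : Matrix (Fin n) (Fin n) R :=
  Matrix.of fun k l => if h : k.val < m then U ⟨k.val, h⟩ l else if k = l then 1 else 0

theorem leftU_mul {p : ℕ} (hmn : m ≤ n) (M : Matrix (Fin n) (Fin p) K) (i : Fin m) (l : Fin p) :
    (leftU K m n * M) i l = M (Fin.castLE hmn i) l := by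
  rw [Matrix.mul_apply, Finset.sum_eq_single (Fin.castLE hmn i)]
  · simp [leftU]
  · intro b _ hb
    have : b.val ≠ i.val := fun h => hb (Fin.ext h)
    simp [leftU, this]
  · simp

theorem mem_range_of_le [Infinite K] (hmn : m ≤ n) (f : PairRing K n m q) (hf : IsInv f) :
    f ∈ (pairingMap K n m q).range := by
  classical
  set h : MvPolynomial (Fin m × Fin q) K := MvPolynomial.aeval (Sum.elim
    (fun x : Fin m × Fin n => MvPolynomial.C (leftU K m n x.1 x.2))
    (fun x : Fin n × Fin q => if hx : x.1.val < m then X (⟨x.1.val, hx⟩, x.2) else 0)) f with hh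
  have heval : ∀ P : Matrix (Fin m) (Fin q) K, MvPolynomial.aeval (fun x : Fin m × Fin q => P x.1 x.2) h =
      evP (leftU K m n) (Matrix.of fun k j => if hx : k.val < m then P ⟨k.val, hx⟩ j else 0) f := by
    intro P
    rw [hh, MvPolynomial.comp_aeval_apply, evP]
    refine congrArg (fun x => MvPolynomial.aeval x f) (funext fun x => ?_)
    rcases x with x | x
    · simp
    · by_cases hx : x.1.val < m <;> simp [hx]
  set D : PairRing K n m q := (compl (Matrix.of fun i k => (X (Sum.inl (i, k)) : PairRing K n m q))).det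
  have hDev : ∀ (U : Matrix (Fin m) (Fin n) K) (W : Matrix (Fin n) (Fin q) K), evP U W D = (compl U).det := by
    intro U W
    rw [AlgHom.map_det]
    congr 1
    ext k l
    simp only [AlgHom.mapMatrix_apply, Matrix.map_apply, compl, Matrix.of_apply]
    split_ifs <;> simp [evP]
  have hD0 : D ≠ 0 := fun h0 => by
    have := hDev (leftU K m n) 0
    rw [h0, map_zero, show compl (leftU K m n) = 1 by
      ext k l; simp only [compl, leftU, Matrix.of_apply, Matrix.one_apply, Fin.ext_iff]
      split_ifs <;> first | rfl | omega, Matrix.det_one] at this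
    exact zero_ne_one this
  have key : (f - pairingMap K n m q h) * D = 0 := by
    refine pair_ext fun U W => ?_
    rw [map_mul, map_sub, map_zero, evP_pairing, hDev, heval]
    rcases eq_or_ne (compl U).det 0 with h0 | h0
    · rw [h0, mul_zero]
    refine mul_eq_zero_of_left (sub_eq_zero.2 ?_) _
    have hU0 : leftU K m n * compl U = U := by
      ext i l; rw [leftU_mul hmn]; simp [compl]
    set Wt := compl U * W
    have h1 : evP U W f = evP (leftU K m n) Wt f := by
      rw [← hf U W (compl U) h0]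
      conv_lhs => rw [show U * (compl U)⁻¹ = leftU K m n by
        rw [← hU0, Matrix.mul_assoc, hU0, Matrix.mul_nonsing_inv _ h0.isUnit, Matrix.mul_one]]
    rw [h1]
    set δ : K → Fin n → K := fun s k => if k.val < m then 1 else s with hδ
    set P : Polynomial K := MvPolynomial.aeval (Sum.elim (fun x : Fin m × Fin n => Polynomial.C (leftU K m n x.1 x.2))
      (fun x : Fin n × Fin q => if x.1.val < m then Polynomial.C (Wt x.1 x.2) else Polynomial.X * Polynomial.C (Wt x.1 x.2))) f with hP
    have hPev : ∀ s, P.eval s = evP (leftU K m n) (Matrix.diagonal (δ s) * Wt) f := by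
      intro s
      rw [hP, ← Polynomial.coe_aeval_eq_eval, MvPolynomial.comp_aeval_apply, evP]
      refine congrArg (fun x => MvPolynomial.aeval x f) (funext fun x => ?_)
      rcases x with x | x
      · simp
      · simp only [Sum.elim_inr, Matrix.diagonal_mul, hδ]
        split_ifs <;> simp
        exact mul_comm _ _
    have hroot : ∀ s, s ≠ 0 → P.eval s = evP (leftU K m n) Wt f := by
      intro s hs
      have hdet : (Matrix.diagonal (δ s)).det ≠ 0 := by
        rw [Matrix.det_diagonal, Finset.prod_ne_zero_iff]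
        intro k _; simp only [hδ]; split_ifs <;> first | exact one_ne_zero | exact hs
      have hfix : leftU K m n * Matrix.diagonal (δ s) = leftU K m n := by
        ext i k
        rw [Matrix.mul_diagonal]
        by_cases hik : k.val = i.val
        · simp [hδ, hik]
        · simp [leftU, hik]
      rw [hPev, ← hf (leftU K m n) Wt _ hdet]
      conv_rhs => rw [show leftU K m n * (Matrix.diagonal (δ s))⁻¹ = leftU K m n by
        conv_lhs => rw [← hfix]
        rw [Matrix.mul_assoc, Matrix.mul_nonsing_inv _ hdet.isUnit, Matrix.mul_one]]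
    have hPc : P - Polynomial.C (evP (leftU K m n) Wt f) = 0 := Polynomial.eq_zero_of_infinite_isRoot _
      (Set.Infinite.mono (fun s hs => by simp [Polynomial.IsRoot, hroot s hs])
        (Set.finite_singleton (0 : K)).infinite_compl)
    have h2 := hPev 0
    rw [sub_eq_zero.1 hPc, Polynomial.eval_C] at h2
    rw [h2]
    congr 2
    ext k j
    rw [Matrix.diagonal_mul, Matrix.of_apply]
    by_cases hk : k.val < m
    · rw [dif_pos hk, ← hU0, Matrix.mul_assoc, leftU_mul hmn]
      simp [hδ, hk, Wt]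
    · simp [hδ, hk]
  exact ⟨h, (sub_eq_zero.1 ((mul_eq_zero.1 key).resolve_right hD0)).symm⟩

/-- the variable swap `(U, W) ↦ (Wᵀ, Uᵀ)` -/
def swapVar : (Fin m × Fin n) ⊕ (Fin n × Fin q) → (Fin q × Fin n) ⊕ (Fin n × Fin m) :=
  Sum.elim (fun x => Sum.inr (x.2, x.1)) (fun x => Sum.inl (x.2, x.1))

theorem evP_swap (U : Matrix (Fin q) (Fin n) K) (W : Matrix (Fin n) (Fin m) K) (f : PairRing K n m q) :
    evP U W (MvPolynomial.rename swapVar f) = evP W.transpose U.transpose f := by
  rw [evP, MvPolynomial.aeval_rename, evP]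
  refine congrArg (fun x => MvPolynomial.aeval x f) (funext fun x => ?_)
  rcases x with x | x <;> simp [swapVar]

theorem mem_range_of_le' [Infinite K] (hqn : q ≤ n) (f : PairRing K n m q) (hf : IsInv f) :
    f ∈ (pairingMap K n m q).range := by
  have hf' : IsInv (MvPolynomial.rename swapVar f : PairRing K n q m) := by
    intro U W A hA
    rw [evP_swap, evP_swap, Matrix.transpose_mul, Matrix.transpose_mul, Matrix.transpose_nonsing_inv]
    have h := hf W.transpose U.transpose (A.transpose)⁻¹ (by
      rw [Matrix.det_nonsing_inv, Ring.inverse_eq_inv', Matrix.det_transpose]; exact inv_ne_zero hA)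
    rwa [Matrix.nonsing_inv_nonsing_inv _ (by rw [Matrix.det_transpose]; exact hA.isUnit)] at h
  obtain ⟨h, hh⟩ := mem_range_of_le hqn _ hf'
  refine ⟨MvPolynomial.rename Prod.swap h, pair_ext fun U W => ?_⟩
  show evP U W (pairingMap K n m q _) = _
  rw [evP_pairing, MvPolynomial.aeval_rename]
  have h2 := congrArg (evP W.transpose U.transpose) hh
  rw [show (pairingMap K n q m).toRingHom h = pairingMap K n q m h from rfl, evP_pairing, evP_swap,
    Matrix.transpose_transpose, Matrix.transpose_transpose] at h2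
  rw [← h2]
  refine congrArg (fun x => MvPolynomial.aeval x h) (funext fun x => ?_)
  rw [← Matrix.transpose_mul]; rfl

/-- the leading minor -/
noncomputable def leadMinor (K : Type u) [Field K] {m n q : ℕ} (hnm : n ≤ m) (hnq : n ≤ q) :
    MvPolynomial (Fin m × Fin q) K :=
  ((genMatrix K m q).submatrix (Fin.castLE hnm) (Fin.castLE hnq)).det

theorem image_castLE_eq {N : ℕ} (h : n ≤ N) : Finset.univ.image (Fin.castLE h) = initSeg N n := by
  ext i
  simp only [Finset.mem_image, Finset.mem_univ, true_and, initSeg, Finset.mem_filter]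
  exact ⟨by rintro ⟨k, rfl⟩; exact k.isLt, fun hi => ⟨⟨i.val, hi⟩, rfl⟩⟩

theorem aeval_leadMinor (hnm : n ≤ m) (hnq : n ≤ q) (Z : Matrix (Fin m) (Fin q) K) :
    MvPolynomial.aeval (fun x : Fin m × Fin q => Z x.1 x.2) (leadMinor K hnm hnq) =
      (Z.submatrix (Fin.castLE hnm) (Fin.castLE hnq)).det := by
  rw [leadMinor, AlgHom.map_det]
  congr 1; ext i j; simp [genMatrix]

theorem pairing_leadMinor_ne_zero (hnm : n ≤ m) (hnq : n ≤ q) :
    pairingMap K n m q (leadMinor K hnm hnq) ≠ 0 := by
  intro h0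
  have h := congrArg (evP (Matrix.of fun (i : Fin m) (k : Fin n) => if i.val = k.val then (1 : K) else 0)
    (Matrix.of fun (k : Fin n) (j : Fin q) => if j.val = k.val then (1 : K) else 0)) h0
  rw [evP_pairing, map_zero, aeval_leadMinor, show (Matrix.submatrix _ _ _ : Matrix (Fin n) (Fin n) K) = 1 from ?_,
    Matrix.det_one] at h
  · exact one_ne_zero h
  · ext a b
    rw [Matrix.submatrix_apply, Matrix.mul_apply, Finset.sum_eq_single a]
    · simp [Matrix.one_apply, Fin.ext_iff, eq_comm]
    · intro c _ hc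
      simp [Fin.val_inj, Ne.symm hc]
    · simp

theorem saturated_pairing [Infinite K] (hn : 0 < n) (hnm : n ≤ m) (hnq : n ≤ q) (g : PairRing K n m q)
    (h : pairingMap K n m q (leadMinor K hnm hnq) * g ∈ (pairingMap K n m q).range) :
    g ∈ (pairingMap K n m q).range := by
  classical
  obtain ⟨p, hp⟩ := h
  replace hp : pairingMap K n m q p = pairingMap K n m q (leadMinor K hnm hnq) * g := hp
  set τ := rankIdx q m n hnq hnm with hτ
  set V : Matrix (Fin m) (Fin q) K → Prop := fun Z =>
    (∀ (f : Fin (n + 1) → Fin m) (g : Fin (n + 1) → Fin q), (Z.submatrix f g).det = 0) ∧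
      (Z.submatrix (Fin.castLE hnm) (Fin.castLE hnq)).det = 0
  set L := CAlgX.minorIdeal (genMatrix K m q) (n + 1) ⊔ Ideal.span {leadMinor K hnm hnq} with hLdef
  have htau : ∀ (Z : Matrix (Fin m) (Fin q) K), ∃ e : ℕ, ((cellOf Z).submatrix τ.1 id).det =
      (-1) ^ e * (Z.submatrix (Fin.castLE hnm) (Fin.castLE hnq)).det := fun Z =>
    det_cellIdx Z _ _ (Fin.castLE_injective hnm) (Fin.castLE_injective hnq) _ _ (image_castLE_eq hnm) (image_castLE_eq hnq) _
  have hpV : ∀ Z, V Z → MvPolynomial.eval (fun x : Fin m × Fin q => Z x.1 x.2) p = 0 := by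
    rintro Z ⟨hZ, hδ⟩
    obtain ⟨U, W, rfl⟩ := exists_factor Z hZ
    have := congrArg (evP U W) hp
    rw [map_mul, evP_pairing, evP_pairing, aeval_leadMinor, hδ, zero_mul, MvPolynomial.aeval_eq_eval] at this
    exact this
  have hmem : p ∈ L := by
    refine mem_of_vanish_aux K (lt_of_lt_of_le hn hnq) hnq hnm L le_sup_left V ?_
      (fun k c => GoodChain τ k c ∧ ∀ i, c i ≠ τ) ?_ ?_ hpV
    · rintro Z ⟨hZ, hδ⟩ x hx
      obtain ⟨a, ha, b, hb, rfl⟩ := Submodule.mem_sup.1 hx
      obtain ⟨w, rfl⟩ := Ideal.mem_span_singleton.1 hb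
      rw [map_add, eval_eq_zero_of_mem_minorIdeal K Z hZ ha, zero_add, map_mul, ← MvPolynomial.aeval_eq_eval,
        aeval_leadMinor, hδ, zero_mul]
    · intro k c hc hno
      obtain ⟨i, hi⟩ : ∃ i, c i = τ := by
        by_contra h; push Not at h; exact hno ⟨hc, h⟩
      obtain ⟨e, he⟩ := det_cellIdx (genMatrix K m q) _ _ (Fin.castLE_injective hnm) (Fin.castLE_injective hnq)
        (initSeg m n) (initSeg q n) (image_castLE_eq hnm) (image_castLE_eq hnq)
        (by rw [card_initSeg hnm, card_initSeg hnq])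
      rw [chainMon, ← Finset.mul_prod_erase _ _ (Finset.mem_univ i), hi, map_mul]
      refine Ideal.mul_mem_right _ _ (Ideal.mem_sup_right ?_)
      rw [cellMap, ev_X, hτ, rankIdx, he]
      exact Ideal.mul_mem_left _ _ (Ideal.mem_span_singleton_self _)
    · rintro k c ⟨hc, hne⟩
      have hcond : ∀ ψ : Idx q (q + m), ψ ≤ τ → ψ ≠ τ → ∀ Z : Matrix (Fin m) (Fin q) K,
          (∀ φ : Idx q (q + m), ¬ φ ≤ ψ → ((cellOf Z).submatrix φ.1 id).det = 0) → V Z := by
        intro ψ h1 h2 Z hZ
        refine ⟨(minors_zero_iff hnq hnm Z).1 fun φ hφ => hZ φ fun h => hφ (h.trans h1), ?_⟩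
        obtain ⟨e, he⟩ := htau Z
        rw [hZ τ fun h => h2 (le_antisymm h1 h)] at he
        exact (mul_eq_zero.1 he.symm).resolve_left (pow_ne_zero _ (neg_ne_zero.2 one_ne_zero))
      rcases Nat.eq_zero_or_pos k with rfl | hk
      · refine ⟨botIdx q m, fun i => i.elim0, hcond _ (botIdx_le _) (Ne.symm ?_)⟩
        exact cellIdx_ne_bot _ (by rw [card_initSeg hnm]; omega)
      · exact ⟨c ⟨0, hk⟩, fun i => hc.1 (Fin.le_def.2 (Nat.zero_le i.val)), hcond _ (hc.2 _).1 (hne _)⟩
  obtain ⟨a, ha, b, hb, rfl⟩ := Submodule.mem_sup.1 hmem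
  obtain ⟨w, rfl⟩ := Ideal.mem_span_singleton.1 hb
  have ha0 : pairingMap K n m q a = 0 := by
    refine pair_ext fun U W => ?_
    rw [evP_pairing, map_zero, MvPolynomial.aeval_eq_eval]
    exact eval_eq_zero_of_mem_minorIdeal K _ (fun f g => minors_mul_eq_zero U W f g) ha
  rw [map_add, ha0, zero_add, map_mul] at hp
  exact ⟨w, mul_left_cancel₀ (pairing_leadMinor_ne_zero hnm hnq) hp⟩

theorem mem_range_of_lt [Infinite K] (hn : 0 < n) (hnm : n ≤ m) (hnq : n ≤ q) (f : PairRing K n m q)
    (hf : IsInv f) : f ∈ (pairingMap K n m q).range := by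
  classical
  set Y := genMatrix K m q with hY
  set num : (Fin m × Fin n) ⊕ (Fin n × Fin q) → MvPolynomial (Fin m × Fin q) K :=
    Sum.elim (fun x => (Y.submatrix id (Fin.castLE hnq) *
        (Y.submatrix (Fin.castLE hnm) (Fin.castLE hnq)).adjugate) x.1 x.2)
      (fun x => Y (Fin.castLE hnm x.1) x.2) with hnum
  set wgt : (Fin m × Fin n) ⊕ (Fin n × Fin q) → ℕ := Sum.elim (fun _ => 1) (fun _ => 0) with hwgt
  set N := f.totalDegree
  set ku : ((Fin m × Fin n) ⊕ (Fin n × Fin q) →₀ ℕ) → ℕ := fun e => e.sum fun v k => wgt v * k with hku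
  have hkuN : ∀ e ∈ f.support, ku e ≤ N := fun e he => by
    refine le_trans ?_ (MvPolynomial.le_totalDegree he)
    exact Finset.sum_le_sum fun v _ => by rcases v with v | v <;> simp [hwgt]
  set Q : MvPolynomial (Fin m × Fin q) K :=
    ∑ e ∈ f.support, C (coeff e f) * (e.prod fun v k => num v ^ k) * leadMinor K hnm hnq ^ (N - ku e) with hQ
  set Δ := pairingMap K n m q (leadMinor K hnm hnq) with hΔ
  have key : Δ ^ N * f = pairingMap K n m q Q := by
    refine mul_left_cancel₀ (pairing_leadMinor_ne_zero hnm hnq) (pair_ext fun U W => ?_)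
    rw [← hΔ, map_mul, map_mul (evP U W) Δ (pairingMap K n m q Q), evP_pairing U W Q]
    set P := U * W with hP
    set P' := P.submatrix (Fin.castLE hnm) (Fin.castLE hnq) with hP'
    have hΔev : evP U W Δ = P'.det := by rw [hΔ, evP_pairing, aeval_leadMinor]
    rw [hΔev]
    rcases eq_or_ne P'.det 0 with h0 | h0
    · rw [h0, zero_mul, zero_mul]
    congr 1
    set UI := U.submatrix (Fin.castLE hnm) id with hUI
    set WJ := W.submatrix id (Fin.castLE hnq) with hWJ
    have hfac : P' = UI * WJ := by ext a b; simp [hP', hP, hUI, hWJ, Matrix.mul_apply]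
    have hUIdet : UI.det ≠ 0 := fun h => h0 (by rw [hfac, Matrix.det_mul, h, zero_mul])
    have hUU : U * UI⁻¹ = P'.det⁻¹ • (P.submatrix id (Fin.castLE hnq) * P'.adjugate) := by
      have h1 : U * UI⁻¹ * P' = P.submatrix id (Fin.castLE hnq) := by
        rw [hfac, ← Matrix.mul_assoc, Matrix.mul_assoc U, Matrix.nonsing_inv_mul _ hUIdet.isUnit, Matrix.mul_one]
        ext a b; simp [hP, hWJ, Matrix.mul_apply]
      rw [← h1, Matrix.mul_assoc, Matrix.mul_adjugate, Matrix.mul_smul, Matrix.mul_one, smul_smul,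
        inv_mul_cancel₀ h0, one_smul]
    have hfx := hf U W UI hUIdet
    rw [hUU, show UI * W = P.submatrix (Fin.castLE hnm) id by ext a b; simp [hP, hUI, Matrix.mul_apply]] at hfx
    have hnumev : ∀ v, Sum.elim (fun x : Fin m × Fin n => (P'.det⁻¹ • (P.submatrix id (Fin.castLE hnq) * P'.adjugate)) x.1 x.2)
        (fun x : Fin n × Fin q => P.submatrix (Fin.castLE hnm) id x.1 x.2) v =
        P'.det⁻¹ ^ wgt v * MvPolynomial.aeval (fun x : Fin m × Fin q => P x.1 x.2) (num v) := by
      intro v
      have hmap : (MvPolynomial.aeval (fun x : Fin m × Fin q => P x.1 x.2) : _ →ₐ[K] K).mapMatrix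
          (Y.submatrix (Fin.castLE hnm) (Fin.castLE hnq)) = P' := by
        ext a b; simp [hY, genMatrix, hP']
      rcases v with ⟨i, k⟩ | ⟨k, j⟩
      · simp only [Sum.elim_inl, hwgt, pow_one, hnum, Matrix.smul_apply, smul_eq_mul, Matrix.mul_apply, map_sum]
        congr 1
        refine Finset.sum_congr rfl fun l _ => ?_
        rw [map_mul]
        congr 1
        · simp [hY, genMatrix]
        · rw [← hmap, ← AlgHom.map_adjugate]; rfl
      · simp [hwgt, hnum, hY, genMatrix]
    rw [map_mul, map_pow, hΔev, ← hfx, evP, funext hnumev, MvPolynomial.aeval_eq_eval, MvPolynomial.eval_eq,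
      Finset.mul_sum, hQ, map_sum]
    refine Finset.sum_congr rfl fun e he => ?_
    rw [map_mul, map_mul, map_pow, MvPolynomial.aeval_C, map_finsuppProd,
      aeval_leadMinor, ← hP', Algebra.algebraMap_self_apply]
    have hsplit : P'.det ^ N * (∏ v ∈ e.support, (P'.det⁻¹ ^ wgt v) ^ e v) = P'.det ^ (N - ku e) := by
      have hd' : ∏ v ∈ e.support, (P'.det⁻¹ ^ wgt v) ^ e v = P'.det⁻¹ ^ ku e := by
        simp only [hku, Finsupp.sum, ← Finset.prod_pow_eq_pow_sum, ← pow_mul]
      rw [hd', pow_sub₀ _ h0 (hkuN e he), inv_pow]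
    rw [← hsplit, Finsupp.prod]
    simp only [mul_pow, Finset.prod_mul_distrib, map_pow]
    ring
  have hmem : Δ ^ N * f ∈ (pairingMap K n m q).range := key ▸ ⟨Q, rfl⟩
  suffices ∀ M, Δ ^ M * f ∈ (pairingMap K n m q).range → f ∈ (pairingMap K n m q).range from this N hmem
  intro M
  induction M with
  | zero => intro h; simpa using h
  | succ M ih =>
    intro h
    refine ih (saturated_pairing hn hnm hnq _ ?_)
    rw [← hΔ, ← mul_assoc, ← pow_succ']
    exact h

theorem fft_GL [Infinite K] (f : PairRing K n m q) :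
    (∀ A : GL (Fin n) K, glTranslate K n m q A f = f) ↔ f ∈ (pairingMap K n m q).range := by
  constructor
  · intro h
    have hf := isInv_of_glTranslate f h
    rcases le_or_gt m n with hm | hm
    · exact mem_range_of_le hm f hf
    rcases le_or_gt q n with hq | hq
    · exact mem_range_of_le' hq f hf
    rcases Nat.eq_zero_or_pos n with rfl | hn
    · refine ⟨C (coeff 0 f), ?_⟩
      show pairingMap K 0 m q (C (coeff 0 f)) = f
      rw [pairingMap, MvPolynomial.aeval_C, MvPolynomial.algebraMap_eq, ← MvPolynomial.eq_C_of_isEmpty]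
    exact mem_range_of_lt hn hm.le hq.le f hf
  · rintro ⟨p, rfl⟩ A
    show glTranslate K n m q A (pairingMap K n m q p) = pairingMap K n m q p
    rw [glTranslate, pairingMap, MvPolynomial.comp_aeval_apply]
    refine congrArg (fun x => MvPolynomial.aeval x p) (funext fun x => ?_)
    obtain ⟨i, j⟩ := x
    simp only [map_sum, map_mul, MvPolynomial.aeval_X, Sum.elim_inl, Sum.elim_inr]
    set U : Matrix (Fin m) (Fin n) (PairRing K n m q) := Matrix.of fun i k => X (Sum.inl (i, k))
    set W : Matrix (Fin n) (Fin q) (PairRing K n m q) := Matrix.of fun k j => X (Sum.inr (k, j))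
    set Ai := ((A⁻¹ : GL (Fin n) K) : Matrix (Fin n) (Fin n) K).map (C : K → PairRing K n m q)
    set Am := (A : Matrix (Fin n) (Fin n) K).map (C : K → PairRing K n m q)
    have hinv : Ai * Am = 1 := by
      simp only [Ai, Am]
      rw [← RingHom.mapMatrix_apply, ← RingHom.mapMatrix_apply, ← map_mul]
      simp
    calc _ = ((U * Ai) * (Am * W)) i j := by simp [Matrix.mul_apply, U, W, Ai, Am]
      _ = (U * W) i j := by rw [Matrix.mul_assoc, ← Matrix.mul_assoc Ai, hinv, Matrix.one_mul]
      _ = _ := by simp [Matrix.mul_apply, U, W]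

end Groth.Agent.H26Grass
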