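import Groth.Agent.H4Depth.CM
import Groth.Agent.H4Depth.DepthLemmas
import Groth.Agent.H4Depth.LocDepth
import Groth.Agent.H8Props.FlatDepth
import Groth.Agent.H26Grass.LocQuot
import Mathlib.RingTheory.Localization.Ideal

/-!
# Cohen–Macaulay quotients of a local ring: regular elements and unions
-/

set_option autoImplicit false
universe u

open IsLocalRing LocCoh
open scoped Pointwise

namespace Groth.Agent.H26Grass

variable {L : Type u} [CommRing L] [IsLocalRing L]

/-- `L ⧸ I` has dimension `k` and depth at least `k`. -/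
def GoodQ (I : Ideal L) (k : ℕ) : Prop :=
  ringKrullDim (L ⧸ I) = (k : WithBot ℕ∞) ∧ (k : ℕ∞) ≤ depth L (L ⧸ I)

theorem GoodQ.ne_top {I : Ideal L} {k : ℕ} (h : GoodQ I k) : I ≠ ⊤ := by
  rintro rfl
  have : Subsingleton (L ⧸ (⊤ : Ideal L)) := Ideal.Quotient.subsingleton_iff.mpr rfl
  have h1 := h.1
  rw [ringKrullDim_eq_bot_of_subsingleton] at h1
  exact (by simp : (⊥ : WithBot ℕ∞) ≠ (k : WithBot ℕ∞)) h1

theorem goodQ_maximalIdeal : GoodQ (maximalIdeal L) 0 := by
  refine ⟨?_, by simp⟩
  rw [Nat.cast_zero]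
  exact ringKrullDim_eq_zero_of_isField
    ((Ideal.Quotient.maximal_ideal_iff_isField_quotient _).mp (maximalIdeal.isMaximal L))

variable [IsNoetherianRing L]

/-- Union of two Cohen–Macaulay pieces meeting in codimension one. -/
theorem GoodQ.inf {I J : Ideal L} {k : ℕ} (hI : GoodQ I k) (hJ : GoodQ J k)
    (hIJ : GoodQ (I ⊔ J) (k - 1)) : GoodQ (I ⊓ J) k := by
  refine ⟨le_antisymm ?_ ?_, ?_⟩
  · rw [ringKrullDim_quotient]
    refine iSup_le fun l => ?_
    rcases (Ideal.IsPrime.inf_le (l 0).1.2).mp (l 0).2 with hl | hl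
    · refine le_trans ?_ hI.1.le
      rw [ringKrullDim_quotient]
      exact le_iSup_of_le (⟨l.length, fun i =>
        (⟨(l i).1, hl.trans (l.monotone (Fin.zero_le i))⟩ : PrimeSpectrum.zeroLocus (I : Set L)),
        fun i => l.step i⟩) le_rfl
    · refine le_trans ?_ hJ.1.le
      rw [ringKrullDim_quotient]
      exact le_iSup_of_le (⟨l.length, fun i =>
        (⟨(l i).1, hl.trans (l.monotone (Fin.zero_le i))⟩ : PrimeSpectrum.zeroLocus (J : Set L)),
        fun i => l.step i⟩) le_rfl
  · rw [← hI.1]
    exact ringKrullDim_le_of_surjective _ (Ideal.Quotient.factor_surjective inf_le_left)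
  · have hpair : (k : ℕ∞) ≤ depth L ((L ⧸ I) × (L ⧸ J)) :=
      le_trans (le_min hI.2 hJ.2) (H4Depth.min_le_idealDepth_mid
        (f := LinearMap.inl L (L ⧸ I) (L ⧸ J)) (g := LinearMap.snd L (L ⧸ I) (L ⧸ J)) _
        LinearMap.inl_injective Prod.snd_surjective .inl_snd)
    refine le_trans (le_min hpair ?_) (H4Depth.min_le_idealDepth_left
      (f := Submodule.liftQ (I ⊓ J) ((Submodule.mkQ I).prod (Submodule.mkQ J))
        (by rw [LinearMap.ker_prod, Submodule.ker_mkQ, Submodule.ker_mkQ]))
      (g := (Submodule.factor (le_sup_left : I ≤ I ⊔ J)).comp (LinearMap.fst L _ _) -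
        (Submodule.factor (le_sup_right : J ≤ I ⊔ J)).comp (LinearMap.snd L _ _)) _ ?_ ?_ ?_)
    · refine le_trans ?_ (add_le_add_left hIJ.2 1)
      exact_mod_cast (by omega : k ≤ (k - 1) + 1)
    · rw [← LinearMap.ker_eq_bot, Submodule.ker_liftQ_eq_bot _ _ _
        (by simp [LinearMap.ker_prod])]
    · intro x
      obtain ⟨a, rfl⟩ := Submodule.mkQ_surjective _ x
      exact ⟨(Submodule.mkQ I a, 0), by simp⟩
    · rintro ⟨x, y⟩
      obtain ⟨a, rfl⟩ := Submodule.mkQ_surjective _ x
      obtain ⟨b, rfl⟩ := Submodule.mkQ_surjective _ y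
      change (Submodule.Quotient.mk a : L ⧸ (I ⊔ J)) - Submodule.Quotient.mk b = 0 ↔ _
      rw [sub_eq_zero, Submodule.Quotient.eq]
      constructor
      · intro h
        obtain ⟨i, hi, j, hj, hij⟩ := Submodule.mem_sup.mp h
        refine ⟨Submodule.Quotient.mk (a - i), Prod.ext ?_ ?_⟩
        · change (Submodule.Quotient.mk (a - i) : L ⧸ I) = Submodule.Quotient.mk a
          rw [Submodule.Quotient.eq]
          simpa using hi
        · change (Submodule.Quotient.mk (a - i) : L ⧸ J) = Submodule.Quotient.mk b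
          rw [Submodule.Quotient.eq, show a - i - b = j by linear_combination -hij]
          exact hj
      · rintro ⟨c, hc⟩
        obtain ⟨c, rfl⟩ := Submodule.mkQ_surjective _ c
        have h1 : (Submodule.Quotient.mk c : L ⧸ I) = Submodule.Quotient.mk a :=
          congrArg Prod.fst hc
        have h2 : (Submodule.Quotient.mk c : L ⧸ J) = Submodule.Quotient.mk b :=
          congrArg Prod.snd hc
        rw [Submodule.Quotient.eq] at h1 h2
        rw [show a - b = (c - b) - (c - a) by ring]
        exact sub_mem (Submodule.mem_sup_right h2) (Submodule.mem_sup_left h1)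

/-- Lifting along a regular element. -/
theorem GoodQ.of_regular {I : Ideal L} {k : ℕ} {y : L} (hy : y ∈ maximalIdeal L)
    (hreg : IsSMulRegular (L ⧸ I) y) (h : GoodQ (I ⊔ Ideal.span {y}) k) : GoodQ I (k + 1) := by
  have hker : LinearMap.ker (Submodule.factor (le_sup_left : I ≤ I ⊔ Ideal.span {y})) =
      y • (⊤ : Submodule L (L ⧸ I)) := by
    rw [Submodule.factor, Submodule.mapQ, Submodule.ker_liftQ, LinearMap.comp_id, Submodule.ker_mkQ,
      ← Submodule.ideal_span_singleton_smul, Submodule.map_sup,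
      Submodule.mkQ_map_self, bot_sup_eq, ← Submodule.range_mkQ I, ← Submodule.map_top,
      ← Submodule.map_smul'', Ideal.smul_eq_mul, Ideal.mul_top]
  let e : QuotSMulTop y (L ⧸ I) ≃ₗ[L] L ⧸ (I ⊔ Ideal.span {y}) :=
    (Submodule.quotEquivOfEq _ _ hker.symm).trans
      (LinearMap.quotKerEquivOfSurjective _ (Submodule.factor_surjective le_sup_left))
  refine ⟨?_, ?_⟩
  · rw [← Module.supportDim_quotient_eq_ringKrullDim,
      ← Module.supportDim_quotSMulTop_succ_eq_supportDim hreg hy, Module.supportDim_eq_of_equiv e,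
      Module.supportDim_quotient_eq_ringKrullDim, h.1]
    push_cast
    rfl
  · rw [depth, ← H4Depth.idealDepth_quotSMulTop_add_one hy hreg, H4Depth.idealDepth_congr _ e]
    push_cast
    exact add_le_add_left h.2 1

/-- A good quotient is Cohen–Macaulay. -/
theorem GoodQ.isCM {I : Ideal L} {k : ℕ} (h : GoodQ I k) [IsLocalRing (L ⧸ I)] :
    IsCohenMacaulayLocalRing (L ⧸ I) := by
  rw [H8Props.FlatDepth.isCM_iff_dim]
  refine le_antisymm ?_ ?_
  · rw [h.1, H8Props.FlatDepth.depth_eq_of_surjective (R := L) (S := L ⧸ I)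
      Ideal.Quotient.mk_surjective]
    exact WithBot.coe_le_coe.mpr h.2
  · have := H4Depth.depth_le_supportDim (R := L ⧸ I) (M := L ⧸ I)
    rwa [Module.supportDim_self_eq_ringKrullDim] at this

/-- Passing to the localisation of the quotient. -/
theorem isCM_localization_of_goodQ {R C : Type u} [CommRing R] [CommRing C] [IsNoetherianRing R]
    (f : R →+* C) (hf : Function.Surjective f) (Q : Ideal C) [Q.IsPrime] (P : Ideal R) [P.IsPrime]
    (hP : P = Q.comap f) {k : ℕ}
    (h : GoodQ ((RingHom.ker f).map (algebraMap R (Localization.AtPrime P))) k) :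
    IsCohenMacaulayLocalRing (Localization.AtPrime Q) ∧
      ringKrullDim (Localization.AtPrime Q) = (k : WithBot ℕ∞) := by
  subst hP
  obtain ⟨h1, h2⟩ := h
  rw [supportDim_quot_eq f hf Q] at h1
  rw [depth_quot_eq f hf Q] at h2
  have : IsNoetherianRing C := isNoetherianRing_of_surjective R C f hf
  refine ⟨(H8Props.FlatDepth.isCM_iff_dim _).mpr (le_antisymm ?_ ?_), h1⟩
  · rw [h1]
    exact WithBot.coe_le_coe.mpr h2
  · have := H4Depth.depth_le_supportDim (R := Localization.AtPrime Q) (M := Localization.AtPrime Q)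
    rwa [Module.supportDim_self_eq_ringKrullDim] at this

/-- A prime stays prime in the localisation, and elements outside stay regular. -/
theorem isSMulRegular_localization {R : Type u} [CommRing R] {J m : Ideal R} [J.IsPrime] [m.IsPrime]
    (hJm : J ≤ m) {x : R} (hx : x ∉ J) :
    IsSMulRegular (Localization.AtPrime m ⧸ J.map (algebraMap R (Localization.AtPrime m)))
      (algebraMap R (Localization.AtPrime m) x) := by
  have hdisj : Disjoint (m.primeCompl : Set R) J :=
    Set.disjoint_left.mpr fun a ha haJ => ha (hJm haJ)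
  have hp := IsLocalization.isPrime_of_isPrime_disjoint m.primeCompl (Localization.AtPrime m) J
    ‹J.IsPrime› hdisj
  have hc : (J.map (algebraMap R (Localization.AtPrime m))).comap
      (algebraMap R (Localization.AtPrime m)) = J :=
    IsLocalization.under_map_of_isPrime_disjoint m.primeCompl (Localization.AtPrime m)
      ‹J.IsPrime› hdisj
  rw [isSMulRegular_iff_right_eq_zero_of_smul]
  intro z hz
  obtain ⟨w, rfl⟩ := Submodule.Quotient.mk_surjective _ z
  rw [← Submodule.Quotient.mk_smul, Submodule.Quotient.mk_eq_zero, smul_eq_mul] at hz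
  rw [Submodule.Quotient.mk_eq_zero]
  exact (hp.mem_or_mem hz).resolve_left fun h => hx (hc.le h)

end Groth.Agent.H26Grass
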