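import Groth.Agent.H26Grass.Straighten
import Mathlib.Algebra.Order.Rearrangement
import Mathlib.LinearAlgebra.LinearIndependent.Defs

set_option autoImplicit false
universe u

/-! Leading monomials of minors for a weight; independence of standard monomials. -/

namespace Groth.Agent.H26Grass

open W4bk4grassmannian MvPolynomial Finset

variable {K : Type u} [CommRing K] {ι : Type*}

/-- `f` is `x^e` plus monomials of strictly smaller weight -/
structure HasLead (μ : (ι →₀ ℕ) →+ ℕ) (f : MvPolynomial ι K) (e : ι →₀ ℕ) : Prop where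
  coeff_eq : coeff e f = 1
  lt_of_ne : ∀ e' : ι →₀ ℕ, coeff e' f ≠ 0 → e' ≠ e → μ e' < μ e

theorem HasLead.one (μ : (ι →₀ ℕ) →+ ℕ) : HasLead μ (1 : MvPolynomial ι K) 0 := by
  classical
  constructor
  · rw [coeff_one, if_pos rfl]
  · intro e' h hne
    rw [coeff_one, if_neg hne.symm] at h; exact absurd rfl h

theorem HasLead.mul {μ : (ι →₀ ℕ) →+ ℕ} {f g : MvPolynomial ι K} {e e' : ι →₀ ℕ}
    (hf : HasLead μ f e) (hg : HasLead μ g e') : HasLead μ (f * g) (e + e') := by
  classical
  have le1 : ∀ x, coeff x f ≠ 0 → μ x ≤ μ e := fun x hx => by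
    by_cases h : x = e
    · rw [h]
    · exact (hf.lt_of_ne x hx h).le
  have le2 : ∀ x, coeff x g ≠ 0 → μ x ≤ μ e' := fun x hx => by
    by_cases h : x = e'
    · rw [h]
    · exact (hg.lt_of_ne x hx h).le
  constructor
  · rw [coeff_mul, Finset.sum_eq_single (e, e')]
    · simp [hf.coeff_eq, hg.coeff_eq]
    · rintro ⟨x, y⟩ hxy hne
      rw [Finset.mem_antidiagonal] at hxy
      simp only at hxy ⊢
      by_contra h
      have h1 : coeff x f ≠ 0 := fun h0 => h (by simp [h0])
      have h2 : coeff y g ≠ 0 := fun h0 => h (by simp [h0])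
      have hsum : μ x + μ y = μ e + μ e' := by rw [← map_add, ← map_add, hxy]
      by_cases hx : x = e
      · subst hx
        exact hne (Prod.ext rfl (add_left_cancel hxy))
      · have := hf.lt_of_ne x h1 hx; have := le2 y h2; omega
    · intro h; exact absurd (Finset.mem_antidiagonal.2 (show (e, e').1 + (e, e').2 = e + e' from rfl)) h
  · intro z hz hne
    rw [coeff_mul] at hz
    obtain ⟨⟨x, y⟩, hxy, h⟩ := Finset.exists_ne_zero_of_sum_ne_zero hz
    rw [Finset.mem_antidiagonal] at hxy
    simp only at hxy h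
    have h1 : coeff x f ≠ 0 := fun h0 => h (by simp [h0])
    have h2 : coeff y g ≠ 0 := fun h0 => h (by simp [h0])
    subst hxy
    rw [map_add, map_add]
    by_cases hx : x = e
    · subst hx
      have := hg.lt_of_ne y h2 (fun h => hne (by rw [h])); omega
    · have := hf.lt_of_ne x h1 hx; have := le2 y h2; omega

theorem HasLead.prod {μ : (ι →₀ ℕ) →+ ℕ} {α : Type*} (s : Finset α) (f : α → MvPolynomial ι K)
    (e : α → ι →₀ ℕ) (h : ∀ a ∈ s, HasLead μ (f a) (e a)) :
    HasLead μ (∏ a ∈ s, f a) (∑ a ∈ s, e a) := by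
  classical
  induction s using Finset.induction_on with
  | empty => simpa using HasLead.one μ
  | insert a s ha ih =>
    rw [Finset.prod_insert ha, Finset.sum_insert ha]
    exact (h a (Finset.mem_insert_self a s)).mul (ih fun b hb => h b (Finset.mem_insert_of_mem hb))

theorem linearIndependent_of_hasLead {μ : (ι →₀ ℕ) →+ ℕ} {α : Type*} (f : α → MvPolynomial ι K)
    (e : α → ι →₀ ℕ) (hinj : Function.Injective e) (h : ∀ a, HasLead μ (f a) (e a)) :
    LinearIndependent K f := by
  classical
  rw [linearIndependent_iff']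
  intro s g hg a ha
  by_contra hga
  obtain ⟨b, hb, hmax⟩ := Finset.exists_max_image (s.filter fun x => g x ≠ 0) (fun x => μ (e x))
    ⟨a, Finset.mem_filter.2 ⟨ha, hga⟩⟩
  rw [Finset.mem_filter] at hb
  have := congrArg (coeff (e b)) hg
  rw [coeff_sum, Finset.sum_eq_single b] at this
  · rw [coeff_smul, (h b).coeff_eq, coeff_zero] at this
    exact hb.2 (by simpa using this)
  · intro x hx hxb
    rw [coeff_smul]
    by_cases hgx : g x = 0
    · simp [hgx]
    have : coeff (e b) (f x) = 0 := by
      by_contra hc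
      exact absurd ((h x).lt_of_ne _ hc fun he => hxb (hinj he).symm)
        (not_lt.2 (hmax x (Finset.mem_filter.2 ⟨hx, hgx⟩)))
    simp [this]
  · intro hnb; exact absurd hb.1 hnb

/-! ### the generic matrix with prescribed support -/

variable {d n : ℕ}

/-- the weight `Σ i·t` -/
noncomputable def dw (d n : ℕ) : (Fin n × Fin d →₀ ℕ) →+ ℕ :=
  Finsupp.liftAddHom fun p => AddMonoidHom.mulRight (p.1.val * p.2.val)

theorem dw_single (p : Fin n × Fin d) (k : ℕ) : dw d n (Finsupp.single p k) = k * (p.1.val * p.2.val) := by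
  simp [dw]

/-- generic matrix supported on `P` -/
noncomputable def suppMat (K : Type u) [CommRing K] (P : Fin n → Fin d → Bool) :
    Matrix (Fin n) (Fin d) (MvPolynomial (Fin n × Fin d) K) :=
  Matrix.of fun i t => if P i t then X (i, t) else 0

/-- diagonal exponent -/
noncomputable def diagExp (θ : Idx d n) : Fin n × Fin d →₀ ℕ := ∑ t, Finsupp.single (θ.1 t, t) 1

theorem hasLead_minor [Nontrivial K] (P : Fin n → Fin d → Bool) (θ : Idx d n) (hP : ∀ t, P (θ.1 t) t) :
    HasLead (dw d n) ((suppMat K P).submatrix θ.1 id).det (diagExp θ) := by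
  classical
  rw [← Matrix.det_transpose, Matrix.det_apply']
  set ex : Equiv.Perm (Fin d) → (Fin n × Fin d →₀ ℕ) := fun σ => ∑ t, Finsupp.single (θ.1 t, σ t) 1 with hex
  have hterm : ∀ σ : Equiv.Perm (Fin d),
      ∏ t, Matrix.transpose ((suppMat K P).submatrix θ.1 id) (σ t) t
        = if (∀ t, P (θ.1 t) (σ t)) then monomial (ex σ) (1 : K) else 0 := by
    intro σ
    split_ifs with h
    · simp only [Matrix.transpose_apply, Matrix.submatrix_apply, id, suppMat, Matrix.of_apply, h, if_true, hex]
      rw [monomial_sum_one]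
      rfl
    · push Not at h
      obtain ⟨t, ht⟩ := h
      exact Finset.prod_eq_zero (Finset.mem_univ t) (by simp [suppMat, ht])
  have hw : ∀ σ : Equiv.Perm (Fin d), dw d n (ex σ) = ∑ t, (θ.1 t).val * (σ t).val := by
    intro σ; simp [hex, map_sum, dw_single]
  have hlt : ∀ σ : Equiv.Perm (Fin d), σ ≠ 1 → dw d n (ex σ) < dw d n (ex 1) := by
    intro σ hσ
    rw [hw, hw]
    simp only [Equiv.Perm.one_apply]
    have hmono : Monovary (fun t => (θ.1 t).val) (fun t : Fin d => t.val) :=
      (show StrictMono fun t => (θ.1 t).val from fun a b h => Fin.lt_def.1 (θ.2 h)).monotone.monovary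
        (fun a b h => Fin.le_def.1 h)
    rw [Monovary.sum_mul_comp_perm_lt_sum_mul_iff hmono (σ := σ)]
    intro hc
    apply hσ
    have hm : StrictMono σ := by
      intro a b hab
      by_contra hcon
      have hne : σ b ≠ σ a := fun e => (ne_of_lt hab) (σ.injective e).symm
      have := hc (show ((fun t : Fin d => t.val) ∘ σ) b < ((fun t : Fin d => t.val) ∘ σ) a from
        Fin.lt_def.1 (lt_of_le_of_ne (not_lt.1 hcon) hne))
      exact absurd this (not_le.2 (Fin.lt_def.1 (θ.2 hab)))
    refine Equiv.ext fun t => ?_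
    exact congrFun hm.eq_id t
  have hdiag : ex 1 = diagExp θ := rfl
  have hinj : ∀ σ, σ ≠ 1 → ex σ ≠ ex 1 := fun σ hσ h => (ne_of_lt (hlt σ hσ)) (by rw [h])
  simp only [hterm, ← hdiag]
  constructor
  · rw [coeff_sum, Finset.sum_eq_single (1 : Equiv.Perm (Fin d))]
    · rw [if_pos (fun t => by simpa using hP t)]
      simp
    · intro σ _ hσ
      split_ifs
      · rcases Int.units_eq_one_or (Equiv.Perm.sign σ) with hs | hs <;> simp [hs, coeff_monomial, hinj σ hσ]
      · simp
    · simp
  · intro e' he' hne
    rw [coeff_sum] at he'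
    obtain ⟨σ, -, hσ⟩ := Finset.exists_ne_zero_of_sum_ne_zero he'
    split_ifs at hσ with h
    · have heq : ex σ = e' := by
        by_contra hh
        rcases Int.units_eq_one_or (Equiv.Perm.sign σ) with hs | hs <;> simp [hs, coeff_monomial, hh] at hσ
      rw [← heq] at hne ⊢
      exact hlt σ fun h1 => hne (by rw [h1])
    · simp at hσ

theorem chain_eq_of_exp_eq {m m' : ℕ} {c : Fin m → Idx d n} {c' : Fin m' → Idx d n}
    (hc : Antitone c) (hc' : Antitone c') (hd : 0 < d)
    (h : ∑ k, diagExp (c k) = ∑ k, diagExp (c' k)) : ∃ hm : m = m', ∀ k, c k = c' (Fin.cast hm k) := by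
  classical
  have hcount : ∀ {m : ℕ} (c : Fin m → Idx d n) (i : Fin n) (t : Fin d),
      (∑ k, diagExp (c k)) (i, t) = (Finset.univ.filter fun k => (c k).1 t = i).card := by
    intro m c i t
    rw [Finsupp.finsetSum_apply, Finset.card_filter]
    refine Finset.sum_congr rfl fun k _ => ?_
    rw [diagExp, Finsupp.finsetSum_apply, Finset.sum_eq_single t]
    · simp [Finsupp.single_apply]
    · intro u _ hu; simp [hu]
    · simp
  have hsame : ∀ (i : Fin n) (t : Fin d), (Finset.univ.filter fun k => (c k).1 t = i).card =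
      (Finset.univ.filter fun k => (c' k).1 t = i).card := fun i t => by
    rw [← hcount c, ← hcount c', h]
  have hm : m = m' := by
    have := Finset.card_eq_sum_card_fiberwise (f := fun k => (c k).1 ⟨0, hd⟩) (s := Finset.univ)
      (t := Finset.univ) (fun _ _ => Finset.mem_univ _)
    have h2 := Finset.card_eq_sum_card_fiberwise (f := fun k => (c' k).1 ⟨0, hd⟩) (s := Finset.univ)
      (t := Finset.univ) (fun _ _ => Finset.mem_univ _)
    simp only [Finset.card_univ, Fintype.card_fin] at this h2
    rw [this, h2]; exact Finset.sum_congr rfl fun i _ => hsame i _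
  subst hm
  refine ⟨rfl, fun k => Subtype.ext (funext fun t => ?_)⟩
  simp only [Fin.cast_eq_self]
  -- both coordinate sequences are antitone with the same value counts
  have key : ∀ (c : Fin m → Idx d n), Antitone c → ∀ k (i : Fin n),
      i ≤ (c k).1 t ↔ k.val < (Finset.univ.filter fun l => i ≤ (c l).1 t).card := by
    intro c hc k i
    constructor
    · intro hik
      have : Finset.Iic k ⊆ Finset.univ.filter fun l => i ≤ (c l).1 t := fun l hl =>
        Finset.mem_filter.2 ⟨Finset.mem_univ l, le_trans hik (hc (Finset.mem_Iic.1 hl) t)⟩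
      have := Finset.card_le_card this
      rw [Fin.card_Iic] at this; omega
    · intro hk
      by_contra hik
      have : (Finset.univ.filter fun l => i ≤ (c l).1 t) ⊆ Finset.Iio k := fun l hl => by
        rw [Finset.mem_filter] at hl
        rw [Finset.mem_Iio]
        by_contra hlk
        exact hik (le_trans hl.2 (hc (not_lt.1 hlk) t))
      have := Finset.card_le_card this
      rw [Fin.card_Iio] at this; omega
  have hge : ∀ i : Fin n, (Finset.univ.filter fun l => i ≤ (c l).1 t).card =
      (Finset.univ.filter fun l => i ≤ (c' l).1 t).card := fun i => by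
    rw [Finset.card_eq_sum_card_fiberwise (f := fun l => (c l).1 t) (t := Finset.Ici i)
        (fun l hl => by rw [Finset.mem_coe, Finset.mem_filter] at hl; exact Finset.mem_coe.2 (Finset.mem_Ici.2 hl.2)),
      Finset.card_eq_sum_card_fiberwise (f := fun l => (c' l).1 t) (t := Finset.Ici i)
        (fun l hl => by rw [Finset.mem_coe, Finset.mem_filter] at hl; exact Finset.mem_coe.2 (Finset.mem_Ici.2 hl.2))]
    refine Finset.sum_congr rfl fun v hv => ?_
    rw [Finset.mem_Ici] at hv
    rw [Finset.filter_filter, Finset.filter_filter]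
    have e1 : ∀ (c : Fin m → Idx d n), (Finset.univ.filter fun l => i ≤ (c l).1 t ∧ (c l).1 t = v) =
        Finset.univ.filter fun l => (c l).1 t = v := fun c => Finset.filter_congr fun l _ =>
      ⟨fun h => h.2, fun h => ⟨h ▸ hv, h⟩⟩
    rw [e1 c, e1 c']
    exact hsame v t
  refine le_antisymm ?_ ?_
  · exact (key c' hc' k _).2 (by rw [← hge]; exact (key c hc k _).1 le_rfl)
  · exact (key c hc k _).2 (by rw [hge]; exact (key c' hc' k _).1 le_rfl)

/-- Independence of standard monomials in minors of a supported generic matrix. -/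
theorem linearIndependent_suppMat [Nontrivial K] (hd : 0 < d) (P : Fin n → Fin d → Bool) {α : Type*}
    (len : α → ℕ) (c : ∀ a, Fin (len a) → Idx d n) (hc : ∀ a, Antitone (c a))
    (hP : ∀ a k t, P ((c a k).1 t) t)
    (hinj : Function.Injective fun a => (⟨len a, c a⟩ : Σ m, Fin m → Idx d n)) :
    LinearIndependent K fun a => ev K (suppMat K P) (chainMon K (c a)) := by
  refine linearIndependent_of_hasLead (μ := dw d n) _ (fun a => ∑ k, diagExp (c a k)) ?_ ?_
  · intro a b h
    obtain ⟨hm, hk⟩ := chain_eq_of_exp_eq (hc a) (hc b) hd h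
    refine hinj ?_
    exact Sigma.ext hm (by
      refine (Fin.heq_fun_iff hm).2 fun k => ?_
      exact hk k)
  · intro a
    rw [chainMon, map_prod]
    simp only [ev_X]
    exact HasLead.prod _ _ _ fun k _ => hasLead_minor P (c a k) (hP a k)

end Groth.Agent.H26Grass
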