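import Groth.Agent.H26Grass.Basis
import Groth.Agent.H26Grass.Minors
import Groth.Agent.S11254
import Mathlib.RingTheory.IntegralClosure.IntegrallyClosed
import Mathlib.RingTheory.Localization.FractionRing
import Mathlib.RingTheory.Polynomial.UniqueFactorization
import Mathlib.RingTheory.IntegralClosure.IsIntegralClosure.Basic
import Mathlib.RingTheory.MvPolynomial.Ideal
import Mathlib.RingTheory.Polynomial.ScaleRoots
import Mathlib.RingTheory.Polynomial.RationalRoot

set_option autoImplicit false
universe u

/-! The coordinate ring of the cone over a Schubert variety: big cell parametrization, normality. -/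

namespace Groth.Agent.H26Grass

open W4bk4grassmannian MvPolynomial Finset

variable {d n : ℕ}

/-- free entries of the big cell of `X(τ)` -/
abbrev FreeVar (τ : Idx d n) : Type := {p : Fin n × Fin d // p.1 < τ.1 p.2 ∧ ∀ s, τ.1 s ≠ p.1}

/-- the big cell matrix with values `z` -/
def bigCell {R : Type*} [CommRing R] (τ : Idx d n) (z : FreeVar τ → R) : Matrix (Fin n) (Fin d) R :=
  Matrix.of fun i t => if i = τ.1 t then 1
    else if h : i < τ.1 t ∧ ∀ s, τ.1 s ≠ i then z ⟨(i, t), h⟩ else 0

theorem bigCell_self {R : Type*} [CommRing R] (τ : Idx d n) (z : FreeVar τ → R) :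
    (bigCell τ z).submatrix τ.1 id = 1 := by
  ext s t
  simp only [Matrix.submatrix_apply, id, bigCell, Matrix.of_apply, Matrix.one_apply]
  by_cases h : s = t
  · simp [h]
  · have h1 : τ.1 s ≠ τ.1 t := fun e => h (τ.2.injective e)
    rw [if_neg h1, if_neg h, dif_neg]
    exact fun hh => hh.2 s rfl

theorem det_update {R : Type*} [CommRing R] (τ : Idx d n) (z : FreeVar τ → R) (i : Fin n) (t : Fin d) :
    ((bigCell τ z).submatrix (Function.update τ.1 t i) id).det = bigCell τ z i t := by
  rw [show (bigCell τ z).submatrix (Function.update τ.1 t i) id =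
      (1 : Matrix (Fin d) (Fin d) R).updateRow t (bigCell τ z i) by
    ext s u
    rcases eq_or_ne s t with rfl | hs
    · simp
    · rw [Matrix.updateRow_ne hs, ← bigCell_self τ z]; simp [Function.update_of_ne hs],
    ← Matrix.cramer_transpose_apply, Matrix.transpose_one, Matrix.cramer_one]
  rfl

theorem bigCell_map {R S : Type*} [CommRing R] [CommRing S] (f : R →+* S) (τ : Idx d n) (z : FreeVar τ → R) :
    (bigCell τ z).map f = bigCell τ (f ∘ z) := by
  ext i t
  simp only [Matrix.map_apply, bigCell, Matrix.of_apply]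
  split_ifs <;> simp

section
variable (K : Type u) [CommRing K]

/-- the parameter ring -/
abbrev ParamRing (τ : Idx d n) : Type u := MvPolynomial (Option (FreeVar τ)) K

/-- cone over the big cell -/
noncomputable def param (τ : Idx d n) : PlRing K d n →ₐ[K] ParamRing K τ :=
  MvPolynomial.aeval fun θ : Idx d n =>
    X none * ((bigCell τ fun v => (X (some v) : ParamRing K τ)).submatrix θ.1 id).det

theorem param_X_self (τ : Idx d n) : param K τ (X τ) = X none := by
  rw [param, MvPolynomial.aeval_X, bigCell_self, Matrix.det_one, mul_one]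

theorem exists_param_eq (τ : Idx d n) (v : FreeVar τ) :
    ∃ p : PlRing K d n, param K τ p = X none * X (some v) := by
  refine ⟨coord K d n (Function.update τ.1 v.1.2 v.1.1), ?_⟩
  have hinj : Function.Injective (Function.update τ.1 v.1.2 v.1.1) := by
    intro a b h
    by_cases ha : a = v.1.2 <;> by_cases hb : b = v.1.2
    · rw [ha, hb]
    · rw [ha, Function.update_self, Function.update_of_ne hb] at h; exact absurd h.symm (v.2.2 b)
    · rw [hb, Function.update_self, Function.update_of_ne ha] at h; exact absurd h (v.2.2 a)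
    · rw [Function.update_of_ne ha, Function.update_of_ne hb] at h; exact τ.2.injective h
  rw [coord, dif_pos (injective_iff_card_image.2 hinj), map_mul, map_pow, map_neg, map_one, param,
    MvPolynomial.aeval_X]
  set M := bigCell τ fun v => (X (some v) : ParamRing K τ)
  have h := ev_coord (K := K) M (Function.update τ.1 v.1.2 v.1.1)
  rw [coord, dif_pos (injective_iff_card_image.2 hinj), map_mul, map_pow, map_neg, map_one, ev_X, det_update] at h
  rw [mul_left_comm, h]
  have hne : v.1.1 ≠ τ.1 v.1.2 := ne_of_lt v.2.1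
  simp only [bigCell, Matrix.of_apply, if_neg hne, dif_pos v.2]

/-- every parameter polynomial times a power of the top coordinate comes from the Plücker ring -/
theorem exists_param_pow_mul (τ : Idx d n) (q : ParamRing K τ) :
    ∃ (k : ℕ) (p : PlRing K d n), param K τ p = X none ^ k * q := by
  induction q using MvPolynomial.induction_on with
  | C a => exact ⟨0, C a, by rw [pow_zero, one_mul, param, MvPolynomial.aeval_C]; rfl⟩
  | add p q hp hq =>
    obtain ⟨k, a, ha⟩ := hp
    obtain ⟨l, b, hb⟩ := hq
    refine ⟨k + l, X τ ^ l * a + X τ ^ k * b, ?_⟩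
    rw [map_add, map_mul, map_mul, map_pow, map_pow, param_X_self, ha, hb]; ring
  | mul_X p i hp =>
    obtain ⟨k, a, ha⟩ := hp
    rcases i with _ | v
    · exact ⟨k, a * X τ, by rw [map_mul, param_X_self, ha, mul_assoc]⟩
    · obtain ⟨b, hb⟩ := exists_param_eq K τ v
      exact ⟨k + 1, a * b, by rw [map_mul, ha, hb]; ring⟩

end

section
variable (K : Type u) [Field K] [Infinite K]

theorem X_self_notMem (hd : 0 < d) (τ : Idx d n) : (X τ : PlRing K d n) ∉ schubertVanishing K d n τ := by
  intro h
  have := coeff_eq_zero_of_mem K hd ({()} : Finset Unit) (fun _ => 1) (fun _ _ => τ)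
    (fun _ _ _ _ => le_rfl) (fun a b _ => Subsingleton.elim a b) (fun _ => (1 : K)) (τ := τ)
    (by simpa [chainMon] using h) () (by simp) fun _ => le_rfl
  exact one_ne_zero this

omit [Infinite K] in
theorem ev_bigCell_scaled (τ : Idx d n) (A : Matrix (Fin n) (Fin d) K)
    (hA : ∀ φ : Idx d n, ¬ φ ≤ τ → (A.submatrix φ.1 id).det = 0) (h0 : (A.submatrix τ.1 id).det ≠ 0) :
    ∃ x : Option (FreeVar τ) → K, ∀ p : PlRing K d n, ev K A p = MvPolynomial.aeval x (param K τ p) := by
  set B := A.submatrix τ.1 id with hB
  set G := A * B⁻¹ with hG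
  have hAeq : G * B = A := by rw [hG, Matrix.mul_assoc, Matrix.nonsing_inv_mul _ h0.isUnit, Matrix.mul_one]
  have hGτ : G.submatrix τ.1 id = 1 := by
    rw [show G.submatrix τ.1 id = B * B⁻¹ by ext s t; simp [hG, hB, Matrix.mul_apply],
      Matrix.mul_nonsing_inv _ h0.isUnit]
  have hGM : bigCell τ (fun v => G v.1.1 v.1.2) = G := by
    ext i t
    simp only [bigCell, Matrix.of_apply]
    by_cases h1 : i = τ.1 t
    · rw [if_pos h1, h1]
      have := congrFun (congrFun hGτ t) t
      simpa using this.symm
    rw [if_neg h1]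
    by_cases h2 : i < τ.1 t ∧ ∀ s, τ.1 s ≠ i
    · rw [dif_pos h2]
    rw [dif_neg h2]
    by_cases h3 : ∃ s, τ.1 s = i
    · obtain ⟨s, rfl⟩ := h3
      have hst : s ≠ t := fun e => h1 (by rw [e])
      have := congrFun (congrFun hGτ s) t
      simp only [Matrix.submatrix_apply, id, Matrix.one_apply_ne hst] at this
      exact this.symm
    · push Not at h3
      have hgt : τ.1 t < i := by
        rcases lt_trichotomy i (τ.1 t) with h | h | h
        · exact absurd ⟨h, h3⟩ h2
        · exact absurd h h1
        · exact h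
      have hGa : G i t = (G.submatrix (Function.update τ.1 t i) id).det := by
        rw [show G.submatrix (Function.update τ.1 t i) id = (1 : Matrix (Fin d) (Fin d) K).updateRow t (G i) by
          ext s u
          rcases eq_or_ne s t with rfl | hs
          · simp
          · rw [Matrix.updateRow_ne hs, ← hGτ]; simp [Function.update_of_ne hs],
          ← Matrix.cramer_transpose_apply, Matrix.transpose_one, Matrix.cramer_one]
        rfl
      rw [hGa, ← ev_coord (K := K)]
      rcases coord_cases (K := K) (Function.update τ.1 t i) with h | ⟨θ, e, he, hθ⟩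
      · rw [h, map_zero]
      rw [he, map_mul, ev_X]
      have hnle : ¬ θ ≤ τ := fun hle => by
        have hw := wt_mono hle
        have e1 : (∑ s, ((Function.update τ.1 t i) s).val) + (τ.1 t).val = wt τ + i.val := by
          rw [wt, ← Finset.add_sum_erase _ _ (Finset.mem_univ t),
            ← Finset.add_sum_erase Finset.univ (fun s => (τ.1 s).val) (Finset.mem_univ t),
            Finset.sum_congr rfl fun s hs => by rw [Function.update_of_ne (Finset.ne_of_mem_erase hs)]]
          simp only [Function.update_self]; ring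
        rw [Fin.lt_def] at hgt
        omega
      have hz : ((G * B).submatrix θ.1 id).det = 0 := by rw [hAeq]; exact hA θ hnle
      rw [show (G * B).submatrix θ.1 id = G.submatrix θ.1 id * B by ext s u; simp [Matrix.mul_apply],
        Matrix.det_mul] at hz
      rw [(mul_eq_zero.1 hz).resolve_right h0, mul_zero]
  refine ⟨fun o => o.elim B.det fun v => G v.1.1 v.1.2, fun p => ?_⟩
  set φ : ParamRing K τ →ₐ[K] K := MvPolynomial.aeval fun o => o.elim B.det fun v => G v.1.1 v.1.2
  suffices h : ev K A = φ.comp (param K τ) by rw [h]; rfl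
  apply MvPolynomial.algHom_ext
  intro θ
  rw [AlgHom.comp_apply, ev_X, param, MvPolynomial.aeval_X, map_mul, AlgHom.map_det, AlgHom.mapMatrix_apply,
    show (φ : ParamRing K τ → K) = ⇑φ.toRingHom from rfl]
  rw [show ((bigCell τ fun v => (X (some v) : ParamRing K τ)).submatrix θ.1 id).map ⇑φ.toRingHom =
    ((bigCell τ fun v => (X (some v) : ParamRing K τ)).map ⇑φ.toRingHom).submatrix θ.1 id from rfl, bigCell_map,
    show (⇑φ.toRingHom ∘ fun v => X (some v)) = fun v : FreeVar τ => G v.1.1 v.1.2 by funext v; simp [φ], hGM]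
  conv_lhs => rw [← hAeq, show (G * B).submatrix θ.1 id = G.submatrix θ.1 id * B by ext s u; simp [Matrix.mul_apply],
    Matrix.det_mul, mul_comm]
  simp [φ]

theorem ker_param (hd : 0 < d) (τ : Idx d n) :
    RingHom.ker (param K τ).toRingHom = schubertVanishing K d n τ := by
  apply le_antisymm
  · intro p hp
    rw [RingHom.mem_ker] at hp
    have hmul : X τ * p ∈ schubertVanishing K d n τ := by
      rw [mem_schubertVanishing_iff]
      intro A hA
      rw [map_mul, ev_X]
      rcases eq_or_ne (A.submatrix τ.1 id).det 0 with h | h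
      · rw [h, zero_mul]
      · obtain ⟨x, hx⟩ := ev_bigCell_scaled K τ A hA h
        rw [hx, show param K τ p = 0 from hp, map_zero, mul_zero]
    -- multiplication by `X τ` is injective on standard monomials
    obtain ⟨g, hg⟩ := (Finsupp.mem_span_range_iff_exists_finsupp).1
      (show Ideal.Quotient.mk (schubertVanishing K d n τ) p ∈ _ from span_schubert K τ ▸ Submodule.mem_top)
    rw [← Ideal.Quotient.eq_zero_iff_mem, ← hg, Finsupp.sum]
    have hsum : ∑ a ∈ g.support, g a • chainMon K (Fin.cons τ a.2.1 : Fin (a.1 + 1) → Idx d n) ∈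
        schubertVanishing K d n τ := by
      rw [← Ideal.Quotient.eq_zero_iff_mem, map_sum, ← Ideal.Quotient.eq_zero_iff_mem.2 hmul, map_mul, ← hg,
        Finsupp.sum, Finset.mul_sum]
      refine Finset.sum_congr rfl fun a _ => ?_
      rw [show chainMon K (Fin.cons τ a.2.1 : Fin (a.1 + 1) → Idx d n) = X τ * chainMon K a.2.1 by
          rw [chainMon, chainMon, Fin.prod_univ_succ]; simp,
        show Ideal.Quotient.mk (schubertVanishing K d n τ) (g a • (X τ * chainMon K a.2.1)) =
          g a • Ideal.Quotient.mk (schubertVanishing K d n τ) (X τ * chainMon K a.2.1) from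
          (Ideal.Quotient.mkₐ K _).toLinearMap.map_smul _ _, map_mul, mul_smul_comm]
    refine Finset.sum_eq_zero fun a ha => ?_
    rw [coeff_eq_zero_of_mem K hd g.support (fun a => a.1 + 1) (fun a => Fin.cons τ a.2.1) ?_ ?_ g hsum a ha ?_,
      zero_smul]
    · intro b x y hxy
      induction x using Fin.cases with
      | zero =>
        induction y using Fin.cases with
        | zero => exact le_rfl
        | succ y => simpa using b.2.2.2 y
      | succ x =>
        induction y using Fin.cases with
        | zero => exact absurd hxy (by simp)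
        | succ y => simpa using b.2.2.1 (Fin.succ_le_succ_iff.1 hxy)
    · rintro ⟨m, c, hc⟩ ⟨m', c', hc'⟩ h
      simp only [Sigma.mk.inj_iff] at h
      obtain ⟨h1, h2⟩ := h
      obtain rfl : m = m' := by omega
      simp only [heq_eq_eq, Fin.cons_right_injective _ |>.eq_iff] at h2
      subst h2; rfl
    · intro k
      induction k using Fin.cases with
      | zero => simp
      | succ k => simpa using a.2.2.2 k
  · rw [← plIdeal_eq K hd τ, plIdeal, Ideal.span_le]
    rintro f (⟨i, j, r, -, rfl⟩ | ⟨φ, hφ, rfl⟩)
    · set M := bigCell τ fun v => (X (some v) : ParamRing K τ)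
      set D : Matrix (Fin d) (Fin d) (ParamRing K τ) := Matrix.diagonal fun t => if t = ⟨0, hd⟩ then X none else 1
      have : param K τ = ev K (M * D) := by
        apply MvPolynomial.algHom_ext
        intro θ
        rw [param, MvPolynomial.aeval_X, ev_X,
          show (M * D).submatrix θ.1 id = M.submatrix θ.1 id * D by ext s u; simp [Matrix.mul_apply],
          Matrix.det_mul, Matrix.det_diagonal, Finset.prod_ite_eq', if_pos (Finset.mem_univ _), mul_comm]
      rw [SetLike.mem_coe, RingHom.mem_ker]
      show param K τ _ = 0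
      rw [this]; exact ev_shuffleRel i j r _
    · rw [SetLike.mem_coe, RingHom.mem_ker]
      show param K τ _ = 0
      rw [param, MvPolynomial.aeval_X, det_eq_zero_of_not_le _ τ φ _ hφ, mul_zero]
      intro i t hit
      have h1 : i ≠ τ.1 t := fun e => hit e.le
      have h2 : ¬ i < τ.1 t := fun e => hit e.le
      simp [bigCell, h1, h2]

theorem schubertVanishing_isPrime (hd : 0 < d) (τ : Idx d n) : (schubertVanishing K d n τ).IsPrime :=
  ker_param K hd τ ▸ RingHom.ker_isPrime _

theorem isRadical_schubert (τ : Idx d n) : (schubertVanishing K d n τ).IsRadical := fun p ⟨N, hN⟩ => by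
  rw [mem_schubertVanishing_iff] at hN ⊢
  intro A hA
  have := hN A hA
  rw [map_pow] at this
  exact eq_zero_of_pow_eq_zero this

/-- the coordinate ring of the cone, embedded in the parameter ring -/
noncomputable def paramQ (hd : 0 < d) (τ : Idx d n) :
    (PlRing K d n ⧸ schubertVanishing K d n τ) →ₐ[K] ParamRing K τ :=
  Ideal.Quotient.liftₐ _ (param K τ) fun a ha => by
    have h : a ∈ RingHom.ker (param K τ).toRingHom := ker_param K hd τ ▸ ha
    exact h

theorem paramQ_mk (hd : 0 < d) (τ : Idx d n) (p : PlRing K d n) :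
    paramQ K hd τ (Ideal.Quotient.mk _ p) = param K τ p := rfl

theorem paramQ_injective (hd : 0 < d) (τ : Idx d n) : Function.Injective (paramQ K hd τ) := by
  rw [injective_iff_map_eq_zero]
  intro x hx
  obtain ⟨p, rfl⟩ := Ideal.Quotient.mk_surjective x
  rw [Ideal.Quotient.eq_zero_iff_mem, ← ker_param K hd τ]
  exact hx

end

section
variable (K : Type u) [Field K] [IsAlgClosed K]

theorem isRadical_sup_X_top (hd : 0 < d) (hdn : d < n) (τ : Idx d n) :
    (schubertVanishing K d n τ ⊔ Ideal.span {X τ}).IsRadical := by
  haveI : Infinite K := IsAlgClosed.instInfinite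
  by_cases hτ : ∃ φ : Idx d n, φ < τ
  · rw [Groth.Agent.S11254.result K d n hd hdn τ hτ]
    intro p ⟨N, hN⟩
    simp only [Ideal.mem_iInf] at hN ⊢
    exact fun φ hφ => isRadical_schubert K φ ⟨N, hN φ hφ⟩
  · push Not at hτ
    have hall : ∀ θ : Idx d n, θ ≠ τ → ¬ θ ≤ τ := fun θ hne hle => hτ θ (lt_of_le_of_ne hle hne)
    have heq : schubertVanishing K d n τ ⊔ Ideal.span {X τ} =
        RingHom.ker (MvPolynomial.constantCoeff : PlRing K d n →+* K) := by
      apply le_antisymm
      · refine sup_le ?_ ?_
        · rw [← plIdeal_eq K hd τ, plIdeal, Ideal.span_le]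
          rintro f (⟨i, j, r, -, rfl⟩ | ⟨φ, hφ, rfl⟩)
          · rw [SetLike.mem_coe, RingHom.mem_ker, shuffleRel, map_sum]
            refine Finset.sum_eq_zero fun S _ => ?_
            unfold shuffleTerm
            split_ifs with hS
            · rw [map_mul]
              rcases coord_cases (K := K) (shuffleJ i j r S hS) with h | ⟨θ, e, he, -⟩
              · simp [h]
              · simp [he]
            · simp
          · simp
        · rw [Ideal.span_le, Set.singleton_subset_iff]; simp
      · intro p hp
        have h : p ∈ Ideal.span ((fun θ : Idx d n => (X θ : PlRing K d n)) '' Set.univ) := by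
          rw [MvPolynomial.mem_ideal_span_X_image]
          intro m hm
          by_contra hcon
          push Not at hcon
          have : m = 0 := Finsupp.ext fun θ => hcon θ (Set.mem_univ θ)
          subst this
          exact (MvPolynomial.mem_support_iff.1 hm) hp
        refine Ideal.span_le.2 ?_ h
        rintro _ ⟨θ, -, rfl⟩
        by_cases h' : θ = τ
        · exact h' ▸ Ideal.mem_sup_right (Ideal.mem_span_singleton_self _)
        · exact Ideal.mem_sup_left (X_mem_schubertVanishing K (hall θ h'))
    rw [heq]
    exact (RingHom.ker_isPrime (MvPolynomial.constantCoeff : PlRing K d n →+* K)).isRadical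

theorem isIntegrallyClosed_schubert_aux (hd : 0 < d) (hdn : d < n) (τ : Idx d n)
    [IsDomain (PlRing K d n ⧸ schubertVanishing K d n τ)] :
    IsIntegrallyClosed (PlRing K d n ⧸ schubertVanishing K d n τ) := by
  haveI : Infinite K := IsAlgClosed.instInfinite
  set R := PlRing K d n ⧸ schubertVanishing K d n τ
  set P := ParamRing K τ
  set φ := paramQ K hd τ
  have hφ := paramQ_injective K hd τ
  set p : R := Ideal.Quotient.mk _ (X τ) with hp
  have hpφ : φ p = X none := by rw [hp, paramQ_mk, param_X_self]
  have hp0 : p ≠ 0 := fun h => by rw [h, map_zero] at hpφ; exact MvPolynomial.X_ne_zero none hpφ.symm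
  have hrad : ∀ (a : R) (N : ℕ), p ∣ a ^ N → p ∣ a := by
    intro a N h
    obtain ⟨a, rfl⟩ := Ideal.Quotient.mk_surjective a
    obtain ⟨b, hb⟩ := h
    obtain ⟨b, rfl⟩ := Ideal.Quotient.mk_surjective b
    rw [← map_pow, hp, ← map_mul, Ideal.Quotient.eq] at hb
    have hmem : a ^ N ∈ schubertVanishing K d n τ ⊔ Ideal.span {X τ} := by
      rw [← sub_add_cancel (a ^ N) (X τ * b)]
      exact Ideal.add_mem _ (Ideal.mem_sup_left hb)
        (Ideal.mem_sup_right (Ideal.mul_mem_right _ _ (Ideal.mem_span_singleton_self _)))
    obtain ⟨u, hu, v, hv, huv⟩ := Submodule.mem_sup.1 (isRadical_sup_X_top K hd hdn τ ⟨N, hmem⟩)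
    obtain ⟨w, rfl⟩ := Ideal.mem_span_singleton.1 hv
    exact ⟨Ideal.Quotient.mk _ w, by rw [hp, ← map_mul, ← huv, map_add, Ideal.Quotient.eq_zero_iff_mem.2 hu, zero_add]⟩
  rw [isIntegrallyClosed_iff (FractionRing R)]
  intro x hx
  set ι := algebraMap R (FractionRing R)
  have hι : Function.Injective ι := IsFractionRing.injective _ _
  letI : Algebra R P := φ.toRingHom.toAlgebra
  set ψ : FractionRing R →+* FractionRing P :=
    IsFractionRing.lift (g := (algebraMap P (FractionRing P)).comp φ.toRingHom)
      ((IsFractionRing.injective P (FractionRing P)).comp hφ) with hψ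
  have hψι : ∀ r, ψ (ι r) = algebraMap P (FractionRing P) (φ r) := fun r => by
    rw [hψ, IsFractionRing.lift_algebraMap]; rfl
  have hint : IsIntegral P (ψ x) := by
    obtain ⟨Q, hQ, hQx⟩ := hx
    refine ⟨Q.map φ.toRingHom, hQ.map _, ?_⟩
    rw [Polynomial.eval₂_map, show (algebraMap P (FractionRing P)).comp φ.toRingHom = ψ.comp ι from
      RingHom.ext fun r => (hψι r).symm, ← Polynomial.hom_eval₂, hQx, map_zero]
  obtain ⟨q, hq⟩ := IsIntegrallyClosed.isIntegral_iff.1 hint
  obtain ⟨k, a, ha⟩ := exists_param_pow_mul K τ q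
  have hk : ι (Ideal.Quotient.mk _ a) = x * ι p ^ k := by
    refine ψ.injective ?_
    rw [map_mul, map_pow, hψι, hψι, hpφ, ← hq, paramQ_mk, ha, map_mul, map_pow, mul_comm]
  generalize Ideal.Quotient.mk (schubertVanishing K d n τ) a = a' at hk
  clear ha
  induction k generalizing a' with
  | zero => exact ⟨a', by rw [hk, pow_zero, mul_one]⟩
  | succ k ih =>
    have hy : IsIntegral R (x * ι p ^ k) := hx.mul (isIntegral_algebraMap.pow k)
    obtain ⟨Q, hQ, hQy⟩ := hy
    set N := Q.natDegree
    have hN : (Q.scaleRoots p).eval a' = 0 := by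
      refine hι ?_
      rw [map_zero, ← Polynomial.eval₂_at_apply, show ι a' = ι p * (x * ι p ^ k) by rw [hk, pow_succ]; ring]
      exact Polynomial.scaleRoots_eval₂_eq_zero ι hQy
    rw [Polynomial.eval_eq_sum_range, Polynomial.natDegree_scaleRoots, Finset.sum_range_succ,
      Polynomial.coeff_scaleRoots, Nat.sub_self, pow_zero, mul_one, hQ.coeff_natDegree, one_mul] at hN
    have hdvd : p ∣ a' ^ N := by
      rw [eq_neg_of_add_eq_zero_right hN]
      refine Dvd.dvd.neg_right (Finset.dvd_sum fun i hi => ?_)
      rw [Finset.mem_range] at hi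
      rw [Polynomial.coeff_scaleRoots]
      exact Dvd.dvd.mul_right (Dvd.dvd.mul_left (dvd_pow_self p (by omega)) _) _
    obtain ⟨b, rfl⟩ := hrad a' N hdvd
    refine ih b (mul_left_cancel₀ (fun h => hp0 (hι (h.trans (map_zero ι).symm))) (a := ι p) ?_)
    rw [← map_mul, hk, pow_succ]; ring

end

end Groth.Agent.H26Grass
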