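import Groth.Agent.S11254
import Groth.Agent.S11268
import Groth.Agent.H26Grass.SchubertRing
import Groth.Agent.H26Grass.GoodQuot
import Groth.Agent.H26Grass.Cone

/-!
# Schubert cones and unions of Schubert divisors are Cohen–Macaulay
-/

set_option autoImplicit false
universe u

namespace Groth.Agent.H26Grass

open W4bk4grassmannian MvPolynomial

variable {d n : ℕ}

/-! ### Divisors -/

theorem codeg_le {a b : Idx d n} (h : a ≤ b) : codeg a ≤ codeg b :=
  Finset.sum_le_sum fun t _ => Nat.sub_le_sub_right (Fin.le_def.1 (h t)) _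

theorem eq_of_codeg_eq {a b : Idx d n} (h : a ≤ b) (hc : codeg a = codeg b) : a = b := by
  refine Subtype.ext (funext fun t => Fin.ext ?_)
  have hle := Fin.le_def.1 (h t)
  by_contra hne
  have hlt : codeg a < codeg b := by
    refine Finset.sum_lt_sum (fun u _ => Nat.sub_le_sub_right (Fin.le_def.1 (h u)) _)
      ⟨t, Finset.mem_univ t, ?_⟩
    have := idx_val_ge a t
    omega
  omega

theorem codeg_sup_add_inf (a b : Idx d n) :
    codeg (W4bk4grassmannian.sup a b) + codeg (W4bk4grassmannian.inf a b) = codeg a + codeg b := by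
  simp only [codeg, ← Finset.sum_add_distrib]
  refine Finset.sum_congr rfl fun t _ => ?_
  have ha := idx_val_ge a t
  have hb := idx_val_ge b t
  simp only [W4bk4grassmannian.sup, W4bk4grassmannian.inf]
  rcases le_total (a.1 t) (b.1 t) with h | h
  · rw [max_eq_right h, min_eq_left h]
    omega
  · rw [max_eq_left h, min_eq_right h]

theorem inf_le_left' (a b : Idx d n) : W4bk4grassmannian.inf a b ≤ a := fun _ => min_le_left _ _

theorem inf_le_right' (a b : Idx d n) : W4bk4grassmannian.inf a b ≤ b := fun _ => min_le_right _ _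

/-- The meet of two distinct divisors is a divisor of each of them. -/
theorem inf_mem_divisors {τ φ ψ : Idx d n} (hφ : φ ∈ divisors τ) (hψ : ψ ∈ divisors τ) (hne : φ ≠ ψ) :
    W4bk4grassmannian.inf φ ψ ∈ divisors ψ := by
  have h1 : W4bk4grassmannian.sup φ ψ ≤ τ := fun t => max_le (hφ.1.le t) (hψ.1.le t)
  have h2 := codeg_le h1
  have h3 : codeg φ < codeg (W4bk4grassmannian.sup φ ψ) := by
    refine lt_of_le_of_ne (codeg_le fun t => le_max_left _ _) fun h => hne ?_
    have hs := eq_of_codeg_eq (fun t => le_max_left _ _) h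
    refine (eq_of_codeg_eq (a := ψ) (b := φ) ?_ ?_).symm
    · intro t
      rw [hs]
      exact le_max_right _ _
    · have := hφ.2
      have := hψ.2
      omega
  have h4 := codeg_sup_add_inf φ ψ
  have h5 := hφ.2
  have h6 := hψ.2
  refine ⟨lt_of_le_of_ne (inf_le_right' φ ψ) fun h => ?_, by omega⟩
  rw [h] at h4
  omega

theorem eq_of_le_of_codeg_zero {τ θ : Idx d n} (h : codeg τ = 0) (hθ : θ ≤ τ) : θ = τ :=
  eq_of_codeg_eq hθ (by have := codeg_le hθ; omega)

theorem exists_lt_of_codeg_pos {τ : Idx d n} (hdn : d ≤ n) (h : codeg τ ≠ 0) : ∃ φ, φ < τ := by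
  let ι : Idx d n := ⟨fun t => ⟨t.val, lt_of_lt_of_le t.isLt hdn⟩, fun a b h => h⟩
  have hι : codeg ι = 0 := by simp [codeg, ι]
  refine ⟨ι, lt_of_le_of_ne (fun t => Fin.le_def.2 ?_) fun he => h (he ▸ hι)⟩
  exact idx_val_ge τ t

/-! ### Sums of ideals of unions -/

variable (K : Type u) [Field K] [IsAlgClosed K]

theorem schubertVanishing_sum (hd : 0 < d) (D : Finset (Idx d n)) (ψ : Idx d n) :
    (⨅ φ ∈ D, schubertVanishing K d n φ) ⊔ schubertVanishing K d n ψ =
      ⨅ φ ∈ D, schubertVanishing K d n (W4bk4grassmannian.inf φ ψ) := by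
  classical
  have : Infinite K := IsAlgClosed.instInfinite
  refine le_antisymm (sup_le (iInf₂_mono fun φ _ => schubertVanishing_mono K (inf_le_left' φ ψ))
    (le_iInf₂ fun φ _ => schubertVanishing_mono K (inf_le_right' φ ψ))) fun p hp => ?_
  set I := (⨅ φ ∈ D, schubertVanishing K d n φ) ⊔ schubertVanishing K d n ψ with hI
  have hplI : plIdealTop (d := d) (n := n) K ≤ I :=
    ((plIdealTop_le_plIdeal K ψ).trans (plIdeal_le_schubertVanishing K ψ)).trans le_sup_right
  have hspan := span_std_eq_top K hplI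
    (fun m c => ∃ φ : D, ∀ k, c k ≤ W4bk4grassmannian.inf φ.1 ψ) (fun m c _ h => by
      push Not at h
      by_cases hψ : ∀ k, c k ≤ ψ
      · refine Ideal.mem_sup_left ?_
        simp only [Ideal.mem_iInf]
        intro φ hφ
        obtain ⟨k, hk⟩ := h ⟨φ, hφ⟩
        exact chainMon_mem_schubertVanishing K k fun hle => hk fun t => le_min (hle t) (hψ k t)
      · push Not at hψ
        obtain ⟨k, hk⟩ := hψ
        exact Ideal.mem_sup_right (chainMon_mem_schubertVanishing K k hk))
  obtain ⟨g, hg⟩ := (Finsupp.mem_span_range_iff_exists_finsupp).1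
    (show Ideal.Quotient.mk I p ∈ _ from hspan ▸ Submodule.mem_top)
  set I' := ⨅ φ ∈ D, schubertVanishing K d n (W4bk4grassmannian.inf φ ψ) with hI'
  have hle : I ≤ I' := sup_le (iInf₂_mono fun φ _ => schubertVanishing_mono K (inf_le_left' φ ψ))
    (le_iInf₂ fun φ _ => schubertVanishing_mono K (inf_le_right' φ ψ))
  rw [← Ideal.Quotient.eq_zero_iff_mem, ← hg, Finsupp.sum]
  have h0 : Ideal.Quotient.factor hle (Ideal.Quotient.mk _ p) = 0 := by
    rw [Ideal.Quotient.factor_mk, Ideal.Quotient.eq_zero_iff_mem]; exact hp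
  rw [← hg, Finsupp.sum, map_sum] at h0
  have hli := linearIndependent_union K hd (I := I') (κ := D)
    (fun φ => W4bk4grassmannian.inf φ.1 ψ) (fun φ => iInf₂_le φ.1 φ.2)
    (fun m c => ∃ φ : D, ∀ k, c k ≤ W4bk4grassmannian.inf φ.1 ψ) (fun _ _ h => h)
  have hzero := linearIndependent_iff'.1 hli g.support g (by
    rw [← h0]
    refine Finset.sum_congr rfl fun c _ => ?_
    rw [show Ideal.Quotient.mk I (chainMon K c.2.1) = (Ideal.Quotient.mkₐ K _) (chainMon K c.2.1)
      from rfl, ← map_smul (Ideal.Quotient.mkₐ K I)]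
    exact ((Ideal.Quotient.mkₐ K I').toLinearMap.map_smul _ _).symm)
  exact Finset.sum_eq_zero fun c hc => by rw [hzero c hc, zero_smul]

/-! ### The vertex -/

/-- The vertex of the Plücker cone. -/
noncomputable abbrev vtx (d n : ℕ) : Ideal (PlRing K d n) :=
  RingHom.ker (constantCoeff : PlRing K d n →+* K)

instance : (vtx K d n).IsMaximal := Cone.isMaximal_vertex

theorem schubertVanishing_le_vtx (hd : 0 < d) (τ : Idx d n) :
    schubertVanishing K d n τ ≤ vtx K d n := by
  intro f hf
  have := (mem_schubertVanishing_iff K).1 hf 0 fun φ _ => by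
    have : Nonempty (Fin d) := ⟨⟨0, hd⟩⟩
    exact Matrix.det_eq_zero_of_row_eq_zero ⟨0, hd⟩ fun _ => rfl
  rw [RingHom.mem_ker]
  have hev : ev K (0 : Matrix (Fin n) (Fin d) K) = aeval (fun _ : Idx d n => (0 : K)) := by
    apply algHom_ext
    intro θ
    have : Nonempty (Fin d) := ⟨⟨0, hd⟩⟩
    rw [ev_X, aeval_X]
    exact Matrix.det_eq_zero_of_row_eq_zero ⟨0, hd⟩ fun _ => rfl
  rw [hev] at this
  simpa [aeval_eq_eval₂Hom, eval₂Hom_zero'] using this

/-- The localised ideal at the vertex. -/
noncomputable abbrev loc (I : Ideal (PlRing K d n)) : Ideal (Localization.AtPrime (vtx K d n)) :=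
  I.map (algebraMap (PlRing K d n) (Localization.AtPrime (vtx K d n)))

theorem loc_inf (I J : Ideal (PlRing K d n)) : loc K (I ⊓ J) = loc K I ⊓ loc K J :=
  IsLocalization.map_inf (vtx K d n).primeCompl _ I J

theorem loc_vtx : loc K (vtx K d n) = IsLocalRing.maximalIdeal _ :=
  Localization.AtPrime.map_eq_maximalIdeal

theorem good (hd : 0 < d) (hdn : d < n) : ∀ (k : ℕ) (τ : Idx d n), codeg τ = k →
    GoodQ (loc K (schubertVanishing K d n τ)) (k + 1) ∧
      ∀ D : Finset (Idx d n), D.Nonempty → (∀ φ ∈ D, φ ∈ divisors τ) →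
        GoodQ (loc K (⨅ φ ∈ D, schubertVanishing K d n φ)) k := by
  classical
  have : Infinite K := IsAlgClosed.instInfinite
  intro k
  induction k using Nat.strong_induction_on with
  | _ k ih =>
  intro τ hτ
  have hD : ∀ D : Finset (Idx d n), D.Nonempty → (∀ φ ∈ D, φ ∈ divisors τ) →
      GoodQ (loc K (⨅ φ ∈ D, schubertVanishing K d n φ)) k := by
    intro D hne hsub
    induction hne using Finset.Nonempty.cons_induction with
    | singleton a =>
      have ha := hsub a (Finset.mem_singleton_self a)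
      have hc := ha.2
      have := (ih (codeg a) (by omega) a rfl).1
      rw [show codeg a + 1 = k by omega] at this
      simpa [iInf_singleton] using this
    | cons a s has hs ihs =>
      have ha := hsub a (Finset.mem_cons_self a s)
      have hc := ha.2
      have hrest := ihs fun φ hφ => hsub φ (Finset.mem_cons_of_mem hφ)
      have h1 := (ih (codeg a) (by omega) a rfl).1
      have h2 := (ih (codeg a) (by omega) a rfl).2 (s.image (W4bk4grassmannian.inf · a))
        (hs.image _) (fun φ hφ => by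
          obtain ⟨ψ, hψ, rfl⟩ := Finset.mem_image.1 hφ
          exact inf_mem_divisors (hsub ψ (Finset.mem_cons_of_mem hψ)) ha fun h => has (h ▸ hψ))
      rw [show codeg a + 1 = k by omega] at h1
      rw [show codeg a = k - 1 by omega, Finset.iInf_finset_image,
        ← schubertVanishing_sum K hd, loc, Ideal.map_sup, sup_comm] at h2
      rw [Finset.cons_eq_insert, Finset.iInf_insert, loc_inf]
      exact h1.inf hrest h2
  refine ⟨?_, hD⟩
  have := schubertVanishing_isPrime K hd τ
  refine GoodQ.of_regular (y := algebraMap _ _ (X τ : PlRing K d n)) ?_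
    (isSMulRegular_localization (schubertVanishing_le_vtx K hd τ) (X_self_notMem K hd τ)) ?_
  · refine (IsLocalization.AtPrime.to_map_mem_maximal_iff _ (vtx K d n) _).mpr ?_
    simp [RingHom.mem_ker]
  have hmap : loc K (schubertVanishing K d n τ) ⊔ Ideal.span {algebraMap _ _ (X τ : PlRing K d n)} =
      loc K (schubertVanishing K d n τ ⊔ Ideal.span {X τ}) := by
    rw [loc, loc, Ideal.map_sup, Ideal.map_span, Set.image_singleton]
  rw [hmap]
  by_cases hk : k = 0
  · subst hk
    have hvtx : schubertVanishing K d n τ ⊔ Ideal.span {X τ} = vtx K d n := by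
      refine le_antisymm (sup_le (schubertVanishing_le_vtx K hd τ)
        (by rw [Ideal.span_singleton_le_iff_mem]; simp [RingHom.mem_ker])) ?_
      rw [vtx, show RingHom.ker (constantCoeff : PlRing K d n →+* K) = idealOfVars (Idx d n) K by
        rw [← pow_one (idealOfVars (Idx d n) K)]
        ext f
        rw [RingHom.mem_ker, mem_pow_idealOfVars_iff']
        refine ⟨fun h x hx => ?_, fun h => ?_⟩
        · have hx0 : x = 0 := (Finsupp.degree_eq_zero_iff x).1 (by omega)
          rwa [hx0, ← constantCoeff_eq]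
        · rw [constantCoeff_eq]; exact h 0 (by simp)]
      rw [idealOfVars, Ideal.span_le]
      rintro _ ⟨θ, rfl⟩
      by_cases hθ : θ ≤ τ
      · rw [eq_of_le_of_codeg_zero hτ hθ]
        exact Ideal.mem_sup_right (Ideal.mem_span_singleton_self _)
      · exact Ideal.mem_sup_left (X_mem_schubertVanishing K hθ)
    rw [hvtx, loc_vtx]
    exact goodQ_maximalIdeal
  · have hex := exists_lt_of_codeg_pos hdn.le (hτ ▸ hk)
    rw [Groth.Agent.S11254.result K d n hd hdn τ hex,
      show (⨅ φ ∈ divisors τ, schubertVanishing K d n φ) =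
        ⨅ φ ∈ (Finset.univ.filter (· ∈ divisors τ)), schubertVanishing K d n φ by simp]
    refine hD _ ?_ (by simp)
    obtain ⟨φ, hφ⟩ := hex
    obtain ⟨ψ, hψ, -⟩ := Groth.Agent.S11268.result d n φ τ hφ
    exact ⟨ψ, by simpa using hψ⟩

/-! ### Globalisation -/

attribute [local instance] MvPolynomial.gradedAlgebra

theorem isHomogeneous_coord (a : Fin d → Fin n) : (coord K d n a).IsHomogeneous 1 := by
  unfold coord
  split_ifs with h
  · rw [show ((-1 : PlRing K d n) ^ invCount d n a) = C ((-1 : K) ^ invCount d n a) by simp]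
    exact (isHomogeneous_X K _).C_mul _
  · exact isHomogeneous_zero _ _ _

theorem isHomogeneous_plIdeal (τ : Idx d n) :
    (plIdeal K τ).IsHomogeneous (homogeneousSubmodule (Idx d n) K) := by
  refine Ideal.homogeneous_span _ _ ?_
  rintro f (⟨i, j, r, -, rfl⟩ | ⟨φ, -, rfl⟩)
  · refine ⟨2, ?_⟩
    show (shuffleRel K i j r).IsHomogeneous 2
    refine IsHomogeneous.sum _ _ _ fun A _ => ?_
    unfold shuffleTerm
    split_ifs with h
    · rw [show ((-1 : PlRing K d n) ^ shuffleSign r A) = C ((-1 : K) ^ shuffleSign r A) by simp,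
        mul_assoc]
      exact ((isHomogeneous_coord K _).mul (isHomogeneous_coord K _)).C_mul _
    · exact isHomogeneous_zero _ _ _
  · exact ⟨1, isHomogeneous_X K φ⟩

theorem isHomogeneous_schubertVanishing (hd : 0 < d) (τ : Idx d n) :
    (schubertVanishing K d n τ).IsHomogeneous (homogeneousSubmodule (Idx d n) K) := by
  have : Infinite K := IsAlgClosed.instInfinite
  rw [← plIdeal_eq K hd τ]
  exact isHomogeneous_plIdeal K τ

/-- A homogeneous ideal which is good at the vertex gives a Cohen–Macaulay cone. -/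
theorem isCM_of_good {I : Ideal (PlRing K d n)}
    (hI : I.IsHomogeneous (homogeneousSubmodule (Idx d n) K)) (hle : I ≤ vtx K d n) {k : ℕ}
    (h : GoodQ (loc K I) k) : LocCoh.IsCohenMacaulayRing (PlRing K d n ⧸ I) := by
  have hmax : (vtx K d n).IsMaximal := inferInstance
  have : ((vtx K d n).map (Ideal.Quotient.mk I)).IsPrime :=
    Ideal.map_isPrime_of_surjective Ideal.Quotient.mk_surjective (by rwa [Ideal.mk_ker])
  refine Cone.isCohenMacaulayRing_of_vertex I hI
    (isCM_localization_of_goodQ (Ideal.Quotient.mk I) Ideal.Quotient.mk_surjective _ (vtx K d n) ?_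
      (k := k) ?_).1
  · rw [Ideal.comap_map_of_surjective _ Ideal.Quotient.mk_surjective, ← RingHom.ker_eq_comap_bot,
      Ideal.mk_ker, sup_eq_left.mpr hle]
  · rw [Ideal.mk_ker]
    exact h

end Groth.Agent.H26Grass
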