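import Groth.Agent.H26Grass.Basis
import Groth.Agent.H26Grass.Degen
import Mathlib.FieldTheory.IsAlgClosed.Basic

set_option autoImplicit false
universe u

/-! Degenerations of Schubert cones to Hibi and Stanley–Reisner rings. -/

namespace Groth.Agent.H26Grass

open W4bk4grassmannian MvPolynomial Finset

variable {d n : ℕ}

section
variable (K : Type u) [Field K]

/-- standard chains below `w` -/
abbrev StdBelow (w : Idx d n) : Type := Σ m : ℕ, {c : Fin m → Idx d n // Antitone c ∧ ∀ k, c k ≤ w}

/-- generators of the Schubert cone ring -/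
noncomputable def belowGen (w : Idx d n) : Below w → PlRing K d n ⧸ schubertVanishing K d n w :=
  fun θ => Ideal.Quotient.mk _ (X θ.1)

/-- exponent of a standard chain -/
noncomputable def belowExp {w : Idx d n} (c : StdBelow w) : Below w →₀ ℕ :=
  ∑ k, Finsupp.single ⟨c.2.1 k, c.2.2.2 k⟩ 1

theorem monomial_belowExp {R : Type*} [CommSemiring R] {w : Idx d n} (c : StdBelow w) :
    monomial (belowExp c) (1 : R) = ∏ k, X ⟨c.2.1 k, c.2.2.2 k⟩ := by
  rw [belowExp, monomial_sum_one]; rfl

theorem aeval_belowExp {w : Idx d n} (c : StdBelow w) :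
    MvPolynomial.aeval (belowGen K w) (monomial (belowExp c) (1 : K)) =
      Ideal.Quotient.mk _ (chainMon K c.2.1) := by
  rw [monomial_belowExp, map_prod, chainMon, map_prod]
  exact Finset.prod_congr rfl fun k _ => by simp [belowGen]

theorem aeval_monomial_below {w : Idx d n} (s : Below w →₀ ℕ) :
    MvPolynomial.aeval (belowGen K w) (monomial s (1 : K)) =
      Ideal.Quotient.mk _ (mon K (s.toMultiset.map Subtype.val)) := by
  induction s using Finsupp.induction_linear with
  | zero => simp [mon]
  | add a b ha hb =>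
    rw [show monomial (a + b) (1 : K) = monomial a 1 * monomial b 1 by rw [monomial_mul, one_mul], map_mul, ha, hb,
      ← map_mul]
    congr 1; simp [mon]
  | single θ k =>
    rw [← X_pow_eq_monomial, map_pow, MvPolynomial.aeval_X, belowGen, ← map_pow]
    congr 1; simp [mon, Multiset.nsmul_singleton]

theorem below_weight_eq {w : Idx d n} (ω : Below w → ℕ) (c : StdBelow w) :
    (Finsupp.liftAddHom fun θ => AddMonoidHom.mulRight (ω θ)) (belowExp c) = ∑ k, ω ⟨c.2.1 k, c.2.2.2 k⟩ := by
  simp [belowExp, map_sum]

theorem monomial_multiset {w : Idx d n} (s : Below w →₀ ℕ) :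
    monomial s (1 : K) = (s.toMultiset.map fun θ => (X θ : MvPolynomial (Below w) K)).prod := by
  induction s using Finsupp.induction_linear with
  | zero => simp
  | add a b ha hb => rw [map_add, Multiset.map_add, Multiset.prod_add, ← ha, ← hb, monomial_mul, one_mul]
  | single θ k => rw [← X_pow_eq_monomial]; simp [Multiset.map_nsmul, Multiset.nsmul_singleton]

theorem diagExp_sup_add_inf (a b : Idx d n) :
    diagExp (W4bk4grassmannian.sup a b) + diagExp (W4bk4grassmannian.inf a b) = diagExp a + diagExp b := by
  simp only [diagExp, ← Finset.sum_add_distrib]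
  refine Finset.sum_congr rfl fun t _ => ?_
  rcases le_total (a.1 t) (b.1 t) with h | h
  · rw [show (W4bk4grassmannian.sup a b).1 t = b.1 t from max_eq_right h,
      show (W4bk4grassmannian.inf a b).1 t = a.1 t from min_eq_left h, add_comm]
  · rw [show (W4bk4grassmannian.sup a b).1 t = a.1 t from max_eq_left h,
      show (W4bk4grassmannian.inf a b).1 t = b.1 t from min_eq_right h]

/-- a chain-supported monomial is standard -/
theorem exists_std_of_chain {w : Idx d n} (s : Multiset (Below w))
    (hs : ∀ a ∈ s, ∀ b ∈ s, a.1 ≤ b.1 ∨ b.1 ≤ a.1) :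
    ∃ c : StdBelow w, (s.map fun θ => (X θ : MvPolynomial (Below w) K)).prod = monomial (belowExp c) 1 := by
  classical
  induction hm : Multiset.card s generalizing s with
  | zero =>
    rw [Multiset.card_eq_zero] at hm; subst hm
    exact ⟨⟨0, Fin.elim0, fun a => a.elim0, fun k => k.elim0⟩, by rw [monomial_belowExp]; simp⟩
  | succ m ih =>
    have hne : s.toFinset.Nonempty := by
      rw [Multiset.toFinset_nonempty]; intro h; rw [h] at hm; simp at hm
    obtain ⟨a, ha, hmax⟩ := Finset.exists_max_image s.toFinset (fun θ => wt θ.1) hne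
    rw [Multiset.mem_toFinset] at ha
    obtain ⟨s', rfl⟩ := Multiset.exists_cons_of_mem ha
    have htop : ∀ b ∈ s', b.1 ≤ a.1 := fun b hb => by
      rcases hs b (Multiset.mem_cons_of_mem hb) a ha with h | h
      · exact h
      · rcases h.lt_or_eq with h' | h'
        · exact absurd (hmax b (Multiset.mem_toFinset.2 (Multiset.mem_cons_of_mem hb)))
            (not_le.2 (wt_lt_of_lt h'))
        · exact h'.ge
    obtain ⟨⟨m', c, hc, hcw⟩, hprod⟩ := ih s'
      (fun x hx y hy => hs x (Multiset.mem_cons_of_mem hx) y (Multiset.mem_cons_of_mem hy)) (by simpa using hm)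
    -- drop the members to the multiset to bound them by `a`
    have hmem : ∀ k, c k ≤ a.1 := by
      intro k
      have h1 := congrArg (fun p : MvPolynomial (Below w) K => p.support) hprod
      by_contra hk
      have hkmem : (⟨c k, hcw k⟩ : Below w) ∈ s' := by
        by_contra hnot
        have h2 := congrArg (MvPolynomial.eval fun θ : Below w => if θ = ⟨c k, hcw k⟩ then (0 : K) else 1) hprod
        rw [monomial_belowExp, map_prod, Finset.prod_eq_zero (Finset.mem_univ k) (by simp), map_multiset_prod,
          Multiset.map_map, Multiset.map_congr rfl (g := fun _ => (1 : K)) fun θ hθ => by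
            simp [show θ ≠ ⟨c k, hcw k⟩ from fun e => hnot (e ▸ hθ)]] at h2
        simp at h2
      exact hk (htop _ hkmem)
    refine ⟨⟨m' + 1, Fin.cons a.1 c, ?_, ?_⟩, ?_⟩
    · intro x y hxy
      induction x using Fin.cases with
      | zero =>
        induction y using Fin.cases with
        | zero => simp
        | succ y => simpa using hmem y
      | succ x =>
        induction y using Fin.cases with
        | zero => exact absurd hxy (by simp)
        | succ y => simpa using hc (Fin.succ_le_succ_iff.1 hxy)
    · intro k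
      induction k using Fin.cases with
      | zero => simpa using a.2
      | succ k => simpa using hcw k
    · rw [Multiset.map_cons, Multiset.prod_cons, hprod, monomial_belowExp, monomial_belowExp, Fin.prod_univ_succ]
      simp

end

section
variable (K : Type u) [Field K] [IsAlgClosed K]

theorem linearIndependent_below (hd : 0 < d) (w : Idx d n) :
    LinearIndependent K fun c : StdBelow w => MvPolynomial.aeval (belowGen K w) (monomial (belowExp c) (1 : K)) := by
  haveI : Infinite K := IsAlgClosed.instInfinite
  simp only [aeval_belowExp]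
  exact linearIndependent_schubert K hd w

theorem span_below (w : Idx d n) :
    Submodule.span K (Set.range fun c : StdBelow w =>
      MvPolynomial.aeval (belowGen K w) (monomial (belowExp c) (1 : K))) = ⊤ := by
  haveI : Infinite K := IsAlgClosed.instInfinite
  simp only [aeval_belowExp]
  exact span_schubert K w

/-! #### Hibi -/

/-- the weight of the leading monomial -/
noncomputable def wtHibi (w : Idx d n) : (Below w →₀ ℕ) →+ ℕ :=
  Finsupp.liftAddHom fun θ => AddMonoidHom.mulRight (dw d n (diagExp θ.1))

theorem wtHibi_single (w : Idx d n) (θ : Below w) (k : ℕ) :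
    wtHibi w (Finsupp.single θ k) = k * dw d n (diagExp θ.1) := by simp [wtHibi]

theorem hasLead_ev_monomial {w : Idx d n} (s : Below w →₀ ℕ) :
    ∃ e0, dw d n e0 = wtHibi w s ∧ e0 = (Finsupp.liftAddHom fun θ => AddMonoidHom.comp
        (multiplesHom (Fin n × Fin d →₀ ℕ) (diagExp (θ : Below w).1)) (AddMonoidHom.id ℕ)) s ∧
      HasLead (dw d n) (ev K (suppMat K (belowP w)) (mon K (s.toMultiset.map Subtype.val))) e0 := by
  induction s using Finsupp.induction_linear with
  | zero => exact ⟨0, by simp, by simp, by simpa [mon] using HasLead.one (K := K) (dw d n)⟩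
  | add a b ha hb =>
    obtain ⟨x, hx1, hx2, hx⟩ := ha
    obtain ⟨y, hy1, hy2, hy⟩ := hb
    refine ⟨x + y, by rw [map_add, map_add, hx1, hy1], by rw [map_add, ← hx2, ← hy2], ?_⟩
    rw [map_add, Multiset.map_add, show mon K (Multiset.map Subtype.val a.toMultiset + Multiset.map Subtype.val b.toMultiset) =
      mon K (Multiset.map Subtype.val a.toMultiset) * mon K (Multiset.map Subtype.val b.toMultiset) by simp [mon], map_mul]
    exact hx.mul hy
  | single θ k =>
    refine ⟨k • diagExp θ.1, by simp [wtHibi], by simp, ?_⟩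
    rw [Finsupp.toMultiset_single, Multiset.map_nsmul, Multiset.map_singleton,
      show mon K (k • ({θ.1} : Multiset (Idx d n))) = X θ.1 ^ k by simp [mon, Multiset.nsmul_singleton], map_pow, ev_X]
    induction k with
    | zero => simpa using HasLead.one (K := K) (dw d n)
    | succ k ih =>
      rw [pow_succ, succ_nsmul]
      exact ih.mul (hasLead_minor _ _ fun t => by simp [belowP, θ.2 t])

/-- combinations of standard monomials: the leading weights are bounded by the support -/
theorem mem_span_lt (hd : 0 < d) (w : Idx d n) (p : PlRing K d n) (N : ℕ)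
    (hp : ∀ z, coeff z (ev K (suppMat K (belowP w)) p) ≠ 0 → dw d n z < N) :
    Ideal.Quotient.mk (schubertVanishing K d n w) p ∈ Submodule.span K
      ((fun c : StdBelow w => MvPolynomial.aeval (belowGen K w) (monomial (belowExp c) (1 : K))) ''
        {c | wtHibi w (belowExp c) < N}) := by
  classical
  haveI : Infinite K := IsAlgClosed.instInfinite
  set J := schubertVanishing K d n w
  obtain ⟨g, hg⟩ := (Finsupp.mem_span_range_iff_exists_finsupp).1
    (show Ideal.Quotient.mk J p ∈ _ from span_below K w ▸ Submodule.mem_top)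
  rw [Finsupp.sum] at hg
  set Y := suppMat K (belowP w)
  set lead : StdBelow w → (Fin n × Fin d →₀ ℕ) := fun c => ∑ k, diagExp (c.2.1 k)
  have hlead : ∀ c : StdBelow w, HasLead (dw d n) (ev K Y (chainMon K c.2.1)) (lead c) := fun c => by
    rw [chainMon, map_prod]
    simp only [ev_X]
    exact HasLead.prod _ _ _ fun k _ => hasLead_minor _ _ fun t => by simp [belowP, c.2.2.2 k t]
  have hw : ∀ c : StdBelow w, wtHibi w (belowExp c) = dw d n (lead c) := fun c => by
    rw [wtHibi, below_weight_eq, map_sum]
  have hev : ev K Y p = ∑ c ∈ g.support, g c • ev K Y (chainMon K c.2.1) := by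
    have hmem : p - ∑ c ∈ g.support, g c • chainMon K c.2.1 ∈ J := by
      rw [← Ideal.Quotient.eq, ← hg, map_sum]
      refine Finset.sum_congr rfl fun c _ => ?_
      rw [aeval_belowExp]
      exact ((Ideal.Quotient.mkₐ K J).toLinearMap.map_smul _ _).symm
    have h0 := ev_suppMat_eq_zero K hmem (belowP w) fun i t h => by simpa [belowP] using h
    rw [map_sub, sub_eq_zero] at h0
    rw [h0, map_sum]
    exact Finset.sum_congr rfl fun c _ => map_smul _ _ _
  rw [← hg]
  refine Submodule.sum_mem _ fun c hc => Submodule.smul_mem _ _ (Submodule.subset_span ⟨c, ?_, rfl⟩)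
  show wtHibi w (belowExp c) < N
  obtain ⟨b, hb, hmax⟩ := Finset.exists_max_image g.support (fun x => dw d n (lead x)) ⟨c, hc⟩
  rw [hw]
  refine lt_of_le_of_lt (hmax c hc) (hp _ ?_)
  rw [hev, coeff_sum, Finset.sum_eq_single b]
  · rw [coeff_smul, (hlead b).coeff_eq, smul_eq_mul, mul_one]; exact Finsupp.mem_support_iff.1 hb
  · intro x hx hxb
    rw [coeff_smul]
    by_cases hco : coeff (lead b) (ev K Y (chainMon K x.2.1)) = 0
    · rw [hco, smul_zero]
    by_cases he : lead b = lead x
    · exfalso
      obtain ⟨hm, hk⟩ := chain_eq_of_exp_eq b.2.2.1 x.2.2.1 hd he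
      refine hxb (Eq.symm ?_)
      obtain ⟨mb, cb, hb'⟩ := b
      obtain ⟨mx, cx, hx'⟩ := x
      obtain rfl : mb = mx := hm
      obtain rfl : cb = cx := funext fun k => by simpa using hk k
      rfl
    · exact absurd ((hlead x).lt_of_ne _ hco he) (not_lt.2 (hmax x hx))
  · intro h; exact absurd hb h

theorem exists_degeneration_hibi (hd : 0 < d) (w : Idx d n) :
    ∃ (R : Type u) (_ : CommRing R) (_ : Algebra K R) (_ : Algebra (Polynomial K) R)
      (_ : IsScalarTower K (Polynomial K) R),
      Module.Free (Polynomial K) R ∧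
      Nonempty ((R ⧸ Ideal.span {algebraMap (Polynomial K) R Polynomial.X}) ≃ₐ[K]
        (MvPolynomial (Below w) K ⧸ hibiIdeal K w)) ∧
      ∀ c : K, c ≠ 0 →
        Nonempty ((R ⧸ Ideal.span {algebraMap (Polynomial K) R (Polynomial.X - Polynomial.C c)}) ≃ₐ[K]
          (PlRing K d n ⧸ schubertVanishing K d n w)) := by
  classical
  rw [hibiIdeal]
  refine degeneration (belowGen K w) belowExp (wtHibi w) (linearIndependent_below K hd w) (span_below K w) ?_ _ ?_ ?_
  · intro s
    rw [aeval_monomial_below]
    obtain ⟨e0, he0, -, hl⟩ := hasLead_ev_monomial K s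
    have h := mem_span_lt K hd w _ (wtHibi w s + 1) (fun z hz => by
      rw [← he0]
      by_cases hze : z = e0
      · rw [hze]; omega
      · have := hl.lt_of_ne z hz hze; omega)
    refine Submodule.span_mono (Set.image_mono ?_) h
    intro c hc
    simp only [Set.mem_setOf_eq] at hc ⊢
    omega
  · rintro f ⟨a, b, rfl⟩
    set S := Below.sup a b
    set I := Below.inf a b
    set ea := Finsupp.single a 1 + Finsupp.single b 1
    set eb := Finsupp.single S 1 + Finsupp.single I 1
    have hwab : wtHibi w ea = wtHibi w eb := by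
      have := congrArg (dw d n) (diagExp_sup_add_inf a.1 b.1)
      rw [map_add, map_add] at this
      simp only [ea, eb, map_add, wtHibi_single, one_mul]
      exact this.symm
    have hf : X a * X b - X S * X I = monomial ea (1 : K) - monomial eb 1 := by
      simp [ea, eb, X, monomial_mul]
    refine ⟨wtHibi w ea, fun s hs => ?_, ?_⟩
    · rw [hf] at hs
      rcases Finset.mem_union.1 (MvPolynomial.support_sub _ _ _ hs) with h | h
      · rw [Finset.mem_singleton.1 (support_monomial_subset h)]
      · rw [Finset.mem_singleton.1 (support_monomial_subset h), hwab]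
    · rw [show MvPolynomial.aeval (belowGen K w) (X a * X b - X S * X I) =
        Ideal.Quotient.mk _ (X a.1 * X b.1 - X S.1 * X I.1) by simp [belowGen]]
      refine mem_span_lt K hd w _ _ fun z hz => ?_
      have hm : ∀ θ : Below w, ∀ t, (belowP w) (θ.1.1 t) t := fun θ t => by simp [belowP, θ.2 t]
      have h1 := (hasLead_minor (K := K) _ a.1 (hm a)).mul (hasLead_minor (K := K) _ b.1 (hm b))
      have h2 := (hasLead_minor (K := K) _ S.1 (hm S)).mul (hasLead_minor (K := K) _ I.1 (hm I))
      rw [show diagExp S.1 + diagExp I.1 = diagExp a.1 + diagExp b.1 from diagExp_sup_add_inf a.1 b.1] at h2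
      rw [map_sub, map_mul, map_mul, ev_X, ev_X, ev_X, ev_X, coeff_sub] at hz
      have hW0 : wtHibi w ea = dw d n (diagExp a.1 + diagExp b.1) := by simp only [ea, map_add, wtHibi_single, one_mul]
      rw [hW0]
      by_cases hze : z = diagExp a.1 + diagExp b.1
      · rw [hze, h1.coeff_eq, h2.coeff_eq, sub_self] at hz; exact absurd rfl hz
      · by_contra hc
        apply hz
        rw [not_ne_iff.1 fun h => hc (h1.lt_of_ne z h hze), not_ne_iff.1 fun h => hc (h2.lt_of_ne z h hze), sub_zero]
  · intro s
    rw [monomial_multiset]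
    generalize s.toMultiset = s
    set T : Set (MvPolynomial (Below w) K) := {f | ∃ a b : Below w, f = X a * X b - X (Below.sup a b) * X (Below.inf a b)}
    induction hN : Multiset.card s * (d * n) ^ 2 - (s.map fun θ => wt θ.1 ^ 2).sum using Nat.strong_induction_on
      generalizing s with
    | _ N ih =>
    by_cases hs : ∀ a ∈ s, ∀ b ∈ s, a.1 ≤ b.1 ∨ b.1 ≤ a.1
    · obtain ⟨c, hc⟩ := exists_std_of_chain K s hs
      rw [hc]
      exact Submodule.mem_sup_left (Submodule.subset_span ⟨c, rfl⟩)
    push Not at hs
    obtain ⟨a, ha, b, hb, hab, hba⟩ := hs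
    have hne : b ≠ a := fun h => hab (h ▸ le_rfl)
    obtain ⟨s₁, rfl⟩ := Multiset.exists_cons_of_mem ha
    obtain ⟨s', rfl⟩ := Multiset.exists_cons_of_mem ((Multiset.mem_cons.1 hb).resolve_left hne)
    simp only [Multiset.map_cons, Multiset.prod_cons]
    have hr : (X a * X b - X (Below.sup a b) * X (Below.inf a b)) * (s'.map fun θ => (X θ : MvPolynomial (Below w) K)).prod ∈
        (Ideal.span T).restrictScalars K := Ideal.mul_mem_right _ _ (Ideal.subset_span ⟨a, b, rfl⟩)
    have hlt : wt a.1 ^ 2 + wt b.1 ^ 2 < wt (Below.sup a b).1 ^ 2 + wt (Below.inf a b).1 ^ 2 := by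
      have h1 : wt a.1 < wt (Below.sup a b).1 :=
        wt_lt_of_lt (lt_of_le_not_ge (fun t => le_max_left _ _) fun h => hba fun t => le_trans (le_max_right _ _) (h t))
      have h2 : wt b.1 < wt (Below.sup a b).1 :=
        wt_lt_of_lt (lt_of_le_not_ge (fun t => le_max_right _ _) fun h => hab fun t => le_trans (le_max_left _ _) (h t))
      have h3 : wt a.1 + wt b.1 = wt (Below.sup a b).1 + wt (Below.inf a b).1 := by
        simp only [wt, ← Finset.sum_add_distrib]
        refine Finset.sum_congr rfl fun t _ => ?_
        show _ = (max (a.1.1 t) (b.1.1 t)).val + (min (a.1.1 t) (b.1.1 t)).val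
        rcases le_total (a.1.1 t) (b.1.1 t) with h | h
        · rw [max_eq_right h, min_eq_left h, add_comm]
        · rw [max_eq_left h, min_eq_right h]
      generalize wt a.1 = x, wt b.1 = y, wt (Below.sup a b).1 = S, wt (Below.inf a b).1 = I at h1 h2 h3 ⊢
      nlinarith
    have hbound : ∀ t : Multiset (Below w), (t.map fun x => wt x.1 ^ 2).sum ≤ Multiset.card t * (d * n) ^ 2 := by
      intro t
      induction t using Multiset.induction with
      | empty => simp
      | cons x t iht =>
        have := Nat.pow_le_pow_left (wt_le x.1) 2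
        simp only [Multiset.map_cons, Multiset.sum_cons, Multiset.card_cons]; linarith
    have hb2 := hbound (Below.sup a b ::ₘ Below.inf a b ::ₘ s')
    have hrec := ih _ (by
      rw [← hN]
      simp only [Multiset.map_cons, Multiset.sum_cons, Multiset.card_cons] at hb2 ⊢
      omega) (Below.sup a b ::ₘ Below.inf a b ::ₘ s') rfl
    simp only [Multiset.map_cons, Multiset.prod_cons] at hrec
    have := Submodule.add_mem _ (Submodule.mem_sup_right (S := Submodule.span K (Set.range fun c : StdBelow w =>
      monomial (belowExp c) (1 : K))) hr) hrec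
    convert this using 1
    ring

/-! #### Stanley–Reisner -/

/-- the potential weight -/
noncomputable def wtSR (w : Idx d n) : (Below w →₀ ℕ) →+ ℕ :=
  Finsupp.liftAddHom fun θ => AddMonoidHom.mulRight ((d * n) ^ 2 - wt θ.1 ^ 2)

theorem wtSR_single (w : Idx d n) (θ : Below w) (k : ℕ) :
    wtSR w (Finsupp.single θ k) = k * ((d * n) ^ 2 - wt θ.1 ^ 2) := by simp [wtSR]

theorem sum_compl_sq {m : ℕ} (c : Fin m → Idx d n) :
    (∑ k, ((d * n) ^ 2 - wt (c k) ^ 2)) + ∑ k, wt (c k) ^ 2 = m * (d * n) ^ 2 := by
  rw [← Finset.sum_add_distrib, Finset.sum_congr rfl fun k _ => Nat.sub_add_cancel (Nat.pow_le_pow_left (wt_le (c k)) 2),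
    Finset.sum_const, Finset.card_univ, Fintype.card_fin, smul_eq_mul]

omit [IsAlgClosed K] in
theorem mem_span_sq {w : Idx d n} {m W P N : ℕ}
    (hN : ∀ Q, P ≤ Q → Q ≤ m * (d * n) ^ 2 → m * (d * n) ^ 2 - Q < N) {p : PlRing K d n}
    (hp : p ∈ Submodule.span K (stdSetSq K d n m W P) ⊔ (plIdealTop (d := d) (n := n) K).restrictScalars K) :
    Ideal.Quotient.mk (schubertVanishing K d n w) p ∈ Submodule.span K
      ((fun c : StdBelow w => MvPolynomial.aeval (belowGen K w) (monomial (belowExp c) (1 : K))) ''
        {c | wtSR w (belowExp c) < N}) := by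
  obtain ⟨a, ha, b, hb, rfl⟩ := Submodule.mem_sup.1 hp
  rw [map_add, Ideal.Quotient.eq_zero_iff_mem.2
    ((plIdealTop_le_plIdeal K w).trans (plIdeal_le_schubertVanishing K w) hb), add_zero]
  have h := Submodule.mem_map_of_mem (f := (Ideal.Quotient.mkₐ K (schubertVanishing K d n w)).toLinearMap) ha
  rw [Submodule.map_span] at h
  refine Submodule.span_le.2 ?_ h
  rintro _ ⟨_, ⟨c, hc, -, hP, rfl⟩, rfl⟩
  by_cases hcw : ∀ k, c k ≤ w
  · refine Submodule.subset_span ⟨⟨m, c, hc, hcw⟩, ?_, aeval_belowExp K _⟩
    show wtSR w (belowExp _) < N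
    rw [wtSR, below_weight_eq]
    have h1 := sum_compl_sq c
    have := hN (∑ k, wt (c k) ^ 2) hP (by omega)
    simp only
    omega
  · push Not at hcw
    obtain ⟨k, hk⟩ := hcw
    show Ideal.Quotient.mk _ (chainMon K c) ∈ _
    rw [Ideal.Quotient.eq_zero_iff_mem.2 (chainMon_mem_schubertVanishing K k hk)]
    exact Submodule.zero_mem _

theorem exists_degeneration_sr (hd : 0 < d) (w : Idx d n) :
    ∃ (R : Type u) (_ : CommRing R) (_ : Algebra K R) (_ : Algebra (Polynomial K) R)
      (_ : IsScalarTower K (Polynomial K) R),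
      Module.Free (Polynomial K) R ∧
      Nonempty ((R ⧸ Ideal.span {algebraMap (Polynomial K) R Polynomial.X}) ≃ₐ[K]
        (MvPolynomial (Below w) K ⧸ srIdeal K w)) ∧
      ∀ c : K, c ≠ 0 →
        Nonempty ((R ⧸ Ideal.span {algebraMap (Polynomial K) R (Polynomial.X - Polynomial.C c)}) ≃ₐ[K]
          (PlRing K d n ⧸ schubertVanishing K d n w)) := by
  classical
  rw [srIdeal]
  refine degeneration (belowGen K w) belowExp (wtSR w) (linearIndependent_below K hd w) (span_below K w) ?_ _ ?_ ?_
  · intro s
    rw [aeval_monomial_below]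
    have hmem := mem_span_sq K (w := w) (N := wtSR w s + 1) ?_ (straighten_sq (K := K) (s.toMultiset.map Subtype.val))
    · refine Submodule.span_mono (Set.image_mono ?_) hmem
      intro c hc
      simp only [Set.mem_setOf_eq] at hc ⊢
      omega
    · intro Q hQ hQ'
      have hW : wtSR w s + ((s.toMultiset.map Subtype.val).map fun θ => wt θ ^ 2).sum =
          Multiset.card (s.toMultiset.map Subtype.val) * (d * n) ^ 2 := by
        clear hQ hQ' Q
        induction s using Finsupp.induction_linear with
        | zero => simp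
        | add a b ha hb =>
          simp only [map_add, Multiset.map_add, Multiset.sum_add, Multiset.card_add] at *
          linarith
        | single θ k =>
          have := Nat.pow_le_pow_left (wt_le θ.1) 2
          simp [wtSR_single, Multiset.nsmul_singleton]
          rw [← mul_add, Nat.sub_add_cancel this]
      omega
  · rintro f ⟨a, b, hab, hba, rfl⟩
    refine ⟨wtSR w (Finsupp.single a 1 + Finsupp.single b 1), fun s hs => ?_, ?_⟩
    · rw [show X a * X b = monomial (Finsupp.single a 1 + Finsupp.single b 1) (1 : K) by simp [X, monomial_mul]] at hs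
      rw [Finset.mem_singleton.1 (support_monomial_subset hs)]
    · rw [show MvPolynomial.aeval (belowGen K w) (X a * X b) = Ideal.Quotient.mk _ (X a.1 * X b.1) by simp [belowGen]]
      refine mem_span_sq K ?_ (straighten_pair_sq (fun h => hab h) (fun h => hba h))
      intro Q hQ hQ'
      have h1 := Nat.pow_le_pow_left (wt_le a.1) 2
      have h2 := Nat.pow_le_pow_left (wt_le b.1) 2
      simp only [map_add, wtSR_single, one_mul]
      omega
  · intro s
    rw [monomial_multiset]
    by_cases hs : ∀ a ∈ s.toMultiset, ∀ b ∈ s.toMultiset, a.1 ≤ b.1 ∨ b.1 ≤ a.1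
    · obtain ⟨c, hc⟩ := exists_std_of_chain K _ hs
      rw [hc]
      exact Submodule.mem_sup_left (Submodule.subset_span ⟨c, rfl⟩)
    push Not at hs
    obtain ⟨a, ha, b, hb, hab, hba⟩ := hs
    refine Submodule.mem_sup_right ?_
    have hne : b ≠ a := fun h => hab (h ▸ le_rfl)
    obtain ⟨s₁, hs₁⟩ := Multiset.exists_cons_of_mem ha
    rw [hs₁] at hb ⊢
    obtain ⟨s', rfl⟩ := Multiset.exists_cons_of_mem ((Multiset.mem_cons.1 hb).resolve_left hne)
    simp only [Multiset.map_cons, Multiset.prod_cons, ← mul_assoc]
    exact Ideal.mul_mem_right _ _ (Ideal.subset_span ⟨a, b, hab, hba, rfl⟩)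

end

end Groth.Agent.H26Grass
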