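import Groth.Agent.H26Grass.Basic
import Mathlib.Algebra.MvPolynomial.CommRing
import Mathlib.GroupTheory.Perm.Sign

set_option autoImplicit false
universe u v

/-! The shuffle relations vanish on minors. -/

namespace Groth.Agent.H26Grass

open W4bk4grassmannian Finset

variable {R : Type v} [CommRing R] {d n : ℕ}

section
variable (i j : Idx d n) (r : Fin d)

/-- rows of the first factor for an ordering `p` of the moving rows -/
def rowsI (p : Fin (d + 1) → Fin (d + 1)) : Fin d → Fin n :=
  fun t => if t.val ≤ r.val then movingRows i j r (p t.castSucc) else i.1 t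

/-- rows of the second factor for an ordering `p` of the moving rows -/
def rowsJ (p : Fin (d + 1) → Fin (d + 1)) : Fin d → Fin n :=
  fun t => if t.val < r.val then j.1 t else movingRows i j r (p t.succ)

/-- the positions of the moving rows -/
def IsMoving (x : Fin d ⊕ Fin d) : Prop := Sum.elim (fun t => t.val ≤ r.val) (fun t => r.val ≤ t.val) x

instance : DecidablePred (IsMoving r) := fun x => by
  cases x <;> (unfold IsMoving; simp only [Sum.elim_inl, Sum.elim_inr]; infer_instance)

/-- enumeration of the moving positions -/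
noncomputable def movEquiv : Fin (d + 1) ≃ {x : Fin d ⊕ Fin d // IsMoving r x} :=
  Equiv.ofBijective
    (fun k => if h : k.val ≤ r.val then ⟨Sum.inl ⟨k.val, lt_of_le_of_lt h r.isLt⟩, h⟩
      else ⟨Sum.inr ⟨k.val - 1, by have := k.isLt; omega⟩,
        show r.val ≤ k.val - 1 by omega⟩)
    ⟨by
      intro a b h
      dsimp only at h
      split_ifs at h with ha hb hb <;>
        simp only [Subtype.mk.injEq, Sum.inl.injEq, Sum.inr.injEq, Fin.mk.injEq, reduceCtorEq] at h
      · exact Fin.ext h
      · exact Fin.ext (by omega), by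
      rintro ⟨t | t, ht⟩
      · have ht' : t.val ≤ r.val := ht
        refine ⟨t.castSucc, ?_⟩
        simp [ht']
      · have ht' : r.val ≤ t.val := ht
        refine ⟨t.succ, ?_⟩
        have : ¬ (t.val + 1 ≤ r.val) := by omega
        simp [this]⟩

theorem movEquiv_castSucc (t : Fin d) (h : t.val ≤ r.val) :
    (movEquiv r t.castSucc).1 = Sum.inl t := by
  simp [movEquiv, h]

theorem movEquiv_succ (t : Fin d) (h : r.val ≤ t.val) : (movEquiv r t.succ).1 = Sum.inr t := by
  have : ¬ (t.val + 1 ≤ r.val) := by omega
  simp [movEquiv, this]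

/-- the block diagonal matrix -/
def blockN (A : Matrix (Fin n) (Fin d) R) (p : Fin (d + 1) → Fin (d + 1)) :
    Matrix (Fin d ⊕ Fin d) (Fin d ⊕ Fin d) R :=
  Matrix.fromBlocks (A.submatrix (rowsI i j r p) id) 0 0 (A.submatrix (rowsJ i j r p) id)

/-- product of the two determinants -/
def dd (A : Matrix (Fin n) (Fin d) R) (p : Fin (d + 1) → Fin (d + 1)) : R :=
  (A.submatrix (rowsI i j r p) id).det * (A.submatrix (rowsJ i j r p) id).det

theorem det_blockN (A : Matrix (Fin n) (Fin d) R) (p : Fin (d + 1) → Fin (d + 1)) :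
    (blockN i j r A p).det = dd i j r A p := Matrix.det_fromBlocks_zero₂₁ _ _ _

/-- the sum over all orderings vanishes: two equal columns -/
theorem sum_perm_dd_eq_zero (A : Matrix (Fin n) (Fin d) R) :
    ∑ σ : Equiv.Perm (Fin (d + 1)), ((Equiv.Perm.sign σ : ℤ) : R) * dd i j r A σ = 0 := by
  simp_rw [← det_blockN, fun p => (Matrix.det_transpose (blockN i j r A p)).symm,
    Matrix.det_apply' (Matrix.transpose _), Finset.mul_sum]
  rw [Finset.sum_comm]
  refine Finset.sum_eq_zero fun τ _ => ?_
  classical
  -- columns seen by the moving positions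
  set same : Fin (d + 1) → Prop := fun k => ((movEquiv r k).1.isLeft = (τ (movEquiv r k).1).isLeft)
  set idx : Fin (d + 1) → Fin d := fun k => Sum.elim id id (τ (movEquiv r k).1)
  set M : Matrix (Fin (d + 1)) (Fin (d + 1)) R :=
    Matrix.of fun a k => if same k then A (movingRows i j r a) (idx k) else 0 with hM
  set c : R := ∏ x : {x : Fin d ⊕ Fin d // ¬ IsMoving r x}, blockN i j r A id x.1 (τ x.1)
  have key : ∀ σ : Equiv.Perm (Fin (d + 1)),
      ∏ x, Matrix.transpose (blockN i j r A σ) (τ x) x = (∏ k, M (σ k) k) * c := by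
    intro σ
    rw [← Fintype.prod_subtype_mul_prod_subtype (IsMoving r)]
    congr 1
    · rw [← Equiv.prod_comp (movEquiv r)]
      refine Finset.prod_congr rfl fun k _ => ?_
      simp only [hM, Matrix.of_apply, Matrix.transpose_apply, same, idx]
      rcases hx : (movEquiv r k).1 with t | t
      · have ht : t.val ≤ r.val := by have := (movEquiv r k).2; rw [hx] at this; exact this
        have hk : k = t.castSucc := (movEquiv r).injective (Subtype.ext (by rw [hx, movEquiv_castSucc r t ht]))
        rcases τ (Sum.inl t) with u | u <;> simp [blockN, rowsI, ht, hk]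
      · have ht : r.val ≤ t.val := by have := (movEquiv r k).2; rw [hx] at this; exact this
        have hk : k = t.succ := (movEquiv r).injective (Subtype.ext (by rw [hx, movEquiv_succ r t ht]))
        rcases τ (Sum.inr t) with u | u <;> simp [blockN, rowsJ, not_lt.2 ht, hk]
    · refine Finset.prod_congr rfl fun x _ => ?_
      rcases x with ⟨t | t, hx⟩
      · have ht : ¬ (t.val ≤ r.val) := hx
        rcases τ (Sum.inl t) with u | u <;> simp [blockN, rowsI, ht]
      · have ht : ¬ (r.val ≤ t.val) := hx
        rcases τ (Sum.inr t) with u | u <;> simp [blockN, rowsJ, not_le.1 ht]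
  have hdet : M.det = 0 := by
    have : ¬ Function.Injective idx := fun h => by
      have := Fintype.card_le_of_injective _ h; simp at this
    simp only [Function.Injective, not_forall] at this
    obtain ⟨a, b, hab, hne⟩ := this
    by_cases ha : same a
    · by_cases hb : same b
      · exact Matrix.det_zero_of_column_eq hne fun k => by simp [hM, ha, hb, hab]
      · exact Matrix.det_eq_zero_of_column_eq_zero b fun k => by simp [hM, hb]
    · exact Matrix.det_eq_zero_of_column_eq_zero a fun k => by simp [hM, ha]
  calc _ = ((Equiv.Perm.sign τ : ℤ) : R) * c * ∑ σ : Equiv.Perm (Fin (d + 1)),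
          ((Equiv.Perm.sign σ : ℤ) : R) * ∏ k, M (σ k) k := by
        rw [Finset.mul_sum]; refine Finset.sum_congr rfl fun σ _ => ?_; rw [key σ]; ring
    _ = 0 := by rw [← Matrix.det_apply', hdet, mul_zero]

/-- permutations preserving the two blocks do not change the signed product -/
theorem sign_dd_mul (A : Matrix (Fin n) (Fin d) R) (σ π : Equiv.Perm (Fin (d + 1)))
    (hπ : ∀ k, (π k).val ≤ r.val ↔ k.val ≤ r.val) :
    ((Equiv.Perm.sign (σ * π) : ℤ) : R) * dd i j r A ⇑(σ * π) =
      ((Equiv.Perm.sign σ : ℤ) : R) * dd i j r A σ := by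
  set ρ := π.extendDomain (movEquiv r) with hρ
  have hl : ∀ t : Fin d, t.val ≤ r.val →
      ∃ t' : Fin d, t'.val ≤ r.val ∧ π t.castSucc = t'.castSucc ∧ ρ (Sum.inl t) = Sum.inl t' := by
    intro t ht
    have h1 : (π t.castSucc).val ≤ r.val := (hπ _).2 ht
    obtain ⟨t', ht'⟩ : ∃ t' : Fin d, t'.castSucc = π t.castSucc :=
      ⟨⟨(π t.castSucc).val, lt_of_le_of_lt h1 r.isLt⟩, rfl⟩
    have h2 : t'.val ≤ r.val := by rw [← ht'] at h1; simpa using h1
    refine ⟨t', h2, ht'.symm, ?_⟩
    rw [← movEquiv_castSucc r t ht, hρ, Equiv.Perm.extendDomain_apply_image, ← ht', movEquiv_castSucc r t' h2]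
  have hr : ∀ t : Fin d, r.val ≤ t.val →
      ∃ t' : Fin d, r.val ≤ t'.val ∧ π t.succ = t'.succ ∧ ρ (Sum.inr t) = Sum.inr t' := by
    intro t ht
    have h1 : ¬ (π t.succ).val ≤ r.val := fun h => by
      have := (hπ _).1 h; simp at this; omega
    obtain ⟨t', ht'⟩ : ∃ t' : Fin d, t'.succ = π t.succ :=
      ⟨⟨(π t.succ).val - 1, by have := (π t.succ).isLt; omega⟩, Fin.ext (by simp; omega)⟩
    have h2 : r.val ≤ t'.val := by rw [← ht'] at h1; simp at h1; omega
    refine ⟨t', h2, ht'.symm, ?_⟩
    rw [← movEquiv_succ r t ht, hρ, Equiv.Perm.extendDomain_apply_image, ← ht', movEquiv_succ r t' h2]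
  have hfix : ∀ x, ¬ IsMoving r x → ρ x = x := fun x hx => by
    rw [hρ]; exact Equiv.Perm.extendDomain_apply_not_subtype _ _ hx
  have hN : blockN i j r A ⇑(σ * π) = (blockN i j r A σ).submatrix ρ id := by
    ext x c
    rcases x with t | t
    · by_cases ht : t.val ≤ r.val
      · obtain ⟨t', ht', e1, e2⟩ := hl t ht
        rw [Matrix.submatrix_apply, e2]
        rcases c with c | c <;> simp [blockN, rowsI, ht, ht', e1]
      · rw [Matrix.submatrix_apply, hfix (Sum.inl t) ht]
        rcases c with c | c <;> simp [blockN, rowsI, ht]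
    · by_cases ht : r.val ≤ t.val
      · obtain ⟨t', ht', e1, e2⟩ := hr t ht
        rw [Matrix.submatrix_apply, e2]
        rcases c with c | c <;> simp [blockN, rowsJ, not_lt.2 ht, not_lt.2 ht', e1]
      · rw [Matrix.submatrix_apply, hfix (Sum.inr t) ht]
        rcases c with c | c <;> simp [blockN, rowsJ, not_le.1 ht]
  rw [← det_blockN, hN, Matrix.det_permute, det_blockN, hρ, Equiv.Perm.sign_extendDomain, map_mul]
  have h1 : ((Equiv.Perm.sign π : ℤ) : R) * ((Equiv.Perm.sign π : ℤ) : R) = 1 := by
    rw [← Int.cast_mul, ← Units.val_mul, Int.units_mul_self, Units.val_one, Int.cast_one]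
  push_cast
  linear_combination (((Equiv.Perm.sign σ : ℤ) : R) * dd i j r A σ) * h1

end

/-! ### The shuffle permutation of a set of positions -/

theorem card_compl_of (r : Fin d) {S : Finset (Fin (d + 1))} (hS : S.card = r.val + 1) :
    Sᶜ.card = d - r.val := by rw [Finset.card_compl, hS, Fintype.card_fin]; omega

/-- the shuffle sending `S` to the front -/
noncomputable def shufflePerm (r : Fin d) (S : Finset (Fin (d + 1))) (hS : S.card = r.val + 1) :
    Equiv.Perm (Fin (d + 1)) :=
  Equiv.ofBijective
    (fun k => if h : k.val ≤ r.val then S.orderEmbOfFin hS ⟨k.val, by omega⟩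
      else Sᶜ.orderEmbOfFin (card_compl_of r hS) ⟨k.val - (r.val + 1), by have := k.isLt; omega⟩)
    (Function.Injective.bijective_of_finite (by
      intro a b h
      dsimp only at h
      split_ifs at h with ha hb hb
      · have := (S.orderEmbOfFin hS).injective h; simp only [Fin.mk.injEq] at this; exact Fin.ext this
      · exact absurd (h ▸ S.orderEmbOfFin_mem hS _) (Finset.mem_compl.1 (Sᶜ.orderEmbOfFin_mem _ _))
      · exact absurd (h ▸ S.orderEmbOfFin_mem hS _) (Finset.mem_compl.1 (Sᶜ.orderEmbOfFin_mem _ _))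
      · have := (Sᶜ.orderEmbOfFin _).injective h; simp only [Fin.mk.injEq] at this
        exact Fin.ext (by omega)))

theorem shufflePerm_apply (r : Fin d) (S : Finset (Fin (d + 1))) (hS : S.card = r.val + 1)
    (k : Fin (d + 1)) :
    shufflePerm r S hS k = if h : k.val ≤ r.val then S.orderEmbOfFin hS ⟨k.val, by omega⟩
      else Sᶜ.orderEmbOfFin (card_compl_of r hS) ⟨k.val - (r.val + 1), by have := k.isLt; omega⟩ := rfl

theorem shufflePerm_mem_iff (r : Fin d) (S : Finset (Fin (d + 1))) (hS : S.card = r.val + 1)
    (k : Fin (d + 1)) : shufflePerm r S hS k ∈ S ↔ k.val ≤ r.val := by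
  rw [shufflePerm_apply]
  split_ifs with h
  · simp [h, S.orderEmbOfFin_mem hS]
  · simp only [h, iff_false]; exact Finset.mem_compl.1 (Sᶜ.orderEmbOfFin_mem _ _)

theorem rowsI_shufflePerm (i j : Idx d n) (r : Fin d) (S : Finset (Fin (d + 1)))
    (hS : S.card = r.val + 1) : rowsI i j r (shufflePerm r S hS) = shuffleI i j r S hS := by
  funext t
  unfold rowsI shuffleI
  split_ifs with h
  · rw [shufflePerm_apply, dif_pos (show t.castSucc.val ≤ r.val from h)]; rfl
  · rfl

theorem rowsJ_shufflePerm (i j : Idx d n) (r : Fin d) (S : Finset (Fin (d + 1)))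
    (hS : S.card = r.val + 1) : rowsJ i j r (shufflePerm r S hS) = shuffleJ i j r S hS := by
  funext t
  unfold rowsJ shuffleJ
  split_ifs with h
  · rfl
  · rw [shufflePerm_apply, dif_neg (by simp; omega)]
    congr 2
    exact Fin.ext (by simp)

theorem invCount_shufflePerm (r : Fin d) (S : Finset (Fin (d + 1))) (hS : S.card = r.val + 1) :
    invCount (d + 1) (d + 1) (shufflePerm r S hS) = shuffleSign r S := by
  set s := shufflePerm r S hS with hs
  set e := S.orderEmbOfFin hS with he
  -- ranks
  have hrank : ∀ p : Fin (r.val + 1), (S.filter fun x => x < e p).card = p.val := by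
    intro p
    have : (S.filter fun x => x < e p) = (Finset.Iio p).map e.toEmbedding := by
      conv_lhs => rw [← Finset.map_orderEmbOfFin_univ S hS]
      rw [Finset.filter_map]; congr 1; ext q; simp [he]
    rw [this, Finset.card_map, Fin.card_Iio]
  have hcompl : ∀ p : Fin (r.val + 1), (Sᶜ.filter fun x => x < e p).card + p.val = (e p).val := by
    intro p
    have h := Fin.card_Iio (e p)
    rw [← h, ← hrank p, ← Finset.card_union_of_disjoint]
    · congr 1; ext x; simp only [Finset.mem_union, Finset.mem_filter, Finset.mem_compl, Finset.mem_Iio]; tauto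
    · exact Finset.disjoint_filter_filter disjoint_compl_left
  -- inversions
  have hinv : invCount (d + 1) (d + 1) s = ∑ p : Fin (r.val + 1), (Sᶜ.filter fun x => x < e p).card := by
    rw [← Finset.card_sigma, invCount]
    refine Finset.card_bij (fun pq hpq => ⟨⟨pq.1.val, ?_⟩, s pq.2⟩) ?_ ?_ ?_
    · simp only [Finset.mem_filter, Finset.mem_univ, true_and] at hpq
      by_contra hc
      have h1 : ¬ pq.1.val ≤ r.val := by omega
      have h2 : ¬ pq.2.val ≤ r.val := by have := hpq.1; rw [Fin.lt_def] at this; omega
      have := hpq.2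
      rw [hs, shufflePerm_apply, shufflePerm_apply, dif_neg h1, dif_neg h2, OrderEmbedding.lt_iff_lt,
        Fin.lt_def] at this
      have := hpq.1; rw [Fin.lt_def] at this; simp only at *; omega
    · intro pq hpq
      simp only [Finset.mem_filter, Finset.mem_univ, true_and] at hpq
      have h1 : pq.1.val ≤ r.val := by
        by_contra h1
        have h2 : ¬ pq.2.val ≤ r.val := by have := hpq.1; rw [Fin.lt_def] at this; omega
        have := hpq.2
        rw [hs, shufflePerm_apply, shufflePerm_apply, dif_neg h1, dif_neg h2, OrderEmbedding.lt_iff_lt,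
          Fin.lt_def] at this
        have := hpq.1; rw [Fin.lt_def] at this; simp only at *; omega
      have h2 : ¬ pq.2.val ≤ r.val := fun h2 => by
        have := hpq.2
        rw [hs, shufflePerm_apply, shufflePerm_apply, dif_pos h1, dif_pos h2, OrderEmbedding.lt_iff_lt,
          Fin.lt_def] at this
        have := hpq.1; rw [Fin.lt_def] at this; simp only at *; omega
      simp only [Finset.mem_sigma, Finset.mem_univ, true_and, Finset.mem_filter, Finset.mem_compl]
      refine ⟨fun hm => h2 ((shufflePerm_mem_iff r S hS _).1 hm), ?_⟩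
      have := hpq.2
      rwa [hs, shufflePerm_apply r S hS pq.1, dif_pos h1] at this
    · intro a _ b _ h
      simp only [Sigma.mk.injEq, heq_eq_eq, Fin.mk.injEq] at h
      exact Prod.ext (Fin.ext h.1) (s.injective h.2)
    · rintro ⟨p, x⟩ hx
      simp only [Finset.mem_sigma, Finset.mem_univ, true_and, Finset.mem_filter, Finset.mem_compl] at hx
      obtain ⟨q, rfl⟩ := s.surjective x
      have hq : ¬ q.val ≤ r.val := fun h => hx.1 ((shufflePerm_mem_iff r S hS _).2 h)
      refine ⟨(⟨p.val, by omega⟩, q), ?_, rfl⟩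
      simp only [Finset.mem_filter, Finset.mem_univ, true_and, Fin.lt_def]
      refine ⟨by omega, ?_⟩
      have := hx.2
      rw [hs, shufflePerm_apply r S hS ⟨p.val, by omega⟩, dif_pos (show p.val ≤ r.val by omega)]
      exact this
  have hsum : (S.sum fun a => a.val) = ∑ p : Fin (r.val + 1), (e p).val := by
    conv_lhs => rw [← Finset.map_orderEmbOfFin_univ S hS]
    rw [Finset.sum_map]; rfl
  have htot : ∑ p : Fin (r.val + 1), p.val = r.val * (r.val + 1) / 2 := by
    rw [Fin.sum_univ_eq_sum_range (fun x => x), Finset.sum_range_id, Nat.add_sub_cancel, mul_comm]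
  rw [hinv, shuffleSign, hsum, ← htot]
  rw [← Finset.sum_congr rfl fun p _ => hcompl p, Finset.sum_add_distrib, Nat.add_sub_cancel]

theorem sign_shufflePerm (r : Fin d) (S : Finset (Fin (d + 1))) (hS : S.card = r.val + 1) :
    ((Equiv.Perm.sign (shufflePerm r S hS) : ℤˣ) : ℤ) = (-1) ^ shuffleSign r S := by
  rw [sign_eq_neg_one_pow_invCount, invCount_shufflePerm]

/-- one term of the shuffle relation, at a matrix -/
def shuffleVal (i j : Idx d n) (r : Fin d) (A : Matrix (Fin n) (Fin d) R) (S : Finset (Fin (d + 1))) : R :=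
  if hS : S.card = r.val + 1 then
    (-1 : R) ^ shuffleSign r S * (A.submatrix (shuffleI i j r S hS) id).det *
      (A.submatrix (shuffleJ i j r S hS) id).det
  else 0

theorem sum_shuffleVal_int (i j : Idx d n) (r : Fin d) [IsDomain R] [CharZero R]
    (A : Matrix (Fin n) (Fin d) R) : ∑ S, shuffleVal i j r A S = 0 := by
  classical
  set P := (Finset.univ : Finset (Equiv.Perm (Fin (d + 1)))).filter
    fun π => ∀ k, (π k).val ≤ r.val ↔ k.val ≤ r.val with hP
  set T : Equiv.Perm (Fin (d + 1)) → R := fun σ => ((Equiv.Perm.sign σ : ℤ) : R) * dd i j r A σ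
  set front : Finset (Fin (d + 1)) := Finset.univ.filter fun k => k.val ≤ r.val with hfront
  have hfc : front.card = r.val + 1 := by
    rw [hfront, show (Finset.univ.filter fun k : Fin (d + 1) => k.val ≤ r.val) = Finset.Iic r.castSucc by
      ext k; simp [Fin.le_def], Fin.card_Iic]
    simp
  have h0 : ∑ σ, T σ = 0 := sum_perm_dd_eq_zero i j r A
  rw [← Finset.sum_fiberwise Finset.univ (fun σ : Equiv.Perm (Fin (d + 1)) => front.image σ)] at h0
  have hfib : ∀ S, ∑ σ ∈ Finset.univ.filter (fun σ : Equiv.Perm (Fin (d + 1)) => front.image σ = S), T σ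
      = (P.card : R) * shuffleVal i j r A S := by
    intro S
    unfold shuffleVal
    split_ifs with hS
    · have hval : T (shufflePerm r S hS) = (-1 : R) ^ shuffleSign r S *
          (A.submatrix (shuffleI i j r S hS) id).det * (A.submatrix (shuffleJ i j r S hS) id).det := by
        simp only [T, dd, rowsI_shufflePerm, rowsJ_shufflePerm, sign_shufflePerm]
        push_cast
        ring
      rw [← nsmul_eq_mul, ← Finset.sum_const (s := P), ← hval]
      refine Finset.sum_nbij' (fun σ => (shufflePerm r S hS)⁻¹ * σ) (fun π => shufflePerm r S hS * π)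
        ?_ ?_ (fun σ _ => by simp) (fun π _ => by simp) ?_
      · intro σ hσ
        simp only [Finset.mem_filter, Finset.mem_univ, true_and, hP] at hσ ⊢
        intro k
        rw [← shufflePerm_mem_iff r S hS, Equiv.Perm.mul_apply, Equiv.Perm.coe_inv,
          Equiv.apply_symm_apply, ← hσ, Finset.mem_image]
        simp [hfront, σ.injective.eq_iff]
      · intro π hπ
        simp only [Finset.mem_filter, Finset.mem_univ, true_and, hP] at hπ ⊢
        refine Finset.eq_of_subset_of_card_le ?_ ?_
        · intro x hx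
          obtain ⟨k, hk, rfl⟩ := Finset.mem_image.1 hx
          rw [Equiv.Perm.mul_apply, shufflePerm_mem_iff, hπ]
          simpa [hfront] using hk
        · rw [Finset.card_image_of_injective _ (Equiv.injective _), hfc, hS]
      · intro σ hσ
        simp only [Finset.mem_filter, Finset.mem_univ, true_and] at hσ
        have hπ : ∀ k, (((shufflePerm r S hS)⁻¹ * σ) k).val ≤ r.val ↔ k.val ≤ r.val := fun k => by
          rw [← shufflePerm_mem_iff r S hS, Equiv.Perm.mul_apply, Equiv.Perm.coe_inv,
            Equiv.apply_symm_apply, ← hσ, Finset.mem_image]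
          simp [hfront, σ.injective.eq_iff]
        have := sign_dd_mul i j r A (shufflePerm r S hS) _ hπ
        rw [mul_inv_cancel_left] at this
        exact this
    · rw [mul_zero, Finset.filter_eq_empty_iff.2, Finset.sum_empty]
      intro σ _ h
      exact hS (by rw [← h, Finset.card_image_of_injective _ (Equiv.injective _), hfc])
  simp only [hfib] at h0
  rw [← Finset.mul_sum] at h0
  refine (mul_eq_zero.1 h0).resolve_left ?_
  exact Nat.cast_ne_zero.2 (Finset.card_ne_zero.2 ⟨1, by simp [hP]⟩)

/-- The shuffle identity over any commutative ring. -/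
theorem sum_shuffleVal (i j : Idx d n) (r : Fin d) (A : Matrix (Fin n) (Fin d) R) :
    ∑ S, shuffleVal i j r A S = 0 := by
  haveI : CharZero (MvPolynomial (Fin n × Fin d) ℤ) :=
    ⟨fun a b h => by simpa using congrArg MvPolynomial.constantCoeff h⟩
  have h := sum_shuffleVal_int i j r
    (Matrix.of fun a t => (MvPolynomial.X (a, t) : MvPolynomial (Fin n × Fin d) ℤ))
  set φ : MvPolynomial (Fin n × Fin d) ℤ →+* R :=
    MvPolynomial.eval₂Hom (Int.castRingHom R) (fun p => A p.1 p.2) with hφ
  have h' := congrArg φ h
  rw [map_sum, map_zero] at h'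
  rw [← h']
  refine Finset.sum_congr rfl fun S _ => ?_
  unfold shuffleVal
  split_ifs with hS
  · rw [map_mul, map_mul, map_pow, map_neg, map_one, RingHom.map_det, RingHom.map_det]
    congr 2
    · congr 1; congr 1; ext a t; simp [hφ]
    · congr 1; ext a t; simp [hφ]
  · rw [map_zero]

/-- The shuffle relations vanish at the minors of every matrix. -/
theorem ev_shuffleRel {K : Type u} [CommRing K] [Algebra K R] (i j : Idx d n) (r : Fin d)
    (A : Matrix (Fin n) (Fin d) R) : ev K A (shuffleRel K i j r) = 0 := by
  rw [shuffleRel, map_sum, ← sum_shuffleVal i j r A]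
  refine Finset.sum_congr rfl fun S _ => ?_
  unfold shuffleTerm shuffleVal
  split_ifs with hS
  · rw [map_mul, map_mul, map_pow, map_neg, map_one, ev_coord, ev_coord]
  · rw [map_zero]

end Groth.Agent.H26Grass
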