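import Groth.Agent.H26Grass.Shuffle

set_option autoImplicit false
universe u

/-! Straightening modulo the shuffle relations, over any commutative ring. -/

namespace Groth.Agent.H26Grass

open W4bk4grassmannian MvPolynomial Finset

variable {K : Type u} [CommRing K] {d n : ℕ}

/-- the weight of an index -/
def wt (θ : Idx d n) : ℕ := ∑ t, (θ.1 t).val

theorem wt_lt_of_lt {a b : Idx d n} (h : a < b) : wt a < wt b := by
  refine Finset.sum_lt_sum (fun t _ => Fin.le_def.1 (h.le t)) ?_
  by_contra hc
  simp only [not_exists, not_and, not_lt] at hc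
  exact h.not_ge fun t => Fin.le_def.2 (hc t (Finset.mem_univ t))

theorem wt_mono {a b : Idx d n} (h : a ≤ b) : wt a ≤ wt b :=
  Finset.sum_le_sum fun t _ => Fin.le_def.1 (h t)

theorem wt_le (θ : Idx d n) : wt θ ≤ d * n := by
  unfold wt
  calc ∑ t, (θ.1 t).val ≤ ∑ _t : Fin d, n := Finset.sum_le_sum fun t _ => (θ.1 t).isLt.le
    _ = d * n := by simp

/-- monomial of a multiset of indices -/
noncomputable def mon (K : Type u) [CommRing K] (s : Multiset (Idx d n)) : PlRing K d n :=
  (s.map X).prod

theorem mon_cons (a : Idx d n) (s : Multiset (Idx d n)) : mon K (a ::ₘ s) = X a * mon K s := by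
  simp [mon]

theorem exists_pivot {i j : Idx d n} (h : ¬ j ≤ i) : ∃ r, IsPivot i j r := by
  have hne : ((Finset.univ : Finset (Fin d)).filter fun t => i.1 t < j.1 t).Nonempty := by
    by_contra hc
    refine h fun t => le_of_not_gt fun ht => hc ⟨t, ?_⟩
    simp [ht]
  refine ⟨Finset.min' _ hne, ?_, ?_⟩
  · intro t ht
    by_contra hc
    have := Finset.min'_le ((Finset.univ : Finset (Fin d)).filter fun t => i.1 t < j.1 t) t
      (by simp [lt_of_not_ge hc])
    exact absurd ht (not_lt.2 this)
  · have := Finset.min'_mem _ hne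
    simpa using (Finset.mem_filter.1 this).2

theorem coord_cases (a : Fin d → Fin n) :
    coord K d n a = 0 ∨ ∃ (θ : Idx d n) (e : ℕ),
      coord K d n a = (-1) ^ e * X θ ∧ wt θ = ∑ t, (a t).val := by
  unfold coord
  split_ifs with h
  · right
    obtain ⟨σ, hσ, -⟩ := exists_sort_perm a h
    refine ⟨_, _, rfl, ?_⟩
    conv_rhs => rw [hσ]
    exact (Equiv.sum_comp σ (fun t => ((sortIdx d n a h).1 t).val)).symm
  · left; rfl

section
variable (i j : Idx d n) (r : Fin d)

theorem movingRows_strictMono (hr : i.1 r < j.1 r) : StrictMono (movingRows i j r) := by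
  intro a b hab
  rw [Fin.lt_def] at hab
  unfold movingRows
  split_ifs with ha hb hb
  · exact i.2 (Fin.lt_def.2 hab)
  · have hle : ∀ t : Fin d, t.val ≤ r.val → i.1 t ≤ i.1 r := fun t ht => i.2.monotone (Fin.le_def.2 ht)
    exact lt_of_le_of_lt (hle _ ha) (lt_of_lt_of_le hr (j.2.monotone (Fin.le_def.2 (by simp; omega))))
  · omega
  · exact j.2 (Fin.lt_def.2 (by simp; omega))

/-- the front positions -/
def front : Finset (Fin (d + 1)) := Finset.univ.filter fun k => k.val ≤ r.val

theorem card_front : (front r).card = r.val + 1 := by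
  rw [front, show (Finset.univ.filter fun k : Fin (d + 1) => k.val ≤ r.val) = Finset.Iic r.castSucc by
      ext k; simp [Fin.le_def], Fin.card_Iic]
  simp

theorem orderEmb_front (p : Fin (r.val + 1)) :
    (front r).orderEmbOfFin (card_front r) p = ⟨p.val, by omega⟩ := by
  have := Finset.orderEmbOfFin_unique (card_front r)
    (f := fun p : Fin (r.val + 1) => (⟨p.val, by omega⟩ : Fin (d + 1)))
    (fun p => by simp [front]; omega) (fun a b h => h)
  exact (congrFun this p).symm

theorem orderEmb_front_compl (p : Fin (d - r.val)) :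
    (front r)ᶜ.orderEmbOfFin (card_compl_of r (card_front r)) p = ⟨p.val + r.val + 1, by omega⟩ := by
  have := Finset.orderEmbOfFin_unique (card_compl_of r (card_front r))
    (f := fun p : Fin (d - r.val) => (⟨p.val + r.val + 1, by omega⟩ : Fin (d + 1)))
    (fun p => by simp [front]) (fun a b h => by simp only [Fin.lt_def] at h ⊢; omega)
  exact (congrFun this p).symm

theorem shuffleI_front : shuffleI i j r (front r) (card_front r) = i.1 := by
  funext t
  unfold shuffleI
  split_ifs with h
  · rw [orderEmb_front]; simp [movingRows, h]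
  · rfl

theorem shuffleJ_front : shuffleJ i j r (front r) (card_front r) = j.1 := by
  funext t
  unfold shuffleJ
  split_ifs with h
  · rfl
  · rw [orderEmb_front_compl]
    have : ¬ (t.val - r.val + r.val + 1 ≤ r.val) := by omega
    simp only [movingRows, this, dite_false]
    exact congrArg j.1 (Fin.ext (by simp; omega))

theorem shuffleTerm_front : shuffleTerm K i j r (front r) = X i * X j := by
  rw [shuffleTerm, dif_pos (card_front r), shuffleI_front, shuffleJ_front, coord_eq_X, coord_eq_X]
  have h : shuffleSign r (front r) = 0 := by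
    rw [← invCount_shufflePerm r (front r) (card_front r), invCount, Finset.card_eq_zero,
      Finset.filter_eq_empty_iff]
    have hid : ∀ k : Fin (d + 1), shufflePerm r (front r) (card_front r) k = k := by
      intro k
      rw [shufflePerm_apply]
      split_ifs with hk
      · rw [orderEmb_front]
      · rw [orderEmb_front_compl]; exact Fin.ext (by simp; omega)
    rintro ⟨a, b⟩ - ⟨h1, h2⟩
    simp only [hid] at h2
    exact absurd h1 (not_lt.2 h2.le)
  rw [h, pow_zero, one_mul]

theorem sum_shuffleI (S : Finset (Fin (d + 1))) (hS : S.card = r.val + 1) :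
    ∑ t, (shuffleI i j r S hS t).val =
      (∑ k ∈ S, (movingRows i j r k).val) +
        ∑ t ∈ Finset.univ.filter (fun t : Fin d => ¬ t.val ≤ r.val), (i.1 t).val := by
  rw [← Finset.sum_filter_add_sum_filter_not Finset.univ (fun t : Fin d => t.val ≤ r.val)]
  congr 1
  · conv_rhs => rw [← Finset.map_orderEmbOfFin_univ S hS, Finset.sum_map]
    refine Finset.sum_bij (fun t ht => ⟨t.val, by simp only [Finset.mem_filter] at ht; omega⟩)
      (fun _ _ => Finset.mem_univ _) (fun a _ b _ h => by simpa [Fin.ext_iff] using h)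
      (fun b _ => ⟨⟨b.val, by omega⟩, Finset.mem_filter.2 ⟨Finset.mem_univ _, show b.val ≤ r.val by omega⟩, rfl⟩) ?_
    intro t ht
    simp only [Finset.mem_filter] at ht
    simp only [shuffleI, dif_pos ht.2]; rfl
  · refine Finset.sum_congr rfl fun t ht => ?_
    simp only [Finset.mem_filter] at ht
    simp only [shuffleI, dif_neg ht.2]

theorem sum_shuffleJ (S : Finset (Fin (d + 1))) (hS : S.card = r.val + 1) :
    ∑ t, (shuffleJ i j r S hS t).val =
      (∑ k ∈ Sᶜ, (movingRows i j r k).val) +
        ∑ t ∈ Finset.univ.filter (fun t : Fin d => t.val < r.val), (j.1 t).val := by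
  rw [← Finset.sum_filter_add_sum_filter_not Finset.univ (fun t : Fin d => t.val < r.val), add_comm]
  congr 1
  · conv_rhs => rw [← Finset.map_orderEmbOfFin_univ Sᶜ (card_compl_of r hS), Finset.sum_map]
    refine Finset.sum_bij
      (fun t ht => ⟨t.val - r.val, by have := t.isLt; simp only [Finset.mem_filter] at ht; omega⟩)
      (fun _ _ => Finset.mem_univ _)
      (fun a ha b hb h => by
        simp only [Finset.mem_filter] at ha hb; simp [Fin.ext_iff] at h; exact Fin.ext (by omega))
      (fun b _ => ⟨⟨b.val + r.val, by omega⟩, Finset.mem_filter.2 ⟨Finset.mem_univ _, show ¬ (b.val + r.val < r.val) by omega⟩, Fin.ext (by simp)⟩) ?_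
    intro t ht
    simp only [Finset.mem_filter] at ht
    simp only [shuffleJ, dif_neg ht.2]; rfl
  · refine Finset.sum_congr rfl fun t ht => ?_
    simp only [Finset.mem_filter] at ht
    simp only [shuffleJ, dif_pos ht.2]

/-- a non-identity shuffle strictly increases the first weight, keeping the total -/
theorem wt_shuffle (hr : i.1 r < j.1 r) (S : Finset (Fin (d + 1))) (hS : S.card = r.val + 1)
    (hne : S ≠ front r) :
    wt i < ∑ t, (shuffleI i j r S hS t).val ∧
      (∑ t, (shuffleI i j r S hS t).val) + (∑ t, (shuffleJ i j r S hS t).val) = wt i + wt j := by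
  have hi := sum_shuffleI i j r (front r) (card_front r)
  have hj := sum_shuffleJ i j r (front r) (card_front r)
  rw [shuffleI_front] at hi
  rw [shuffleJ_front] at hj
  rw [sum_shuffleI i j r S hS, sum_shuffleJ i j r S hS]
  have htot := Finset.sum_add_sum_compl S fun k => (movingRows i j r k).val
  have htot' := Finset.sum_add_sum_compl (front r) fun k => (movingRows i j r k).val
  have hlt : ∑ k ∈ front r, (movingRows i j r k).val < ∑ k ∈ S, (movingRows i j r k).val := by
    rw [← Finset.map_orderEmbOfFin_univ S hS, Finset.sum_map,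
      ← Finset.map_orderEmbOfFin_univ (front r) (card_front r), Finset.sum_map]
    have hvm : StrictMono (fun k => (movingRows i j r k).val) := fun a b h => Fin.lt_def.1 (movingRows_strictMono i j r hr h)
    have hge : ∀ p : Fin (r.val + 1), p.val ≤ (S.orderEmbOfFin hS p).val := by
      intro p
      have h1 : ((Finset.Iio p).map (S.orderEmbOfFin hS).toEmbedding).card ≤
          (Finset.Iio (S.orderEmbOfFin hS p)).card := by
        refine Finset.card_le_card fun x hx => ?_
        obtain ⟨q, hq, rfl⟩ := Finset.mem_map.1 hx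
        exact Finset.mem_Iio.2 ((S.orderEmbOfFin hS).lt_iff_lt.2 (Finset.mem_Iio.1 hq))
      rwa [Finset.card_map, Fin.card_Iio, Fin.card_Iio] at h1
    refine Finset.sum_lt_sum (fun p _ => hvm.monotone ?_) ?_
    · simp only [RelEmbedding.coe_toEmbedding, orderEmb_front, Fin.le_def]; exact hge p
    · by_contra hc
      simp only [not_exists, not_and, not_lt, RelEmbedding.coe_toEmbedding, orderEmb_front] at hc
      refine hne (Finset.eq_of_subset_of_card_le ?_ (by rw [card_front, hS]))
      rw [← Finset.map_orderEmbOfFin_univ S hS]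
      intro x hx
      obtain ⟨p, -, rfl⟩ := Finset.mem_map.1 hx
      have := hvm.le_iff_le.1 (hc p (Finset.mem_univ p))
      simp only [Fin.le_def] at this
      simp [front]; omega
  have ei : wt i = ∑ t, (i.1 t).val := rfl
  have ej : wt j = ∑ t, (j.1 t).val := rfl
  constructor <;> omega

end

theorem plIdealTop_le_ker_ev {R : Type*} [CommRing R] [Algebra K R] (A : Matrix (Fin n) (Fin d) R) :
    plIdealTop (d := d) (n := n) K ≤ RingHom.ker (ev K A).toRingHom := by
  rw [plIdealTop, Ideal.span_le]
  rintro f ⟨i, j, r, -, rfl⟩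
  exact ev_shuffleRel i j r A

/-- sorting a pairwise comparable multiset into a chain -/
theorem exists_chain (s : Multiset (Idx d n)) (hs : ∀ a ∈ s, ∀ b ∈ s, a ≤ b ∨ b ≤ a) :
    ∀ m, Multiset.card s = m → ∃ c : Fin m → Idx d n, Antitone c ∧ mon K s = chainMon K c ∧
      (∑ k, wt (c k)) = (s.map wt).sum ∧ (∀ k, c k ∈ s) ∧ (s.map fun θ => wt θ ^ 2).sum ≤ ∑ k, wt (c k) ^ 2 := by
  intro m hm
  induction m generalizing s with
  | zero =>
    rw [Multiset.card_eq_zero] at hm; subst hm
    exact ⟨Fin.elim0, fun a => a.elim0, by simp [mon, chainMon], by simp, fun k => k.elim0, by simp⟩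
  | succ m ih =>
    classical
    have hne : s.toFinset.Nonempty := by
      rw [Multiset.toFinset_nonempty]; intro h; rw [h] at hm; simp at hm
    obtain ⟨a, ha, hmax⟩ := Finset.exists_max_image s.toFinset wt hne
    rw [Multiset.mem_toFinset] at ha
    obtain ⟨s', rfl⟩ := Multiset.exists_cons_of_mem ha
    have htop : ∀ b ∈ s', b ≤ a := fun b hb => by
      rcases hs b (Multiset.mem_cons_of_mem hb) a ha with h | h
      · exact h
      · rcases h.lt_or_eq with h' | h'
        · exact absurd (hmax b (Multiset.mem_toFinset.2 (Multiset.mem_cons_of_mem hb)))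
            (not_le.2 (wt_lt_of_lt h'))
        · exact h'.ge
    obtain ⟨c, hc, hmon, hwt, hmem, hsq⟩ := ih s'
      (fun x hx y hy => hs x (Multiset.mem_cons_of_mem hx) y (Multiset.mem_cons_of_mem hy))
      (by simpa using hm)
    refine ⟨Fin.cons a c, ?_, ?_, ?_, ?_, ?_⟩
    · intro x y hxy
      induction x using Fin.cases with
      | zero =>
        induction y using Fin.cases with
        | zero => simp
        | succ y => simpa using htop _ (hmem y)
      | succ x =>
        induction y using Fin.cases with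
        | zero => exact absurd hxy (by simp)
        | succ y => simpa using hc (Fin.succ_le_succ_iff.1 hxy)
    · rw [mon_cons, hmon, chainMon, chainMon, Fin.prod_univ_succ]; simp
    · rw [Fin.sum_univ_succ]; simp [hwt]
    · intro k
      induction k using Fin.cases with
      | zero => simp
      | succ k => simp [hmem k]
    · rw [Fin.sum_univ_succ]
      simp only [Fin.cons_zero, Fin.cons_succ, Multiset.map_cons, Multiset.sum_cons]
      exact Nat.add_le_add_left hsq _

/-- standard monomials of degree `m` and total weight `W` -/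
def stdSet (K : Type u) [CommRing K] (d n m W : ℕ) : Set (PlRing K d n) :=
  {f | ∃ c : Fin m → Idx d n, Antitone c ∧ (∑ k, wt (c k)) = W ∧ f = chainMon K c}

/-- standard monomials of degree `m`, total weight `W` and potential at least `P` -/
def stdSetSq (K : Type u) [CommRing K] (d n m W P : ℕ) : Set (PlRing K d n) :=
  {f | ∃ c : Fin m → Idx d n, Antitone c ∧ (∑ k, wt (c k)) = W ∧ P ≤ ∑ k, wt (c k) ^ 2 ∧ f = chainMon K c}

/-- Straightening, with the quadratic potential. -/
theorem straighten_sq (s : Multiset (Idx d n)) :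
    mon K s ∈ Submodule.span K (stdSetSq K d n (Multiset.card s) (s.map wt).sum (s.map fun θ => wt θ ^ 2).sum) ⊔
      (plIdealTop (d := d) (n := n) K).restrictScalars K := by
  induction hN : Multiset.card s * (d * n) ^ 2 - (s.map fun θ => wt θ ^ 2).sum using Nat.strong_induction_on
    generalizing s with
  | _ N ih =>
  by_cases hs : ∀ a ∈ s, ∀ b ∈ s, a ≤ b ∨ b ≤ a
  · obtain ⟨c, hc, hmon, hwt, -, hsq'⟩ := exists_chain (K := K) s hs _ rfl
    exact Submodule.mem_sup_left (Submodule.subset_span ⟨c, hc, hwt, hsq', hmon⟩)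
  · classical
    push Not at hs
    obtain ⟨a, ha, b, hb, hab, hba⟩ := hs
    -- orient the pair
    obtain ⟨i, hi, j, hj, hji, hw⟩ : ∃ i ∈ s, ∃ j ∈ s, ¬ j ≤ i ∧ wt j ≤ wt i := by
      rcases le_total (wt b) (wt a) with h | h
      · exact ⟨a, ha, b, hb, hba, h⟩
      · exact ⟨b, hb, a, ha, hab, h⟩
    have hne : j ≠ i := fun h => hji h.le
    obtain ⟨s₁, rfl⟩ := Multiset.exists_cons_of_mem hi
    obtain ⟨s', rfl⟩ := Multiset.exists_cons_of_mem ((Multiset.mem_cons.1 hj).resolve_left hne)
    obtain ⟨r, hr⟩ := exists_pivot hji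
    set M := Submodule.span K (stdSetSq K d n (Multiset.card (i ::ₘ j ::ₘ s'))
      ((i ::ₘ j ::ₘ s').map wt).sum ((i ::ₘ j ::ₘ s').map fun θ => wt θ ^ 2).sum) ⊔ (plIdealTop (d := d) (n := n) K).restrictScalars K with hM
    have hrel : shuffleRel K i j r * mon K s' ∈ M :=
      Submodule.mem_sup_right ((plIdealTop (d := d) (n := n) K).mul_mem_right _
        (Ideal.subset_span ⟨i, j, r, hr, rfl⟩))
    rw [shuffleRel, ← Finset.add_sum_erase _ _ (Finset.mem_univ (front r)), shuffleTerm_front, add_mul,
      Finset.sum_mul] at hrel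
    rw [mon_cons, mon_cons, ← mul_assoc]
    refine (Submodule.add_mem_iff_left M (Submodule.sum_mem M fun S hS => ?_)).1 hrel
    rw [Finset.mem_erase] at hS
    unfold shuffleTerm
    split_ifs with hcard
    · obtain ⟨hlt, htot⟩ := wt_shuffle i j r hr.2 S hcard hS.1
      rcases coord_cases (K := K) (shuffleI i j r S hcard) with h | ⟨θ, e, he, hθ⟩
      · simp [h]
      rcases coord_cases (K := K) (shuffleJ i j r S hcard) with h | ⟨φ, e', he', hφ⟩
      · simp [h]
      rw [← hθ] at hlt htot
      rw [← hφ] at htot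
      have heq : (-1 : PlRing K d n) ^ shuffleSign r S * coord K d n (shuffleI i j r S hcard) *
          coord K d n (shuffleJ i j r S hcard) * mon K s' =
          ((-1 : K) ^ (shuffleSign r S + e + e')) • mon K (θ ::ₘ φ ::ₘ s') := by
        rw [he, he', mon_cons, mon_cons, Algebra.smul_def, map_pow, map_neg, map_one]; ring
      rw [heq]
      refine M.smul_mem _ ?_
      have hsq : wt i ^ 2 + wt j ^ 2 < wt θ ^ 2 + wt φ ^ 2 := by
        obtain ⟨k, hk⟩ : ∃ k, wt θ = wt i + k + 1 := ⟨wt θ - wt i - 1, by omega⟩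
        have hj' : wt j = wt φ + k + 1 := by omega
        have h2 : wt φ + k + 1 ≤ wt i := by omega
        rw [hj', hk]; nlinarith
      have hbound : ∀ t : Multiset (Idx d n), (t.map fun x => wt x ^ 2).sum ≤ Multiset.card t * (d * n) ^ 2 := by
        intro t
        induction t using Multiset.induction with
        | empty => simp
        | cons x t iht =>
          have := Nat.pow_le_pow_left (wt_le x) 2
          simp only [Multiset.map_cons, Multiset.sum_cons, Multiset.card_cons]; linarith
      have hb2 := hbound (θ ::ₘ φ ::ₘ s')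
      have := ih _ (by
        rw [← hN]
        simp only [Multiset.map_cons, Multiset.sum_cons, Multiset.card_cons] at hb2 ⊢
        omega) (θ ::ₘ φ ::ₘ s') rfl
      have hwt' : ((θ ::ₘ φ ::ₘ s').map wt).sum = ((i ::ₘ j ::ₘ s').map wt).sum := by
        simp only [Multiset.map_cons, Multiset.sum_cons]; omega
      rw [hwt', show Multiset.card (θ ::ₘ φ ::ₘ s') = Multiset.card (i ::ₘ j ::ₘ s') by simp] at this
      refine SetLike.le_def.1 (sup_le_sup_right (Submodule.span_mono ?_) _) this
      rintro f ⟨c, hc, hw', hΦ, rfl⟩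
      refine ⟨c, hc, hw', le_trans ?_ hΦ, rfl⟩
      simp only [Multiset.map_cons, Multiset.sum_cons]; omega
    · simp

/-- Straightening. -/
theorem straighten (s : Multiset (Idx d n)) :
    mon K s ∈ Submodule.span K (stdSet K d n (Multiset.card s) (s.map wt).sum) ⊔
      (plIdealTop (d := d) (n := n) K).restrictScalars K :=
  SetLike.le_def.1 (sup_le_sup_right (Submodule.span_mono (by
    rintro f ⟨c, hc, hw, -, rfl⟩; exact ⟨c, hc, hw, rfl⟩)) _) (straighten_sq s)

/-- A skew pair straightens to pairs of strictly larger potential. -/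
theorem straighten_pair_sq {a b : Idx d n} (hab : ¬ a ≤ b) (hba : ¬ b ≤ a) :
    X a * X b ∈ Submodule.span K (stdSetSq K d n 2 (wt a + wt b) (wt a ^ 2 + wt b ^ 2 + 1)) ⊔
      (plIdealTop (d := d) (n := n) K).restrictScalars K := by
  obtain ⟨i, j, hji, hw, hX, hW, hP⟩ : ∃ i j : Idx d n, ¬ j ≤ i ∧ wt j ≤ wt i ∧
      (X a * X b : PlRing K d n) = X i * X j ∧ wt a + wt b = wt i + wt j ∧
      wt a ^ 2 + wt b ^ 2 = wt i ^ 2 + wt j ^ 2 := by
    rcases le_total (wt b) (wt a) with h | h
    · exact ⟨a, b, hba, h, rfl, rfl, rfl⟩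
    · exact ⟨b, a, hab, h, mul_comm _ _, add_comm _ _, add_comm _ _⟩
  rw [hX, hW, hP]
  obtain ⟨r, hr⟩ := exists_pivot hji
  set M := Submodule.span K (stdSetSq K d n 2 (wt i + wt j) (wt i ^ 2 + wt j ^ 2 + 1)) ⊔
    (plIdealTop (d := d) (n := n) K).restrictScalars K with hM
  have hrel : shuffleRel K i j r ∈ M := Submodule.mem_sup_right (Ideal.subset_span ⟨i, j, r, hr, rfl⟩)
  rw [shuffleRel, ← Finset.add_sum_erase _ _ (Finset.mem_univ (front r)), shuffleTerm_front] at hrel
  refine (Submodule.add_mem_iff_left M (Submodule.sum_mem M fun S hS => ?_)).1 hrel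
  rw [Finset.mem_erase] at hS
  unfold shuffleTerm
  split_ifs with hcard
  · obtain ⟨hlt, htot⟩ := wt_shuffle i j r hr.2 S hcard hS.1
    rcases coord_cases (K := K) (shuffleI i j r S hcard) with h | ⟨θ, e, he, hθ⟩
    · simp [h]
    rcases coord_cases (K := K) (shuffleJ i j r S hcard) with h | ⟨φ, e', he', hφ⟩
    · simp [h]
    rw [← hθ] at hlt htot
    rw [← hφ] at htot
    have heq : (-1 : PlRing K d n) ^ shuffleSign r S * coord K d n (shuffleI i j r S hcard) *
        coord K d n (shuffleJ i j r S hcard) =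
        ((-1 : K) ^ (shuffleSign r S + e + e')) • mon K (θ ::ₘ φ ::ₘ 0) := by
      rw [he, he', mon_cons, mon_cons, Algebra.smul_def, map_pow, map_neg, map_one]; simp [mon]; ring
    rw [heq]
    refine M.smul_mem _ ?_
    have hsq : wt i ^ 2 + wt j ^ 2 < wt θ ^ 2 + wt φ ^ 2 := by
      obtain ⟨k, hk⟩ : ∃ k, wt θ = wt i + k + 1 := ⟨wt θ - wt i - 1, by omega⟩
      have hj' : wt j = wt φ + k + 1 := by omega
      have h2 : wt φ + k + 1 ≤ wt i := by omega
      rw [hj', hk]; nlinarith
    refine SetLike.le_def.1 (sup_le_sup_right (Submodule.span_mono ?_) _) (straighten_sq (θ ::ₘ φ ::ₘ 0))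
    rintro f ⟨c, hc, hw', hΦ, rfl⟩
    refine ⟨c, hc, hw'.trans ?_, le_trans ?_ hΦ, rfl⟩
    · simp [htot]
    · simp only [Multiset.map_cons, Multiset.sum_cons, Multiset.map_zero, Multiset.sum_zero]; omega
  · simp

end Groth.Agent.H26Grass
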